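import Cfsg.Agent.Mrg.Omega.VP
import Cfsg.Agent.Mrg.Omega.NatPair.Pair
import Cfsg.Agent.MinSimple.VModule
import Cfsg.Agent.Mrg.Omega.Mix.Entry
import Cfsg.Agent.Mrg.Omega.Mix.OfFrame

section


/-!
# THEOREM ALL from `R` TI (OMEGA #13114, #13498)

`V = V_{P₁}` a natural module, `R ≥ Z = Ω₁(Z(S))` its line, `W = O₂(N_G(R)) = ⟨V^{N_G(R)}⟩`, `[W, W] ≤ R`,
`C_G(W) ≤ R`, `C_{W/R}(S ∩ C_G(R)) ≤ V/R`, `V_P ≤ O₂(C_G(Z))` for all `P ∈ P*(S)`, and `R` is a TI-subgroup.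
Then every `P ∈ P(S)` lies in `N_G(R)` or in `N_G(V)`.

* `Inp` : the hypotheses; `Mix` : the output of the mixed pair lemma (`All/Mixed.lean`);
* `Inp.zl_le_W` : `V_P ≤ W` for all `P ∈ P*(S)`;
* `Inp.par_le` : the conclusion.
-/

set_option autoImplicit false

namespace Cfsg.Agent.Omega.All

open Subgroup Cfsg Cfsg.Agent.ZN Cfsg.Agent.Omega.MinPar Cfsg.Agent.Omega.Frame
open Cfsg.Agent.Omega.FrameLE (AllIn)
open Cfsg.Agent.Omega.FrameNOFF (CZ)
open Cfsg.Agent.Omega.NatPair (NatMod cj mem_cj)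
open Cfsg.Agent.MinSimple.VModule (le_o2 mem_zc zc_le zc_le_zl zl_le le_normalizer_zl o2_le o2_isPGroup
  le_normalizer_o2 le_centralizer_zc zc_comm normalizer_le_normalizer_zc)
open Cfsg.Agent.MinSimple.Basic (zc_ne_bot)

universe u

variable {G : Type u} [Group G]

/-- Output of the mixed pair lemma for the natural module `A` and `U = V_P`. -/
def Mix {F : Type*} [Field F] (S U : Subgroup G) {A : Subgroup G} (M : NatMod F A) : Prop :=
  ∃ w : Fin 2 → F, w ≠ 0 ∧ A ⊓ U = M.line w ∧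
    (∀ r ∈ A ⊓ U, ∃ a ∈ A, ∃ u ∈ U, a * u * a⁻¹ * u⁻¹ = r) ∧ Nat.card U = Nat.card A ∧
    ∀ s ∈ S, (∀ r ∈ A ⊓ U, s * r = r * s) → ∀ u ∈ U, s * u * s⁻¹ * u⁻¹ ∈ A ⊓ U

/-- The hypotheses of THEOREM ALL. -/
structure Inp (S V R W : Subgroup G) : Prop where
  allIn : AllIn S
  VS : V ≤ S
  SV : S ≤ normalizer (V : Set G)
  comm : ∀ v ∈ V, ∀ w ∈ V, v * w = w * v
  RV : R ≤ V
  SR : S ≤ normalizer (R : Set G)
  ZR : zc S ≤ R
  ti : ∀ g r : G, r ∈ R → r ≠ 1 → g * r * g⁻¹ ∈ R → g ∈ normalizer (R : Set G)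
  W_eq : W = o2 (normalizer (R : Set G))
  W_cen : W ≤ centralizer (R : Set G)
  VW : ∀ h ∈ normalizer (R : Set G), cj h V ≤ W
  W_gen : ∀ X : Subgroup G, (∀ h ∈ normalizer (R : Set G), cj h V ≤ X) → W ≤ X
  WW : ∀ a ∈ W, ∀ b ∈ W, a * b * a⁻¹ * b⁻¹ ∈ R
  cenW : centralizer (W : Set G) ≤ R
  line : ∀ u ∈ W, (∀ s ∈ S, s ∈ centralizer (R : Set G) → s * u * s⁻¹ * u⁻¹ ∈ R) → u ∈ V

/-- `2`-groups have nontrivial `Ω₁(Z)`; a nontrivial subgroup normalised by `S` meets `zc S`. -/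
theorem exists_zc_mem {S X : Subgroup G} [Finite G] (hS : IsPGroup 2 S) (hXS : X ≤ S)
    (hn : S ≤ normalizer (X : Set G)) (h2 : ∀ x ∈ X, x * x = 1) (hne : X ≠ ⊥) : ∃ z ∈ zc S, z ∈ X ∧ z ≠ 1 := by
  have hf : Fact (Nat.Prime 2) := ⟨Nat.prime_two⟩
  -- the action of `S` on `X`
  let _ : MulAction S X :=
    { smul := fun s x => ⟨s * x * (s : G)⁻¹, (mem_normalizer_iff.1 (hn s.2) x).1 x.2⟩
      one_smul := fun x => Subtype.ext (by
        show ((1 : S) : G) * x * ((1 : S) : G)⁻¹ = x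
        simp)
      mul_smul := fun s t x => Subtype.ext (by
        show ((s * t : S) : G) * x * ((s * t : S) : G)⁻¹ = s * (t * x * (t : G)⁻¹) * (s : G)⁻¹
        rw [coe_mul]; group) }
  have hval : ∀ (s : S) (x : X), ((s • x : X) : G) = s * x * (s : G)⁻¹ := fun s x => rfl
  have hcard : 2 ∣ Nat.card X := by
    have hX : IsPGroup 2 X := hS.to_le hXS
    obtain ⟨n, hn'⟩ := IsPGroup.iff_card.1 hX
    rw [hn']
    have : n ≠ 0 := by
      rintro rfl
      rw [pow_zero] at hn'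
      exact hne (Subgroup.card_eq_one.1 hn')
    exact dvd_pow_self 2 this
  have h1 : (1 : X) ∈ MulAction.fixedPoints S X := fun s => Subtype.ext (by rw [hval]; simp)
  obtain ⟨z, hz, hz1⟩ := hS.exists_fixed_point_of_prime_dvd_card_of_fixed_point X hcard h1
  refine ⟨z, mem_zc.2 ⟨hXS z.2, fun s hs => ?_, by rw [pow_two]; exact h2 z z.2⟩, z.2, fun h => hz1 (Subtype.ext h.symm)⟩
  have h3 := congrArg Subtype.val (hz ⟨s, hs⟩)
  rw [hval] at h3
  calc s * (z : G) = s * z * s⁻¹ * s := by group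
    _ = z * s := by rw [h3]

namespace Inp

variable {S V R W : Subgroup G} (I : Inp S V R W)
include I

theorem R_le_S : R ≤ S := I.RV.trans I.VS

/-- `N_G(Z) ≤ N_G(R)` -/
theorem normalizer_zc_le [Finite G] (hZ : zc S ≠ ⊥) : normalizer (zc S : Set G) ≤ normalizer (R : Set G) := by
  intro g hg
  obtain ⟨z, hz1⟩ := Subgroup.ne_bot_iff_exists_ne_one.1 hZ
  exact I.ti g z (I.ZR z.2) (fun h => hz1 (Subtype.ext h)) (I.ZR ((mem_normalizer_iff.1 hg z).1 z.2))

theorem CZ_le [Finite G] (hZ : zc S ≠ ⊥) : CZ S ≤ normalizer (R : Set G) := by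
  refine le_trans ?_ (I.normalizer_zc_le hZ)
  exact centralizer_le_normalizer _

theorem cen_le_CZ : centralizer (R : Set G) ≤ CZ S := centralizer_le I.ZR

/-- `O₂(C_G(Z)) ∩ C_G(R) ≤ W` -/
theorem inf_le_W [Finite G] : o2 (CZ S) ⊓ centralizer (R : Set G) ≤ W := by
  have h0 : centralizer (R : Set G) ≤ normalizer (R : Set G) := centralizer_le_normalizer _
  have hn : normalizer (R : Set G) ≤ normalizer ((centralizer (R : Set G) : Subgroup G) : Set G) := by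
    intro g hg
    rw [mem_normalizer_iff]
    have key : ∀ g ∈ normalizer (R : Set G), ∀ x ∈ centralizer (R : Set G), g * x * g⁻¹ ∈ centralizer (R : Set G) := by
      intro g hg x hx
      rw [mem_centralizer_iff] at hx ⊢
      intro r hr
      have h1 : g⁻¹ * r * g ∈ R := by
        have := (mem_normalizer_iff.1 (inv_mem hg) r).1 hr
        rwa [inv_inv] at this
      have h2 := hx _ h1
      calc r * (g * x * g⁻¹) = g * (g⁻¹ * r * g * x) * g⁻¹ := by group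
        _ = g * (x * (g⁻¹ * r * g)) * g⁻¹ := by rw [h2]
        _ = g * x * g⁻¹ * r := by group
    intro x
    constructor
    · exact key g hg x
    · intro hx
      have := key g⁻¹ (inv_mem hg) _ hx
      have e : g⁻¹ * (g * x * g⁻¹) * g⁻¹⁻¹ = x := by group
      rwa [e] at this
  -- `O₂(C_G(Z)) ∩ C_G(R) ≤ O₂(C_G(R))`
  have h1 : o2 (CZ S) ⊓ centralizer (R : Set G) ≤ o2 (centralizer (R : Set G)) := by
    apply le_o2 inf_le_right ((o2_isPGroup _).to_le inf_le_left)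
    intro g hg
    have hg1 : g ∈ normalizer (o2 (CZ S) : Set G) := le_normalizer_o2 _ (I.cen_le_CZ hg)
    rw [mem_normalizer_iff]
    intro x
    rw [mem_inf, mem_inf]
    exact and_congr (mem_normalizer_iff.1 hg1 x)
      ⟨fun hx => mul_mem (mul_mem hg hx) (inv_mem hg), fun hx => by
        have := mul_mem (mul_mem (inv_mem hg) hx) hg
        have e : g⁻¹ * (g * x * g⁻¹) * g = x := by group
        rwa [e] at this⟩
  -- `O₂(C_G(R)) ≤ O₂(N_G(R)) = W`
  have h2 : o2 (centralizer (R : Set G)) ≤ o2 (normalizer (R : Set G)) := by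
    apply le_o2 ((o2_le _).trans h0) (o2_isPGroup _)
    have key : ∀ g ∈ normalizer (R : Set G), ∀ x ∈ o2 (centralizer (R : Set G)),
        g * x * g⁻¹ ∈ o2 (centralizer (R : Set G)) := by
      intro g hg x hx
      have h3 : (o2 (centralizer (R : Set G))).map (MulAut.conj g).toMonoidHom ≤ o2 (centralizer (R : Set G)) := by
        apply le_o2
        · rintro _ ⟨y, hy, rfl⟩
          exact (mem_normalizer_iff.1 (hn hg) y).1 (o2_le _ hy)
        · exact (o2_isPGroup _).map _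
        · intro c hc
          have hc' : g⁻¹ * c * g ∈ centralizer (R : Set G) := by
            have := (mem_normalizer_iff.1 (inv_mem (hn hg)) c).1 hc
            rwa [inv_inv] at this
          have hc2 := le_normalizer_o2 _ hc'
          rw [mem_normalizer_iff]
          intro y
          change y ∈ cj g _ ↔ c * y * c⁻¹ ∈ cj g _
          rw [mem_cj, mem_cj]
          have e : g⁻¹ * (c * y * c⁻¹) * g = (g⁻¹ * c * g) * (g⁻¹ * y * g) * (g⁻¹ * c * g)⁻¹ := by group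
          rw [e]
          exact mem_normalizer_iff.1 hc2 _
      exact h3 ⟨x, hx, rfl⟩
    intro g hg
    rw [mem_normalizer_iff]
    intro x
    constructor
    · exact key g hg x
    · intro hx
      have := key g⁻¹ (inv_mem hg) _ hx
      have e : g⁻¹ * (g * x * g⁻¹) * g⁻¹⁻¹ = x := by group
      rwa [e] at this
  rw [I.W_eq]
  exact h1.trans h2

/-- `W ≤ O₂(C_G(Z))` -/
theorem W_le_o2 [Finite G] (hZ : zc S ≠ ⊥) : W ≤ o2 (CZ S) := by
  apply le_o2 (I.W_cen.trans I.cen_le_CZ)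
  · rw [I.W_eq]; exact o2_isPGroup _
  · refine (I.CZ_le hZ).trans ?_
    have := le_normalizer_o2 (normalizer (R : Set G))
    rwa [← I.W_eq] at this

end Inp

/-- lines of `V` that meet nontrivially are equal -/
theorem line_eq {F : Type*} [Field F] {V : Subgroup G} (M : NatMod F V) {w w' : Fin 2 → F} {g : G}
    (h1 : g ∈ M.line w) (h2 : g ∈ M.line w') (hg : g ≠ 1) : M.line w = M.line w' := by
  obtain ⟨c, hc⟩ := h1
  obtain ⟨d, hd⟩ := h2
  have hc0 : c ≠ 0 := by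
    rintro rfl
    rw [zero_smul, M.e_zero] at hc
    exact hg hc.symm
  have hd0 : d ≠ 0 := by
    rintro rfl
    rw [zero_smul, M.e_zero] at hd
    exact hg hd.symm
  have h3 : c • w = d • w' := M.e_inj (hc.trans hd.symm)
  ext x
  rw [M.mem_line, M.mem_line]
  constructor
  · rintro ⟨a, rfl⟩
    refine ⟨a * c⁻¹ * d, ?_⟩
    rw [mul_smul, ← h3, smul_smul, mul_assoc, inv_mul_cancel₀ hc0, mul_one]
  · rintro ⟨a, rfl⟩
    refine ⟨a * d⁻¹ * c, ?_⟩
    rw [mul_smul, h3, smul_smul, mul_assoc, inv_mul_cancel₀ hd0, mul_one]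

/-- `O₂(C_G(Z)) ≤ S` -/
theorem o2_CZ_le (S : Sylow 2 G) [Finite G] : o2 (CZ (S : Subgroup G)) ≤ (S : Subgroup G) :=
  le_of_le_normalizer S (o2_isPGroup _) ((le_centralizer_zc _).trans (le_normalizer_o2 _))

/-! ### The theorem -/

section main

variable [Finite G] {F : Type*} [Field F] (S : Sylow 2 G) {V R W : Subgroup G} (I : Inp (S : Subgroup G) V R W)
  (hG : IsCharacteristicTwoType G) (M : NatMod F V) {w₀ : Fin 2 → F} (hR : R = M.line w₀) (hZ : zc (S : Subgroup G) ≠ ⊥)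
  (hmix : ∀ P : Subgroup G, IsParS (S : Subgroup G) P → ∀ h ∈ normalizer (R : Set G),
    cj h V ≤ (S : Subgroup G) →
    NatPair.Mutual (cj h V) (zl (S : Subgroup G) P) → Mix (S : Subgroup G) (zl (S : Subgroup G) P) (M.conj h))
include I hG hR hZ hmix

/-- (ii): `V_P ≤ W` for all `P ∈ P*(S)`. -/
theorem zl_le_W {P : Subgroup G} (hP : IsParS (S : Subgroup G) P) : zl (S : Subgroup G) P ≤ W := by
  set U := zl (S : Subgroup G) P with hU
  have hUQ : U ≤ o2 (CZ (S : Subgroup G)) := I.allIn P hP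
  have hUS : U ≤ (S : Subgroup G) := hUQ.trans (o2_CZ_le S)
  have hSU : (S : Subgroup G) ≤ normalizer (U : Set G) := hP.le.trans (le_normalizer_zl _ _)
  suffices hc : U ≤ centralizer (R : Set G) from (le_inf hUQ hc).trans I.inf_le_W
  by_cases hcom : ∀ v ∈ V, ∀ u ∈ U, v * u = u * v
  · intro u hu
    rw [mem_centralizer_iff]
    exact fun r hr => hcom r (I.RV hr) u hu
  · push Not at hcom
    have hcj1 : cj 1 V = V := NatPair.cj_one V
    have hmut : NatPair.Mutual (cj 1 V) U := by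
      rw [hcj1]
      obtain ⟨v, hv, u, hu, hvu⟩ := hcom
      exact ⟨hUS.trans I.SV, I.VS.trans hSU, v, hv, u, hu, hvu⟩
    obtain ⟨w, hw, hl, -, -, -⟩ := hmix P hP 1 (one_mem _) (hcj1.symm ▸ I.VS) hmut
    have hl' : V ⊓ U = M.line w := by
      have h3 := hl
      rw [NatPair.NatMod.conj_line M 1 w, NatPair.cj_one, NatPair.cj_one] at h3
      exact h3
    -- `V ∩ U` meets `zc S`
    have hne : V ⊓ U ≠ ⊥ := by
      rw [hl']
      intro h
      have h1 : M.e ((1 : F) • w) ∈ M.line w := ⟨1, rfl⟩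
      rw [h, mem_bot, one_smul, M.e_eq_one] at h1
      exact hw h1
    obtain ⟨z, hz, hzX, hz1⟩ := exists_zc_mem (S := (S : Subgroup G)) (X := V ⊓ U) S.isPGroup'
      (inf_le_left.trans I.VS) (by
        intro s hs
        rw [mem_normalizer_iff]
        intro x
        rw [mem_inf, mem_inf]
        exact and_congr (mem_normalizer_iff.1 (I.SV hs) x) (mem_normalizer_iff.1 (hSU hs) x))
      (by
        intro x hx
        rw [← pow_two]
        exact (mem_zc.1 (hP.isLoc.zl_le S hG hx.2)).2.2) hne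
    have hVU : V ⊓ U = R := by
      rw [hl', hR]
      refine line_eq M (g := z) ?_ ?_ hz1
      · rw [← hl']; exact hzX
      · rw [← hR]; exact I.ZR hz
    intro u hu
    rw [mem_centralizer_iff]
    intro r hr
    have hrU : r ∈ U := by
      have : r ∈ V ⊓ U := by rw [hVU]; exact hr
      exact this.2
    exact zc_comm _ _ (hP.isLoc.zl_le S hG hrU) _ (hP.isLoc.zl_le S hG hu)

/-- **THEOREM ALL**: every `P ∈ P(S)` lies in `N_G(R)` or in `N_G(V)`. -/
theorem par_le {P : Subgroup G} (hP : IsPar (S : Subgroup G) P) :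
    P ≤ normalizer (R : Set G) ∨ P ≤ normalizer (V : Set G) := by
  by_cases hstar : P ≤ normalizer (zc (S : Subgroup G) : Set G)
  · exact Or.inl (hstar.trans (I.normalizer_zc_le hZ))
  have hPs : IsParS (S : Subgroup G) P := ⟨hP, hstar⟩
  set U := zl (S : Subgroup G) P with hU
  have hUW : U ≤ W := zl_le_W S I hG M hR hZ hmix hPs
  have hUn : P ≤ normalizer (U : Set G) := le_normalizer_zl _ _
  have hWS : W ≤ (S : Subgroup G) := (I.W_le_o2 hZ).trans (o2_CZ_le S)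
  by_cases hcom : ∀ h ∈ normalizer (R : Set G), ∀ a ∈ cj h V, ∀ u ∈ U, a * u = u * a
  · -- `V_P ≤ C_G(W) ≤ R`
    left
    have hUR : U ≤ R := by
      refine le_trans ?_ I.cenW
      intro u hu
      rw [mem_centralizer_iff]
      have h1 : W ≤ centralizer (U : Set G) := I.W_gen _ fun h hh a ha => by
        rw [mem_centralizer_iff]
        exact fun u hu => (hcom h hh a ha u hu).symm
      intro a ha
      exact ((mem_centralizer_iff.1 (h1 ha)) u hu).symm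
    have hne : U ≠ ⊥ := fun h => hZ (le_bot_iff.1 (h ▸ zc_le_zl _ _))
    obtain ⟨u, hu1⟩ := Subgroup.ne_bot_iff_exists_ne_one.1 hne
    intro p hp
    exact I.ti p u (hUR u.2) (fun h => hu1 (Subtype.ext h)) (hUR ((mem_normalizer_iff.1 (hUn hp) u).1 u.2))
  · right
    push Not at hcom
    obtain ⟨h, hh, a, ha, u, hu, hau⟩ := hcom
    have hVW := I.VW h hh
    -- `R ≤ V^h`
    have hRV : R ≤ cj h V := by
      intro r hr
      rw [mem_cj]
      apply I.RV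
      have := (mem_normalizer_iff.1 (inv_mem hh) r).1 hr
      rwa [inv_inv] at this
    have hWn : W ≤ normalizer ((cj h V : Subgroup G) : Set G) := by
      intro x hx
      have key : ∀ x ∈ W, ∀ y ∈ cj h V, x * y * x⁻¹ ∈ cj h V := by
        intro x hx y hy
        have h1 : x * y * x⁻¹ = (x * y * x⁻¹ * y⁻¹) * y := by group
        rw [h1]
        exact mul_mem (hRV (I.WW x hx y (hVW hy))) hy
      rw [mem_normalizer_iff]
      intro y
      constructor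
      · exact key x hx y
      · intro hy
        have := key x⁻¹ (inv_mem hx) _ hy
        have e : x⁻¹ * (x * y * x⁻¹) * x⁻¹⁻¹ = y := by group
        rwa [e] at this
    obtain ⟨w, hw, hl, hfull, hcard, hS⟩ := hmix P hPs h hh (hVW.trans hWS)
      ⟨hUW.trans hWn, (hVW.trans hWS).trans (hPs.le.trans hUn), a, ha, u, hu, hau⟩
    -- `V^h ∩ V_P = R`
    have hle : cj h V ⊓ U ≤ R := by
      intro r hr
      obtain ⟨b, hb, c, hc, rfl⟩ := hfull r hr
      exact I.WW b (hVW hb) c (hUW hc)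
    have hRl : cj h V ⊓ U = R := by
      obtain ⟨x, hx1⟩ := Subgroup.ne_bot_iff_exists_ne_one.1 (show cj h V ⊓ U ≠ ⊥ by
        rw [hl]
        intro h0
        have h1 : (M.conj h).e ((1 : F) • w) ∈ (M.conj h).line w := ⟨1, rfl⟩
        rw [h0, mem_bot, one_smul, (M.conj h).e_eq_one] at h1
        exact hw h1)
      -- `R` is a line of `V^h`
      have hRh : R = (M.conj h).line w₀ := by
        rw [NatPair.NatMod.conj_line, ← hR]
        exact (NatPair.cj_eq_iff.2 hh).symm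
      rw [hl, hRh]
      refine line_eq (M.conj h) (g := (x : G)) ?_ ?_ fun h => hx1 (Subtype.ext h)
      · rw [← hl]; exact x.2
      · rw [← hRh]; exact hle x.2
    -- `V_P ≤ V`
    have hUV : U ≤ V := by
      intro c hc
      apply I.line c (hUW hc)
      intro s hs hsR
      rw [← hRl]
      apply hS s hs _ c hc
      intro r hr
      rw [hRl] at hr
      exact ((mem_centralizer_iff.1 hsR) r hr).symm
    have hcV : Nat.card (cj h V) = Nat.card V :=
      (Nat.card_congr ((V.equivMapOfInjective _ (MulAut.conj h).injective).toEquiv)).symm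
    have hUV' : U = V := Subgroup.eq_of_le_of_card_ge hUV (by rw [hcard, hcV])
    rw [← hUV']
    exact hUn

end main

end Cfsg.Agent.Omega.All

end

section


/-!
# THEOREM ALL, consequence for the frame

* `sup_eq_top` : in case `Full S`, `G = ⟨N_G(R), N_G(V)⟩`.
-/

set_option autoImplicit false

namespace Cfsg.Agent.Omega.All

open Subgroup Cfsg Cfsg.Agent.ZN Cfsg.Agent.Omega.MinPar Cfsg.Agent.Omega.Frame
open Cfsg.Agent.Omega.NatPair (NatMod cj mem_cj)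
open Cfsg.Agent.MinSimple.VModule (normalizer_le_normalizer_zc)

universe u

variable {G : Type u} [Group G] [Finite G]

/-- A subgroup which contains `N_G(S)` and all members of `P(S)` is `G` (case `Full S`). -/
theorem eq_top_of_par (S : Sylow 2 G) (hF : Full (S : Subgroup G)) {Y : Subgroup G}
    (hN : normalizer ((S : Subgroup G) : Set G) ≤ Y) (hP : ∀ P : Subgroup G, IsPar (S : Subgroup G) P → P ≤ Y) :
    Y = ⊤ :=
  hF Y fun _ hL => hL.le_of_forall S (inf_le_right.trans hN) fun P hP' _ => hP P hP'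

/-- **THEOREM ALL**: `G = ⟨N_G(R), N_G(V)⟩`. -/
theorem sup_eq_top {F : Type*} [Field F] (S : Sylow 2 G) {V R W : Subgroup G} (I : Inp (S : Subgroup G) V R W)
    (hG : IsCharacteristicTwoType G) (M : NatMod F V) {w₀ : Fin 2 → F} (hR : R = M.line w₀)
    (hZ : zc (S : Subgroup G) ≠ ⊥)
    (hmix : ∀ P : Subgroup G, IsParS (S : Subgroup G) P → ∀ h ∈ normalizer (R : Set G),
      cj h V ≤ (S : Subgroup G) →
      NatPair.Mutual (cj h V) (zl (S : Subgroup G) P) → Mix (S : Subgroup G) (zl (S : Subgroup G) P) (M.conj h))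
    (hF : Full (S : Subgroup G)) : normalizer (R : Set G) ⊔ normalizer (V : Set G) = ⊤ := by
  apply eq_top_of_par S hF
  · exact ((normalizer_le_normalizer_zc _).trans (I.normalizer_zc_le hZ)).trans le_sup_left
  · intro P hP
    rcases par_le S I hG M hR hZ hmix hP with h | h
    · exact h.trans le_sup_left
    · exact h.trans le_sup_right

/-- All members of `L(S)` in a proper subgroup: `NodeI` and Bender's theorem end. -/
theorem known_of_loc_le {K : Cls.{u}} (hB : Bender.{u}) (h1 : NodeIK K) (hG : Ctx G) (hK : K G) (S : Sylow 2 G)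
    {Y : Subgroup G} (hY : Y ≠ ⊤) (h : ∀ L : Subgroup G, IsLoc (S : Subgroup G) L → L ≤ Y) : IsKnownSimple' G := by
  have hs := hG.simple
  obtain ⟨H, hH⟩ := h1 G hG hK S fun hF => hY (hF Y h)
  exact known_of_stronglyEmbedded hB hG.nonComm hH

/-- `N_G(S)` and all members of `P(S)` in a proper subgroup: `NodeI` and Bender's theorem end. -/
theorem known_of_par_le {K : Cls.{u}} (hB : Bender.{u}) (h1 : NodeIK K) (hG : Ctx G) (hK : K G) (S : Sylow 2 G)
    {Y : Subgroup G} (hY : Y ≠ ⊤) (hN : normalizer ((S : Subgroup G) : Set G) ≤ Y)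
    (hP : ∀ P : Subgroup G, IsPar (S : Subgroup G) P → P ≤ Y) : IsKnownSimple' G :=
  known_of_loc_le hB h1 hG hK S hY fun _ hL => hL.le_of_forall S (inf_le_right.trans hN) fun P hP' _ => hP P hP'

end Cfsg.Agent.Omega.All

end

section


/-!
# WrCv, CASE 2a is dead, `q = 2` (OMEGA #17699, helper994; typed by helper165)

`V = {1, r₁, r₂, r₃}`, `T` a Sylow 2-subgroup of `N_G(V)` of index 2 in `T₁ = T⟨w⟩ ∈ Syl₂(G)`, `T₁ ≤ C(r₁)`, `V^w ≠ V`.

* `KK r = {t ∈ O₂(C(r)) : [O₂(C(r)), t] ≤ ⟨r⟩}` (intrinsic: no partner, no `W`);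
* `In V T T₁ E M w r₁` : the setting; `In.false` : it is impossible.
-/

set_option autoImplicit false
set_option linter.unusedSectionVars false

namespace Cfsg.Agent.Omega.IId.Cv.TwoA

open Subgroup Cfsg Cfsg.Agent.ZN
open Cfsg.Agent.MinSimple.VModule (le_o2 mem_zc zc_le o2_le o2_isPGroup le_normalizer_o2)

variable {G : Type*} [Group G]

theorem conj_mem_of_normalizer {A : Subgroup G} {g x : G} (hg : g ∈ normalizer (A : Set G)) (hx : x ∈ A) :
    g * x * g⁻¹ ∈ A := (mem_normalizer_iff.1 hg x).1 hx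

theorem conj_mem_of_normalizer' {A : Subgroup G} {g x : G} (hg : g ∈ normalizer (A : Set G)) (hx : x ∈ A) :
    g⁻¹ * x * g ∈ A := by
  have := (mem_normalizer_iff.1 (inv_mem hg) x).1 hx
  rwa [inv_inv] at this

/-- `N ≤ N_G(A)` from one-sided conjugation -/
theorem le_normalizer_of {N A : Subgroup G} (h : ∀ g ∈ N, ∀ x ∈ A, g * x * g⁻¹ ∈ A) : N ≤ normalizer (A : Set G) := by
  intro g hg
  rw [mem_normalizer_iff]
  intro x
  refine ⟨fun hx => h g hg x hx, fun hx => ?_⟩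
  have h1 := h g⁻¹ (inv_mem hg) _ hx
  have e : g⁻¹ * (g * x * g⁻¹) * g⁻¹⁻¹ = x := by group
  rwa [e] at h1

theorem normalizer_centralizer_le {N A : Subgroup G} (h : N ≤ normalizer (A : Set G)) :
    N ≤ normalizer ((centralizer (A : Set G) : Subgroup G) : Set G) := by
  refine le_normalizer_of fun g hg x hx => ?_
  rw [mem_centralizer_iff] at hx ⊢
  intro a ha
  have h1 := hx _ (conj_mem_of_normalizer' (h hg) ha)
  calc a * (g * x * g⁻¹) = g * (g⁻¹ * a * g * x) * g⁻¹ := by group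
    _ = g * (x * (g⁻¹ * a * g)) * g⁻¹ := by rw [h1]
    _ = g * x * g⁻¹ * a := by group

theorem normalizer_inf_le {N A B : Subgroup G} (h1 : N ≤ normalizer (A : Set G)) (h2 : N ≤ normalizer (B : Set G)) :
    N ≤ normalizer ((A ⊓ B : Subgroup G) : Set G) :=
  le_normalizer_of fun _ hg _ hx => ⟨conj_mem_of_normalizer (h1 hg) hx.1, conj_mem_of_normalizer (h2 hg) hx.2⟩

theorem normalizer_o2_le {N L : Subgroup G} (h : N ≤ normalizer (L : Set G)) : N ≤ normalizer (o2 L : Set G) := by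
  refine le_normalizer_of fun g hg x hx => ?_
  have h1 : (o2 L).map (MulAut.conj g).toMonoidHom ≤ o2 L := by
    refine le_o2 ?_ ((o2_isPGroup L).map _) ?_
    · rintro _ ⟨y, hy, rfl⟩
      exact conj_mem_of_normalizer (h hg) (o2_le L hy)
    · refine le_normalizer_of fun l hl y hy => ?_
      obtain ⟨w, hw, rfl⟩ := hy
      have h2 := conj_mem_of_normalizer (le_normalizer_o2 L (conj_mem_of_normalizer' (h hg) hl)) hw
      refine ⟨_, h2, ?_⟩
      change g * ((g⁻¹ * l * g) * w * (g⁻¹ * l * g)⁻¹) * g⁻¹ = l * (g * w * g⁻¹) * l⁻¹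
      group
  exact h1 ⟨x, hx, rfl⟩

theorem mem_cs {x r : G} : x ∈ centralizer ({r} : Set G) ↔ x * r = r * x := mem_centralizer_singleton_iff

/-- `O₂` of a conjugate -/
theorem o2_conj (g : G) {r x : G} (hx : x ∈ o2 (centralizer ({r} : Set G))) :
    g * x * g⁻¹ ∈ o2 (centralizer ({g * r * g⁻¹} : Set G)) := by
  have h1 : ∀ x ∈ centralizer ({r} : Set G), g * x * g⁻¹ ∈ centralizer ({g * r * g⁻¹} : Set G) := by
    intro x hx
    rw [mem_cs] at hx ⊢
    calc g * x * g⁻¹ * (g * r * g⁻¹) = g * (x * r) * g⁻¹ := by group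
      _ = g * (r * x) * g⁻¹ := by rw [hx]
      _ = _ := by group
  have h2 : ∀ y ∈ centralizer ({g * r * g⁻¹} : Set G), g⁻¹ * y * g ∈ centralizer ({r} : Set G) := by
    intro y hy
    rw [mem_cs] at hy ⊢
    calc g⁻¹ * y * g * r = g⁻¹ * (y * (g * r * g⁻¹)) * g := by group
      _ = g⁻¹ * (g * r * g⁻¹ * y) * g := by rw [hy]
      _ = _ := by group
  have h3 : (o2 (centralizer ({r} : Set G))).map (MulAut.conj g).toMonoidHom ≤
      o2 (centralizer ({g * r * g⁻¹} : Set G)) := by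
    apply le_o2
    · rintro _ ⟨y, hy, rfl⟩
      exact h1 y (o2_le _ hy)
    · exact (o2_isPGroup _).map _
    · refine le_normalizer_of ?_
      rintro l hl _ ⟨y, hy, rfl⟩
      refine ⟨(g⁻¹ * l * g) * y * (g⁻¹ * l * g)⁻¹, conj_mem_of_normalizer (le_normalizer_o2 _ (h2 l hl)) hy, ?_⟩
      change g * ((g⁻¹ * l * g) * y * (g⁻¹ * l * g)⁻¹) * g⁻¹ = l * (g * y * g⁻¹) * l⁻¹
      group
  exact h3 ⟨x, hx, rfl⟩

theorem o2_conj' (g : G) {r x : G} (hx : x ∈ o2 (centralizer ({g * r * g⁻¹} : Set G))) :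
    g⁻¹ * x * g ∈ o2 (centralizer ({r} : Set G)) := by
  have h := o2_conj g⁻¹ hx
  have e : g⁻¹ * (g * r * g⁻¹) * g⁻¹⁻¹ = r := by group
  rwa [e, inv_inv] at h

/-- `{t ∈ O₂(C(r)) : [O₂(C(r)), t] ≤ ⟨r⟩}` -/
def KK (r : G) : Subgroup G where
  carrier := {t | t ∈ o2 (centralizer ({r} : Set G)) ∧
    ∀ q ∈ o2 (centralizer ({r} : Set G)), q * t * q⁻¹ * t⁻¹ ∈ zpowers r}
  one_mem' := ⟨one_mem _, fun q _ => by
    have e : q * 1 * q⁻¹ * (1 : G)⁻¹ = 1 := by group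
    rw [e]; exact one_mem _⟩
  mul_mem' := by
    rintro s t ⟨hs, hs'⟩ ⟨ht, ht'⟩
    refine ⟨mul_mem hs ht, fun q hq => ?_⟩
    have h1 : s * (q * t * q⁻¹ * t⁻¹) * s⁻¹ = q * t * q⁻¹ * t⁻¹ := by
      obtain ⟨n, hn⟩ := mem_zpowers_iff.1 (ht' q hq)
      have h2 : Commute s r := mem_cs.1 (o2_le _ hs)
      rw [← hn, (h2.zpow_right n).eq, mul_inv_cancel_right]
    have e : q * (s * t) * q⁻¹ * (s * t)⁻¹ = (q * s * q⁻¹ * s⁻¹) * (s * (q * t * q⁻¹ * t⁻¹) * s⁻¹) := by group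
    rw [e, h1]
    exact mul_mem (hs' q hq) (ht' q hq)
  inv_mem' := by
    rintro s ⟨hs, hs'⟩
    refine ⟨inv_mem hs, fun q hq => ?_⟩
    have h1 := inv_mem (hs' (s⁻¹ * q * s) (mul_mem (mul_mem (inv_mem hs) hq) hs))
    have e : (s⁻¹ * q * s * s * (s⁻¹ * q * s)⁻¹ * s⁻¹)⁻¹ = q * s⁻¹ * q⁻¹ * s⁻¹⁻¹ := by group
    rwa [e] at h1

theorem KK_le (r : G) : KK r ≤ o2 (centralizer ({r} : Set G)) := fun _ h => h.1

theorem KK_cen {r t : G} (ht : t ∈ KK r) : t * r = r * t := mem_cs.1 (o2_le _ (KK_le r ht))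

theorem zpow_cases {r : G} (hr : r * r = 1) {x : G} (hx : x ∈ zpowers r) : x = 1 ∨ x = r := by
  obtain ⟨k, rfl⟩ := mem_zpowers_iff.mp hx
  rcases Int.even_or_odd k with ⟨t, ht⟩ | ⟨t, ht⟩
  · left
    rw [ht, ← two_mul, zpow_mul, zpow_two, hr, one_zpow]
  · right
    rw [ht, zpow_add, zpow_mul, zpow_two, hr, one_zpow, one_mul, zpow_one]

theorem KK_cases {r : G} (hr : r * r = 1) {t q : G} (ht : t ∈ KK r) (hq : q ∈ o2 (centralizer ({r} : Set G))) :
    q * t * q⁻¹ = t ∨ q * t * q⁻¹ = t * r := by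
  rcases zpow_cases hr (ht.2 q hq) with h | h
  · exact Or.inl (mul_inv_eq_one.1 h)
  · right
    rw [KK_cen ht]
    exact mul_inv_eq_iff_eq_mul.1 h

theorem KK_conj (g : G) {r t : G} (ht : t ∈ KK r) : g * t * g⁻¹ ∈ KK (g * r * g⁻¹) := by
  refine ⟨o2_conj g ht.1, fun q hq => ?_⟩
  obtain ⟨n, hn⟩ := mem_zpowers_iff.1 (ht.2 _ (o2_conj' g hq))
  have e : q * (g * t * g⁻¹) * q⁻¹ * (g * t * g⁻¹)⁻¹ = g * ((g⁻¹ * q * g) * t * (g⁻¹ * q * g)⁻¹ * t⁻¹) * g⁻¹ := by group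
  rw [e, ← hn, ← conj_zpow]
  exact zpow_mem (mem_zpowers _) n

/-- `V^w` -/
def cj (w : G) (V : Subgroup G) : Subgroup G := V.comap (MulAut.conj w⁻¹).toMonoidHom

theorem mem_cj {w : G} {V : Subgroup G} {u : G} : u ∈ cj w V ↔ w⁻¹ * u * w ∈ V := by
  unfold cj
  rw [mem_comap]
  have e : (MulAut.conj w⁻¹).toMonoidHom u = w⁻¹ * u * w := by simp
  rw [e]

theorem cj_mem {w : G} {V : Subgroup G} {v : G} (hv : v ∈ V) : w * v * w⁻¹ ∈ cj w V := by
  rw [mem_cj]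
  have e : w⁻¹ * (w * v * w⁻¹) * w = v := by group
  rwa [e]

/-- The setting of CASE 2a (`q = 2`). -/
structure In (V T : Subgroup G) (T₁ : Sylow 2 G) (E M : Subgroup G) (w r₁ : G) : Prop where
  sq : ∀ v ∈ V, v * v = 1
  four : ∃ r₂ ∈ V, r₂ ≠ 1 ∧ r₂ ≠ r₁ ∧ ∀ v ∈ V, v = 1 ∨ v = r₁ ∨ v = r₂ ∨ v = r₁ * r₂
  r₁V : r₁ ∈ V
  r₁_ne : r₁ ≠ 1
  T_T₁ : T ≤ T₁
  w_T₁ : w ∈ (T₁ : Subgroup G)
  w_T : w ∉ T
  cov : ∀ x ∈ (T₁ : Subgroup G), x ∈ T ∨ x * w ∈ T
  T_V : T ≤ normalizer (V : Set G)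
  T_max : ∀ P : Subgroup G, IsPGroup 2 P → T ≤ P → P ≤ normalizer (V : Set G) → P ≤ T
  T₁_r : ∀ x ∈ (T₁ : Subgroup G), x * r₁ = r₁ * x
  VQ : V ≤ o2 (centralizer ({r₁} : Set G))
  comm : ∀ q ∈ o2 (centralizer ({r₁} : Set G)), ∀ v ∈ V, q * v * q⁻¹ = v ∨ q * v * q⁻¹ = v * r₁
  move : ∃ t ∈ KK r₁, ∃ v ∈ V, t * v ≠ v * t
  ch : ∀ x, x * r₁ = r₁ * x → (∀ q ∈ o2 (centralizer ({r₁} : Set G)), x * q = q * x) →
    x ∈ o2 (centralizer ({r₁} : Set G))
  E_V : E ≤ normalizer (V : Set G)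
  E_tr : ∀ r ∈ V, r ≠ 1 → ∃ e ∈ E, e * r₁ * e⁻¹ = r
  E_M : ∀ e ∈ E, ∀ m ∈ M, e * m = m * e
  M_zc : M ≤ zc T
  M_cov : ∀ x ∈ zc T, x ∈ M ∨ r₁ * x ∈ M
  big : 8 ≤ Nat.card (zc T)
  half : ∀ x ∈ M, x ≠ 1 → V ≤ o2 (centralizer ({x} : Set G)) ∧
    ∀ v ∈ V, ∀ q ∈ o2 (centralizer ({x} : Set G)), v * q = q * v

namespace In

variable {V T : Subgroup G} {T₁ : Sylow 2 G} {E M : Subgroup G} {w r₁ : G} (I : In V T T₁ E M w r₁)

include I

theorem inv {v : G} (hv : v ∈ V) : v⁻¹ = v := inv_eq_of_mul_eq_one_left (I.sq v hv)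

theorem Vcomm {u v : G} (hu : u ∈ V) (hv : v ∈ V) : u * v = v * u := by
  have h := I.inv (mul_mem hu hv)
  rw [mul_inv_rev, I.inv hu, I.inv hv] at h
  exact h.symm

/-! ### The same at every `r ∈ V#` -/

theorem cases' {v₀ : G} (h0 : v₀ ∈ V) (h1 : v₀ ≠ 1) (h2 : v₀ ≠ r₁) {v : G} (hv : v ∈ V) :
    v = 1 ∨ v = r₁ ∨ v = v₀ ∨ v = v₀ * r₁ := by
  obtain ⟨r', hr', -, -, h4⟩ := I.four
  have hc := I.Vcomm I.r₁V hr'
  rcases h4 v₀ h0 with h | h | h | h
  · exact absurd h h1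
  · exact absurd h h2
  · subst h
    rcases h4 v hv with h | h | h | h
    · exact Or.inl h
    · exact Or.inr (Or.inl h)
    · exact Or.inr (Or.inr (Or.inl h))
    · exact Or.inr (Or.inr (Or.inr (by rw [h, hc])))
  · subst h
    rcases h4 v hv with h | h | h | h
    · exact Or.inl h
    · exact Or.inr (Or.inl h)
    · refine Or.inr (Or.inr (Or.inr ?_))
      rw [h, hc, mul_assoc, I.sq r₁ I.r₁V, mul_one]
    · exact Or.inr (Or.inr (Or.inl h))

/-- transitivity of `E` in the form used below -/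
theorem exists_e {r : G} (hr : r ∈ V) (h1 : r ≠ 1) : ∃ e ∈ E, e * r₁ * e⁻¹ = r ∧ (∀ v ∈ V, e⁻¹ * v * e ∈ V) ∧
    (∀ v ∈ V, e * v * e⁻¹ ∈ V) := by
  obtain ⟨e, he, h2⟩ := I.E_tr r hr h1
  exact ⟨e, he, h2, fun v hv => conj_mem_of_normalizer' (I.E_V he) hv, fun v hv => conj_mem_of_normalizer (I.E_V he) hv⟩

theorem four' {r : G} (hr : r ∈ V) (h1 : r ≠ 1) : ∃ r' ∈ V, r' ≠ 1 ∧ r' ≠ r ∧
    ∀ v ∈ V, v = 1 ∨ v = r ∨ v = r' ∨ v = r * r' := by
  obtain ⟨e, he, h2, h3, h4⟩ := I.exists_e hr h1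
  obtain ⟨r', hr', h5, h6, h7⟩ := I.four
  refine ⟨e * r' * e⁻¹, h4 r' hr', fun h => h5 ?_, fun h => h6 ?_, fun v hv => ?_⟩
  · rwa [mul_inv_eq_one, mul_eq_left] at h
  · rw [← h2] at h
    exact mul_left_cancel (mul_right_cancel h)
  · have e1 : ∀ x, e⁻¹ * v * e = x → v = e * x * e⁻¹ := fun x hx => by rw [← hx]; group
    rcases h7 _ (h3 v hv) with h | h | h | h
    · left; rw [e1 _ h]; group
    · right; left; rw [e1 _ h, h2]
    · right; right; left; exact e1 _ h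
    · right; right; right
      rw [e1 _ h, ← h2]; group

theorem VQ' {r : G} (hr : r ∈ V) (h1 : r ≠ 1) : V ≤ o2 (centralizer ({r} : Set G)) := by
  obtain ⟨e, he, h2, h3, h4⟩ := I.exists_e hr h1
  intro v hv
  have h5 := o2_conj e (I.VQ (h3 v hv))
  have e1 : e * (e⁻¹ * v * e) * e⁻¹ = v := by group
  rwa [h2, e1] at h5

theorem comm' {r : G} (hr : r ∈ V) (h1 : r ≠ 1) {q : G} (hq : q ∈ o2 (centralizer ({r} : Set G))) {v : G} (hv : v ∈ V) :
    q * v * q⁻¹ = v ∨ q * v * q⁻¹ = v * r := by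
  obtain ⟨e, he, h2, h3, h4⟩ := I.exists_e hr h1
  have hq' : e⁻¹ * q * e ∈ o2 (centralizer ({r₁} : Set G)) := o2_conj' e (by rwa [h2])
  have e1 : q * v * q⁻¹ = e * ((e⁻¹ * q * e) * (e⁻¹ * v * e) * (e⁻¹ * q * e)⁻¹) * e⁻¹ := by group
  rcases I.comm _ hq' _ (h3 v hv) with h | h
  · left; rw [e1, h]; group
  · right
    rw [e1, h, ← h2]; group

theorem ch' {r : G} (hr : r ∈ V) (h1 : r ≠ 1) {x : G} (hx : x * r = r * x)
    (h : ∀ q ∈ o2 (centralizer ({r} : Set G)), x * q = q * x) : x ∈ o2 (centralizer ({r} : Set G)) := by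
  obtain ⟨e, he, h2, h3, h4⟩ := I.exists_e hr h1
  have h5 : e⁻¹ * x * e ∈ o2 (centralizer ({r₁} : Set G)) := by
    refine I.ch _ ?_ fun q hq => ?_
    · calc e⁻¹ * x * e * r₁ = e⁻¹ * (x * (e * r₁ * e⁻¹)) * e := by group
        _ = e⁻¹ * (e * r₁ * e⁻¹ * x) * e := by rw [h2, hx]
        _ = _ := by group
    · have h6 := h _ (by have := o2_conj e hq; rwa [h2] at this)
      calc e⁻¹ * x * e * q = e⁻¹ * (x * (e * q * e⁻¹)) * e := by group
        _ = e⁻¹ * (e * q * e⁻¹ * x) * e := by rw [h6]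
        _ = _ := by group
  have h6 := o2_conj e h5
  have e1 : e * (e⁻¹ * x * e) * e⁻¹ = x := by group
  rwa [h2, e1] at h6

theorem move' {r : G} (hr : r ∈ V) (h1 : r ≠ 1) : ∃ t ∈ KK r, ∃ v ∈ V, t * v ≠ v * t := by
  obtain ⟨e, he, h2, h3, h4⟩ := I.exists_e hr h1
  obtain ⟨t, ht, v, hv, h5⟩ := I.move
  refine ⟨e * t * e⁻¹, by rw [← h2]; exact KK_conj e ht, e * v * e⁻¹, h4 v hv, fun h => h5 ?_⟩
  have h6 : e * (t * v) * e⁻¹ = e * (v * t) * e⁻¹ := by
    calc e * (t * v) * e⁻¹ = e * t * e⁻¹ * (e * v * e⁻¹) := by group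
      _ = e * v * e⁻¹ * (e * t * e⁻¹) := h
      _ = _ := by group
  exact mul_left_cancel (mul_right_cancel h6)

/-- elements of `O₂(C(r))` normalise `V` -/
theorem Q_nV {r : G} (hr : r ∈ V) (h1 : r ≠ 1) : o2 (centralizer ({r} : Set G)) ≤ normalizer (V : Set G) := by
  refine le_normalizer_of fun q hq v hv => ?_
  rcases I.comm' hr h1 hq hv with h | h
  · rw [h]; exact hv
  · rw [h]; exact mul_mem hv hr

/-- `t ∈ K(r)` centralises `V` or moves every `v ∈ V - {1, r}` -/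
theorem K_act {r : G} (hr : r ∈ V) (h1 : r ≠ 1) {t : G} (ht : t ∈ KK r) :
    (∀ v ∈ V, t * v = v * t) ∨ (∀ v ∈ V, v ≠ 1 → v ≠ r → t * v * t⁻¹ = v * r) := by
  obtain ⟨r', hr', h2, h3, h4⟩ := I.four' hr h1
  have htr := KK_cen ht
  rcases I.comm' hr h1 (KK_le r ht) hr' with h | h
  · left
    have h6 : t * r' = r' * t := mul_inv_eq_iff_eq_mul.1 h
    intro v hv
    rcases h4 v hv with rfl | rfl | rfl | rfl
    · rw [mul_one, one_mul]
    · exact htr
    · exact h6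
    · rw [← mul_assoc, htr, mul_assoc, h6, mul_assoc]
  · right
    intro v hv hv1 hvr
    rcases h4 v hv with rfl | rfl | rfl | rfl
    · exact absurd rfl hv1
    · exact absurd rfl hvr
    · exact h
    · calc t * (r * r') * t⁻¹ = (t * r * t⁻¹) * (t * r' * t⁻¹) := by group
        _ = r * (r' * r) := by rw [htr, mul_inv_cancel_right, h]
        _ = _ := by rw [mul_assoc]

/-- `t ∈ K(r)` moving every `v ∈ V - {1, r}` -/
theorem exists_t {r : G} (hr : r ∈ V) (h1 : r ≠ 1) : ∃ t ∈ KK r, ∀ v ∈ V, v ≠ 1 → v ≠ r → t * v * t⁻¹ = v * r := by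
  obtain ⟨t, ht, v, hv, hne⟩ := I.move' hr h1
  rcases I.K_act hr h1 ht with h | h
  · exact absurd (h v hv) hne
  · exact ⟨t, ht, h⟩

theorem K_nV {r : G} (hr : r ∈ V) (h1 : r ≠ 1) : KK r ≤ normalizer (V : Set G) := (KK_le r).trans (I.Q_nV hr h1)

/-! ### `T` and `T₁` -/

theorem w_sq : w * w ∈ T := by
  rcases I.cov w I.w_T₁ with h | h
  · exact absurd h I.w_T
  · exact h

theorem w_conj {t : G} (ht : t ∈ T) : w * t * w⁻¹ ∈ T := by
  rcases I.cov (w * t * w⁻¹) (mul_mem (mul_mem I.w_T₁ (I.T_T₁ ht)) (inv_mem I.w_T₁)) with h | h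
  · exact h
  · exfalso
    rw [inv_mul_cancel_right] at h
    have h1 := mul_mem h (inv_mem ht)
    rw [mul_inv_cancel_right] at h1
    exact I.w_T h1

theorem w_conj' {t : G} (ht : t ∈ T) : w⁻¹ * t * w ∈ T := by
  have h := mul_mem (mul_mem (inv_mem I.w_sq) (I.w_conj ht)) I.w_sq
  have e : (w * w)⁻¹ * (w * t * w⁻¹) * (w * w) = w⁻¹ * t * w := by group
  rwa [e] at h

theorem w_norm : w ∈ normalizer (T : Set G) := by
  rw [mem_normalizer_iff]
  refine fun x => ⟨fun h => I.w_conj h, fun h => ?_⟩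
  have h1 := I.w_conj' h
  have e : w⁻¹ * (w * x * w⁻¹) * w = x := by group
  rwa [e] at h1

theorem w_r : w * r₁ * w⁻¹ = r₁ := by rw [I.T₁_r w I.w_T₁, mul_inv_cancel_right]

theorem w_r' : w⁻¹ * r₁ * w = r₁ := by rw [mul_assoc, ← I.T₁_r w I.w_T₁, inv_mul_cancel_left]

theorem le_T₁ {K : Subgroup G} (hK : IsPGroup 2 K) (hn : (T₁ : Subgroup G) ≤ normalizer (K : Set G)) :
    K ≤ (T₁ : Subgroup G) := by
  have : Fact (Nat.Prime 2) := ⟨Nat.prime_two⟩
  have h1 := IsPGroup.to_sup_of_normal_right' T₁.2 hK hn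
  exact le_sup_right.trans (le_of_eq (T₁.3 h1 le_sup_left))

theorem le_T {K : Subgroup G} (hK : IsPGroup 2 K) (hn : T ≤ normalizer (K : Set G)) (hV : K ≤ normalizer (V : Set G)) :
    K ≤ T := by
  have hT : IsPGroup 2 T := T₁.2.to_le I.T_T₁
  have h1 := IsPGroup.to_sup_of_normal_right' hT hK hn
  exact le_sup_right.trans (I.T_max _ h1 le_sup_left (sup_le I.T_V hV))

theorem w_not : w ∉ normalizer (V : Set G) := by
  intro h
  have h1 : (T₁ : Subgroup G) ≤ normalizer (V : Set G) := by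
    intro x hx
    rcases I.cov x hx with h2 | h2
    · exact I.T_V h2
    · have h3 := mul_mem (I.T_V h2) (inv_mem h)
      rwa [mul_inv_cancel_right] at h3
  exact I.w_T (I.T_max _ T₁.2 I.T_T₁ h1 I.w_T₁)

variable [Finite G]

theorem Q_T : o2 (centralizer ({r₁} : Set G)) ≤ T := by
  have hc : (T₁ : Subgroup G) ≤ centralizer ({r₁} : Set G) := fun x hx => mem_cs.2 (I.T₁_r x hx)
  have h1 : o2 (centralizer ({r₁} : Set G)) ≤ (T₁ : Subgroup G) :=
    I.le_T₁ (o2_isPGroup _) (hc.trans (le_normalizer_o2 _))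
  intro q hq
  rcases I.cov q (h1 hq) with h | h
  · exact h
  · exfalso
    apply I.w_not
    have h2 := mul_mem (inv_mem (I.Q_nV I.r₁V I.r₁_ne hq)) (I.T_V h)
    rwa [inv_mul_cancel_left] at h2

theorem V_T : V ≤ T := I.VQ.trans I.Q_T

theorem cj_T : cj w V ≤ T := by
  intro u hu
  have h := I.w_conj (I.V_T (mem_cj.1 hu))
  have e : w * (w⁻¹ * u * w) * w⁻¹ = u := by group
  rwa [e] at h

/-- `V' = V^w` -/
theorem cases'' {u₀ : G} (h0 : u₀ ∈ cj w V) (h1 : u₀ ≠ 1) (h2 : u₀ ≠ r₁) {u : G} (hu : u ∈ cj w V) :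
    u = 1 ∨ u = r₁ ∨ u = u₀ ∨ u = u₀ * r₁ := by
  rw [mem_cj] at h0 hu
  have e : ∀ x y : G, w⁻¹ * x * w = w⁻¹ * y * w → x = y := fun x y h => mul_left_cancel (mul_right_cancel h)
  have h3 : w⁻¹ * u₀ * w ≠ 1 := fun h => h1 (e _ _ (by rw [h]; group))
  have h4 : w⁻¹ * u₀ * w ≠ r₁ := fun h => h2 (e _ _ (by rw [h, I.w_r']))
  rcases I.cases' h0 h3 h4 hu with h | h | h | h
  · exact Or.inl (e _ _ (by rw [h]; group))
  · exact Or.inr (Or.inl (e _ _ (by rw [h, I.w_r'])))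
  · exact Or.inr (Or.inr (Or.inl (e _ _ h)))
  · refine Or.inr (Or.inr (Or.inr (e _ _ ?_)))
    rw [h]
    calc w⁻¹ * u₀ * w * r₁ = w⁻¹ * u₀ * w * (w⁻¹ * r₁ * w) := by rw [I.w_r']
      _ = _ := by group

theorem r₁_cj : r₁ ∈ cj w V := by
  rw [mem_cj, I.w_r']; exact I.r₁V

theorem cj_sq {u : G} (hu : u ∈ cj w V) : u * u = 1 := by
  rw [mem_cj] at hu
  have h := I.sq _ hu
  calc u * u = w * ((w⁻¹ * u * w) * (w⁻¹ * u * w)) * w⁻¹ := by group
    _ = 1 := by rw [h]; group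

/-- `T` acts on `V` : `v ↦ v` or `v r₁` -/
theorem T_act {t v : G} (ht : t ∈ T) (hv : v ∈ V) : t * v * t⁻¹ = v ∨ t * v * t⁻¹ = v * r₁ := by
  have h0 : t * v * t⁻¹ ∈ V := conj_mem_of_normalizer (I.T_V ht) hv
  have htr := I.T₁_r t (I.T_T₁ ht)
  by_cases h1 : v = 1
  · left; rw [h1]; group
  by_cases h2 : v = r₁
  · left; rw [h2, htr, mul_inv_cancel_right]
  rcases I.cases' hv h1 h2 h0 with h | h | h | h
  · exact absurd (by rwa [mul_inv_eq_one, mul_eq_left] at h) h1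
  · exfalso; apply h2
    rw [mul_inv_eq_iff_eq_mul, ← htr] at h
    exact mul_left_cancel h
  · exact Or.inl h
  · exact Or.inr h

/-- `T` acts on `V'` : `u ↦ u` or `u r₁` -/
theorem T_act' {t u : G} (ht : t ∈ T) (hu : u ∈ cj w V) : t * u * t⁻¹ = u ∨ t * u * t⁻¹ = u * r₁ := by
  have e : t * u * t⁻¹ = w * ((w⁻¹ * t * w) * (w⁻¹ * u * w) * (w⁻¹ * t * w)⁻¹) * w⁻¹ := by group
  rcases I.T_act (I.w_conj' ht) (mem_cj.1 hu) with h | h
  · left; rw [e, h]; group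
  · right; rw [e, h]
    calc w * (w⁻¹ * u * w * r₁) * w⁻¹ = u * (w * r₁ * w⁻¹) := by group
      _ = u * r₁ := by rw [I.w_r]

/-! ### (1) -/

theorem w_zc {z : G} (hz : z ∈ zc T) : w * z * w⁻¹ ∈ zc T :=
  (mem_normalizer_iff.1 (Cfsg.Agent.MinSimple.VModule.normalizer_le_normalizer_zc T I.w_norm) z).1 hz

theorem w_w {z : G} (hz : z ∈ zc T) : w * (w * z * w⁻¹) * w⁻¹ = z := by
  have h1 : w * w * z = z * (w * w) := (Cfsg.Agent.MinSimple.VModule.mem_zc.1 hz).2.1 _ I.w_sq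
  calc w * (w * z * w⁻¹) * w⁻¹ = w * w * z * (w⁻¹ * w⁻¹) := by group
    _ = z * (w * w) * (w⁻¹ * w⁻¹) := by rw [h1]
    _ = z := by group

theorem r₁_zc : r₁ ∈ zc T := by
  rw [mem_zc]
  exact ⟨I.V_T I.r₁V, fun t ht => I.T₁_r t (I.T_T₁ ht), by rw [pow_two]; exact I.sq r₁ I.r₁V⟩

theorem exists_x : ∃ x ∈ M, x ≠ 1 ∧ w * x * w⁻¹ = x := by
  obtain ⟨y, hy, hy1, m, hm, hym⟩ : ∃ y ∈ M, y ≠ 1 ∧ ∃ m ∈ M, y = w * m * w⁻¹ := by
    by_contra hne
    push Not at hne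
    have h1 : Nat.card M * Nat.card M ≤ Nat.card (zc T) := by
      rw [← Nat.card_prod]
      apply Nat.card_le_card_of_injective (fun x : M × M =>
        (⟨x.1 * (w * x.2 * w⁻¹), mul_mem (I.M_zc x.1.2) (I.w_zc (I.M_zc x.2.2))⟩ : zc T))
      rintro ⟨a, b⟩ ⟨a', b'⟩ h
      have h2 : (a : G) * (w * b * w⁻¹) = a' * (w * b' * w⁻¹) := congrArg Subtype.val h
      have h3 : (a' : G)⁻¹ * a = w * ((b' : G) * (b : G)⁻¹) * w⁻¹ := by
        have h4 : (a' : G)⁻¹ * (a * (w * b * w⁻¹)) * (w * b * w⁻¹)⁻¹ =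
          (a' : G)⁻¹ * (a' * (w * b' * w⁻¹)) * (w * b * w⁻¹)⁻¹ := by rw [h2]
        calc (a' : G)⁻¹ * a = (a' : G)⁻¹ * (a * (w * b * w⁻¹)) * (w * b * w⁻¹)⁻¹ := by group
          _ = _ := h4
          _ = _ := by group
      have h5 : (a' : G)⁻¹ * a = 1 := by
        by_contra h6
        exact hne _ (mul_mem (inv_mem a'.2) a.2) h6 _ (mul_mem b'.2 (inv_mem b.2)) h3
      have h6 : (a : G) = a' := (inv_mul_eq_one.1 h5).symm
      rw [h5] at h3
      have h7 : (b' : G) * (b : G)⁻¹ = 1 := by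
        calc (b' : G) * (b : G)⁻¹ = w⁻¹ * (w * ((b' : G) * (b : G)⁻¹) * w⁻¹) * w := by group
          _ = 1 := by rw [← h3]; group
      exact Prod.ext (Subtype.ext h6) (Subtype.ext (mul_inv_eq_one.1 h7).symm)
    have h2 : Nat.card (zc T) ≤ 2 * Nat.card M := by
      classical
      have : Nat.card (Bool × M) = 2 * Nat.card M := by rw [Nat.card_prod]; simp
      rw [← this]
      apply Nat.card_le_card_of_injective (fun x : zc T =>
        if h : (x : G) ∈ M then ((false, ⟨x, h⟩) : Bool × M) else (true, ⟨r₁ * x, (I.M_cov x x.2).resolve_left h⟩))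
      intro a b hab
      by_cases ha : (a : G) ∈ M <;> by_cases hb : (b : G) ∈ M <;> simp [ha, hb] at hab
      · exact hab
      · exact hab
    have h3 := I.big
    nlinarith
  have hz := I.M_zc hy
  have hsq : y * y = 1 := by rw [← pow_two]; exact (mem_zc.1 hz).2.2
  have h1 : w * y * w⁻¹ ∈ M := by rw [hym, I.w_w (I.M_zc hm)]; exact hm
  by_cases h2 : w * y * w⁻¹ = y
  · exact ⟨y, hy, hy1, h2⟩
  · refine ⟨y * (w * y * w⁻¹), mul_mem hy h1, fun h3 => h2 ?_, ?_⟩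
    · rw [mul_eq_one_iff_inv_eq] at h3
      rw [← h3]
      exact inv_eq_of_mul_eq_one_left hsq
    · calc w * (y * (w * y * w⁻¹)) * w⁻¹ = (w * y * w⁻¹) * (w * (w * y * w⁻¹) * w⁻¹) := by group
        _ = (w * y * w⁻¹) * y := by rw [I.w_w hz]
        _ = _ := Cfsg.Agent.MinSimple.VModule.zc_comm T _ (I.M_zc h1) _ hz

/-! ### (2) `V' ≤ O₂(C(r))` -/

theorem x_T₁ {x : G} (hx : x ∈ M) (hw : w * x * w⁻¹ = x) {t : G} (ht : t ∈ (T₁ : Subgroup G)) : t * x = x * t := by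
  have hz := (mem_zc.1 (I.M_zc hx)).2.1
  rcases I.cov t ht with h | h
  · exact hz t h
  · have h1 := hz _ h
    have h2 : w * x = x * w := mul_inv_eq_iff_eq_mul.1 hw
    have h3 : t * x * w = x * t * w := by rw [mul_assoc, ← h2, ← mul_assoc, h1, mul_assoc]
    exact mul_right_cancel h3

/-- `V` and `V'` commute -/
theorem VV' {v u : G} (hv : v ∈ V) (hu : u ∈ cj w V) : v * u = u * v := by
  obtain ⟨x, hx, hx1, hw⟩ := I.exists_x
  obtain ⟨h1, h2⟩ := I.half x hx hx1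
  have h3 : w ∈ centralizer ({x} : Set G) := mem_cs.2 (mul_inv_eq_iff_eq_mul.1 hw)
  have h4 := conj_mem_of_normalizer (le_normalizer_o2 _ h3) (h1 (mem_cj.1 hu))
  have e : w * (w⁻¹ * u * w) * w⁻¹ = u := by group
  rw [e] at h4
  exact h2 v hv u h4

theorem oV_T : o2 (centralizer (V : Set G)) ≤ T := by
  refine I.le_T (o2_isPGroup _) (normalizer_o2_le (normalizer_centralizer_le I.T_V)) ?_
  refine (o2_le _).trans fun x hx => ?_
  rw [mem_normalizer_iff_map_conj_eq]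
  ext y
  constructor
  · rintro ⟨z, hz, rfl⟩
    have := mem_centralizer_iff.1 hx z hz
    change x * z * x⁻¹ ∈ V
    rw [← this, mul_inv_cancel_right]; exact hz
  · intro hy
    refine ⟨y, hy, ?_⟩
    change x * y * x⁻¹ = y
    rw [← mem_centralizer_iff.1 hx y hy, mul_inv_cancel_right]

/-- `O₂(C(r)) ∩ C(V) ≤ T` -/
theorem QV_T {r : G} (hr : r ∈ V) : o2 (centralizer ({r} : Set G)) ⊓ centralizer (V : Set G) ≤ T := by
  refine le_trans ?_ I.oV_T
  refine le_o2 inf_le_right ((o2_isPGroup _).to_le inf_le_left) ?_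
  refine normalizer_inf_le ?_ le_normalizer
  refine le_trans (fun x hx => ?_) (le_normalizer_o2 _)
  exact mem_cs.2 (mem_centralizer_iff.1 hx r hr).symm

theorem cj_Q {r : G} (hr : r ∈ V) (h1 : r ≠ 1) (h2 : r ≠ r₁) : cj w V ≤ o2 (centralizer ({r} : Set G)) := by
  obtain ⟨x, hx, hx1, hw⟩ := I.exists_x
  obtain ⟨hVx, hVx'⟩ := I.half x hx hx1
  obtain ⟨e, he, h3, h4, h5⟩ := I.exists_e hr h1
  have hex : e * x * e⁻¹ = x := by rw [I.E_M e he x hx, mul_inv_cancel_right]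
  -- `x ∈ Z(Q_r)`
  have hx₁ : ∀ q ∈ o2 (centralizer ({r₁} : Set G)), x * q = q * x := fun q hq =>
    (I.x_T₁ hx hw (I.T_T₁ (I.Q_T hq))).symm
  have hxr₁ : x * r₁ = r₁ * x := (I.x_T₁ hx hw (I.T_T₁ (I.V_T I.r₁V))).symm
  have hx₂ : x ∈ o2 (centralizer ({r₁} : Set G)) := I.ch x hxr₁ hx₁
  have hxr : x ∈ o2 (centralizer ({r} : Set G)) := by
    have := o2_conj e hx₂
    rwa [hex, h3] at this
  have hxq : ∀ q ∈ o2 (centralizer ({r} : Set G)), x * q = q * x := by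
    intro q hq
    have h6 := hx₁ (e⁻¹ * q * e) (o2_conj' e (by rwa [h3]))
    calc x * q = e * x * e⁻¹ * q := by rw [hex]
      _ = e * (x * (e⁻¹ * q * e)) * e⁻¹ := by group
      _ = e * (e⁻¹ * q * e * x) * e⁻¹ := by rw [h6]
      _ = q * (e * x * e⁻¹) := by group
      _ = q * x := by rw [hex]
  -- `A = ⟨x^{C(r)}⟩`
  set C := centralizer ({r} : Set G) with hC
  let A : Subgroup G := closure {y | ∃ h ∈ C, y = h * x * h⁻¹}
  have hA : ∀ a ∈ A, a ∈ o2 C ∧ ∀ q ∈ o2 C, a * q = q * a := by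
    intro a ha
    induction ha using closure_induction with
    | mem y hy =>
      obtain ⟨h, hh, rfl⟩ := hy
      refine ⟨conj_mem_of_normalizer (le_normalizer_o2 C hh) hxr, fun q hq => ?_⟩
      have h7 := hxq _ (conj_mem_of_normalizer' (le_normalizer_o2 C hh) hq)
      calc h * x * h⁻¹ * q = h * (x * (h⁻¹ * q * h)) * h⁻¹ := by group
        _ = h * (h⁻¹ * q * h * x) * h⁻¹ := by rw [h7]
        _ = _ := by group
    | one => exact ⟨one_mem _, fun q _ => by rw [one_mul, mul_one]⟩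
    | mul a b _ _ ha hb =>
      refine ⟨mul_mem ha.1 hb.1, fun q hq => ?_⟩
      rw [mul_assoc, hb.2 q hq, ← mul_assoc, ha.2 q hq, mul_assoc]
    | inv a _ ha =>
      refine ⟨inv_mem ha.1, fun q hq => ?_⟩
      have h7 : Commute a q := ha.2 q hq
      exact h7.inv_left.eq
  have hAn : C ≤ normalizer (A : Set G) := by
    refine le_normalizer_of fun g hg a ha => ?_
    induction ha using closure_induction with
    | mem y hy =>
      obtain ⟨h, hh, rfl⟩ := hy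
      exact subset_closure ⟨g * h, mul_mem hg hh, by group⟩
    | one => rw [mul_one, mul_inv_cancel]; exact one_mem _
    | mul x y _ _ hx hy =>
      have e : g * (x * y) * g⁻¹ = (g * x * g⁻¹) * (g * y * g⁻¹) := by group
      rw [e]; exact mul_mem hx hy
    | inv x _ hx =>
      have e : g * x⁻¹ * g⁻¹ = (g * x * g⁻¹)⁻¹ := by group
      rw [e]; exact inv_mem hx
  have hxA : x ∈ A := subset_closure ⟨1, one_mem _, by group⟩
  have hAC : A ≤ C := fun a ha => o2_le C (hA a ha).1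
  have hVr : V ≤ o2 C := I.VQ' hr h1
  have hAT : A ≤ T := fun a ha => I.QV_T hr ⟨(hA a ha).1, mem_centralizer_iff.2 fun v hv => ((hA a ha).2 v (hVr hv)).symm⟩
  have hr₁A : r₁ ∉ A := by
    intro h
    obtain ⟨t, ht, h6⟩ := I.exists_t hr h1
    have h7 := h6 r₁ I.r₁V I.r₁_ne (Ne.symm h2)
    rw [← (hA r₁ h).2 t (KK_le r ht), mul_inv_cancel_right] at h7
    exact h1 (left_eq_mul.1 h7)
  have hcC : cj w V ≤ C := fun u hu => mem_cs.2 (I.VV' hr hu).symm
  -- `V'` centralises `A`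
  have hcA : ∀ a ∈ A, ∀ u ∈ cj w V, a * u = u * a := by
    intro a ha u hu
    rcases I.T_act' (hAT ha) hu with h | h
    · exact mul_inv_eq_iff_eq_mul.1 h
    · exfalso
      apply hr₁A
      have h6 : u⁻¹ * a * u ∈ A := conj_mem_of_normalizer' (hAn (hcC hu)) ha
      have h7 : u⁻¹ * (a * u * a⁻¹) = r₁ := by rw [h]; group
      have h8 : u⁻¹ * a * u * a⁻¹ = r₁ := by rw [← h7]; group
      rw [← h8]
      exact mul_mem h6 (inv_mem ha)
  -- `K = C(r) ∩ C(A)`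
  have hK : C ⊓ centralizer (A : Set G) ≤ centralizer ({x} : Set G) := fun y hy =>
    mem_cs.2 (mem_centralizer_iff.1 hy.2 x hxA).symm
  have hw' : w ∈ centralizer ({x} : Set G) := mem_cs.2 (mul_inv_eq_iff_eq_mul.1 hw)
  have h6 : cj w V ≤ (C ⊓ centralizer (A : Set G)) ⊓ o2 (centralizer ({x} : Set G)) := by
    intro u hu
    refine ⟨⟨hcC hu, mem_centralizer_iff.2 fun a ha => hcA a ha u hu⟩, ?_⟩
    have h7 := conj_mem_of_normalizer (le_normalizer_o2 _ hw') (hVx (mem_cj.1 hu))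
    have e : w * (w⁻¹ * u * w) * w⁻¹ = u := by group
    rwa [e] at h7
  have h7 : (C ⊓ centralizer (A : Set G)) ⊓ o2 (centralizer ({x} : Set G)) ≤ o2 (C ⊓ centralizer (A : Set G)) :=
    le_o2 inf_le_left ((o2_isPGroup _).to_le inf_le_right)
      (normalizer_inf_le le_normalizer (hK.trans (le_normalizer_o2 _)))
  have h8 : o2 (C ⊓ centralizer (A : Set G)) ≤ o2 C :=
    le_o2 ((o2_le _).trans inf_le_left) (o2_isPGroup _)
      (normalizer_o2_le (normalizer_inf_le le_normalizer (normalizer_centralizer_le hAn)))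
  exact h6.trans (h7.trans h8)

/-! ### (3) -/

/-- `C_{K(r)}(V)` centralises `V'` -/
theorem K_comm' {r : G} (hr : r ∈ V) (h1 : r ≠ 1) (h2 : r ≠ r₁) {t : G} (ht : t ∈ KK r) (htV : ∀ v ∈ V, t * v = v * t)
    {u : G} (hu : u ∈ cj w V) : t * u = u * t := by
  have htT : t ∈ T := I.QV_T hr ⟨KK_le r ht, mem_centralizer_iff.2 fun v hv => (htV v hv).symm⟩
  rcases I.T_act' htT hu with h | h
  · exact mul_inv_eq_iff_eq_mul.1 h
  · exfalso
    have h3 : t * u = u * r₁ * t := mul_inv_eq_iff_eq_mul.1 h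
    have hui : u⁻¹ = u := inv_eq_of_mul_eq_one_left (I.cj_sq hu)
    have h4 : u * t * u⁻¹ = r₁ * t := by
      rw [hui, mul_assoc, h3]
      calc u * (u * r₁ * t) = (u * u) * r₁ * t := by group
        _ = r₁ * t := by rw [I.cj_sq hu, one_mul]
    rcases KK_cases (I.sq r hr) ht (I.cj_Q hr h1 h2 hu) with h5 | h5
    · rw [h4] at h5
      exact I.r₁_ne (mul_eq_right.1 h5)
    · rw [h4, KK_cen ht] at h5
      exact h2 (mul_right_cancel h5).symm

/-- `r₁` does not centralise `K(r)` -/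
theorem not_r₁ {r : G} (hr : r ∈ V) (h1 : r ≠ 1) (h2 : r ≠ r₁) : ¬ ∀ t ∈ KK r, t * r₁ = r₁ * t := by
  intro h
  obtain ⟨t, ht, h6⟩ := I.exists_t hr h1
  have h7 := h6 r₁ I.r₁V I.r₁_ne (Ne.symm h2)
  rw [h t ht, mul_inv_cancel_right] at h7
  exact h1 (left_eq_mul.1 h7)

theorem exists_u {r : G} (hr : r ∈ V) (h1 : r ≠ 1) (h2 : r ≠ r₁) : ∃ u ∈ cj w V, u ≠ 1 ∧ u ≠ r₁ ∧
    ∀ t ∈ KK r, t * u = u * t := by
  obtain ⟨t₀, ht₀, h3⟩ := I.exists_t hr h1
  -- some `u₀`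
  obtain ⟨u, hu, hu1, hu2, h4⟩ : ∃ u ∈ cj w V, u ≠ 1 ∧ u ≠ r₁ ∧ t₀ * u = u * t₀ := by
    have hu₀ : w * r * w⁻¹ ∈ cj w V := cj_mem hr
    have hn1 : w * r * w⁻¹ ≠ 1 := fun h => h1 (by rwa [mul_inv_eq_one, mul_eq_left] at h)
    have hn2 : w * r * w⁻¹ ≠ r₁ := fun h => h2 (by rw [← I.w_r] at h; exact mul_left_cancel (mul_right_cancel h))
    rcases KK_cases (I.sq r hr) ht₀ (I.cj_Q hr h1 h2 hu₀) with h | h
    · exact ⟨_, hu₀, hn1, hn2, (mul_inv_eq_iff_eq_mul.1 h).symm⟩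
    · set u₀ := w * r * w⁻¹ with hu
      have h5 := h3 r₁ I.r₁V I.r₁_ne (Ne.symm h2)
      have h6 : t₀ * r₁ = r₁ * r * t₀ := mul_inv_eq_iff_eq_mul.1 h5
      have h7 : u₀ * t₀ = t₀ * r * u₀ := mul_inv_eq_iff_eq_mul.1 h
      have h8 : u₀ * r₁ = r₁ * u₀ := (I.VV' I.r₁V hu₀).symm
      have h9 : u₀ * r = r * u₀ := (I.VV' hr hu₀).symm
      refine ⟨u₀ * r₁, mul_mem hu₀ I.r₁_cj, fun hh => hn2 ?_, fun hh => hn1 (mul_eq_right.1 hh), ?_⟩
      · rw [mul_eq_one_iff_eq_inv, I.inv I.r₁V] at hh; exact hh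
      · have h10 : t₀ * (u₀ * r₁) = r₁ * r * t₀ * u₀ := by rw [h8, ← mul_assoc, h6]
        have h11 : u₀ * r₁ * t₀ = r₁ * (t₀ * r * u₀) := by rw [h8, mul_assoc, h7]
        rw [h10, h11, KK_cen ht₀]; group
  refine ⟨u, hu, hu1, hu2, fun t ht => ?_⟩
  rcases I.K_act hr h1 ht with h5 | h5
  · exact I.K_comm' hr h1 h2 ht h5 hu
  · -- `t₀⁻¹ t` centralises `V`
    have h6 : ∀ v ∈ V, (t₀⁻¹ * t) * v = v * (t₀⁻¹ * t) := by
      intro v hv
      by_cases hv1 : v = 1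
      · rw [hv1]; group
      by_cases hv2 : v = r
      · have h7 : Commute t r := KK_cen ht
        have h8 : Commute t₀ r := KK_cen ht₀
        rw [hv2]
        exact (h8.inv_left.mul_left h7).eq
      · have h7 := h5 v hv hv1 hv2
        have h8 := h3 v hv hv1 hv2
        have h9 : t * v * t⁻¹ = t₀ * v * t₀⁻¹ := by rw [h7, h8]
        calc t₀⁻¹ * t * v = t₀⁻¹ * (t * v * t⁻¹) * t := by group
          _ = t₀⁻¹ * (t₀ * v * t₀⁻¹) * t := by rw [h9]
          _ = _ := by group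
    have h7 : Commute (t₀⁻¹ * t) u := I.K_comm' hr h1 h2 (mul_mem (inv_mem ht₀) ht) h6 hu
    have h8 : Commute t₀ u := h4
    have h9 := h8.mul_left h7
    rw [mul_inv_cancel_left] at h9
    exact h9.eq

theorem unique_u {r : G} (hr : r ∈ V) (h1 : r ≠ 1) (h2 : r ≠ r₁) {u u' : G} (hu : u ∈ cj w V) (hu1 : u ≠ 1)
    (hu2 : u ≠ r₁) (hc : ∀ t ∈ KK r, t * u = u * t) (hu' : u' ∈ cj w V) (hu1' : u' ≠ 1) (hu2' : u' ≠ r₁)
    (hc' : ∀ t ∈ KK r, t * u' = u' * t) : u' = u := by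
  rcases I.cases'' hu hu1 hu2 hu' with h | h | h | h
  · exact absurd h hu1'
  · exact absurd h hu2'
  · exact h
  · exfalso
    refine I.not_r₁ hr h1 h2 fun t ht => ?_
    have h3 : Commute t u := hc t ht
    have h4 : Commute t u' := hc' t ht
    have h5 : r₁ = u⁻¹ * u' := by rw [h]; group
    rw [h5]
    exact (h3.inv_right.mul_right h4).eq

/-! ### (3), the element `k` -/

theorem mul_mem_ne {r : G} (hr : r ∈ V) (h1 : r ≠ 1) (h2 : r ≠ r₁) : r * r₁ ∈ V ∧ r * r₁ ≠ 1 ∧ r * r₁ ≠ r₁ ∧ r * r₁ ≠ r := by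
  refine ⟨mul_mem hr I.r₁V, fun h => h2 ?_, fun h => h1 (mul_eq_right.1 h), fun h => I.r₁_ne (mul_eq_left.1 h)⟩
  rw [mul_eq_one_iff_eq_inv, I.inv I.r₁V] at h; exact h

/-- `K(r₁) ≤ ⟨K(r), K(r r₁)⟩` -/
theorem K_gen {r : G} (hr : r ∈ V) (h1 : r ≠ 1) (h2 : r ≠ r₁) {y : G} (hy : ∀ t ∈ KK r, t * y = y * t)
    (hy' : ∀ t ∈ KK (r * r₁), t * y = y * t) : ∀ t ∈ KK r₁, t * y = y * t := by
  obtain ⟨h3, h4, h5, h6⟩ := I.mul_mem_ne hr h1 h2
  obtain ⟨s, hs, h7⟩ := I.exists_t h3 h4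
  have h8 := h7 r hr h1 (Ne.symm h6)
  rw [← mul_assoc, I.sq r hr, one_mul] at h8
  intro t ht
  have h9 : s⁻¹ * t * s ∈ KK r := by
    have h := KK_conj s⁻¹ ht
    have e : s⁻¹ * r₁ * s⁻¹⁻¹ = r := by rw [← h8]; group
    rwa [e, inv_inv] at h
  have c1 : Commute (s⁻¹ * t * s) y := hy _ h9
  have c2 : Commute s y := hy' s hs
  have c3 := (c2.mul_left c1).mul_left c2.inv_left
  have e : s * (s⁻¹ * t * s) * s⁻¹ = t := by group
  rw [e] at c3
  exact c3.eq

/-- (3) : `k` -/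
theorem exists_k : ∃ r ∈ V, r ≠ 1 ∧ r ≠ r₁ ∧ ∃ k ∈ M, k ≠ 1 ∧ (∀ s ∈ V, s ≠ 1 → ∀ t ∈ KK s, t * k = k * t) ∧
    r * k ∈ cj w V ∧ (w * k * w⁻¹ = k ∨ w * k * w⁻¹ = k * r₁) := by
  obtain ⟨r, hr, h1, h2, -⟩ := I.four
  obtain ⟨h3, h4, h5, h6⟩ := I.mul_mem_ne hr h1 h2
  obtain ⟨u, hu, hu1, hu2, hu3⟩ := I.exists_u hr h1 h2
  obtain ⟨u', hu', hu1', hu2', hu3'⟩ := I.exists_u h3 h4 h5
  -- `u ≠ u'`
  have hne : u' ≠ u := by
    rintro rfl
    have h7 := I.K_gen hr h1 h2 hu3 hu3'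
    obtain ⟨t, ht, h8⟩ := I.exists_t I.r₁V I.r₁_ne
    have h9 : w * t * w⁻¹ ∈ KK r₁ := by
      have := KK_conj w ht
      rwa [I.w_r] at this
    have h10 := h8 (w⁻¹ * u' * w) (mem_cj.1 hu) (fun h => hu1 (by
      have e : u' = w * (w⁻¹ * u' * w) * w⁻¹ := by group
      rw [e, h]; group)) (fun h => hu2 (by
      have e : u' = w * (w⁻¹ * u' * w) * w⁻¹ := by group
      rw [e, h, I.w_r]))
    have h11 : (w * t * w⁻¹) * u' * (w * t * w⁻¹)⁻¹ = u' * r₁ := by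
      calc (w * t * w⁻¹) * u' * (w * t * w⁻¹)⁻¹ = w * (t * (w⁻¹ * u' * w) * t⁻¹) * w⁻¹ := by group
        _ = u' * (w * r₁ * w⁻¹) := by rw [h10]; group
        _ = u' * r₁ := by rw [I.w_r]
    rw [h7 _ h9, mul_inv_cancel_right] at h11
    exact I.r₁_ne (left_eq_mul.1 h11)
  have hu'u : u' = u * r₁ := by
    rcases I.cases'' hu hu1 hu2 hu' with h | h | h | h
    · exact absurd h hu1'
    · exact absurd h hu2'
    · exact absurd h hne
    · exact h
  have hru : r * u = u * r := I.VV' hr hu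
  have hr₁u : r₁ * u = u * r₁ := I.VV' I.r₁V hu
  have hrr₁ : r * r₁ = r₁ * r := I.Vcomm hr I.r₁V
  have hkk : (r * r₁) * u' = r * u := by
    rw [hu'u, ← hr₁u, mul_assoc, ← mul_assoc r₁ r₁, I.sq r₁ I.r₁V, one_mul]
  have hkc : ∀ t ∈ KK r, t * (r * u) = r * u * t := fun t ht => by
    rw [← mul_assoc, KK_cen ht, mul_assoc, hu3 t ht, mul_assoc]
  have hkc' : ∀ t ∈ KK (r * r₁), t * (r * u) = r * u * t := fun t ht => by
    rw [← hkk, ← mul_assoc, KK_cen ht, mul_assoc, hu3' t ht, mul_assoc (r * r₁)]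
  have hkc₁ := I.K_gen hr h1 h2 hkc hkc'
  have hall : ∀ s ∈ V, s ≠ 1 → ∀ t ∈ KK s, t * (r * u) = r * u * t := by
    intro s hs hs1
    rcases I.cases' hr h1 h2 hs with rfl | rfl | rfl | rfl
    · exact absurd rfl hs1
    · exact hkc₁
    · exact hkc
    · exact hkc'
  have hk1 : r * u ≠ 1 := by
    intro h
    rw [mul_eq_one_iff_eq_inv, inv_eq_of_mul_eq_one_left (I.cj_sq hu)] at h
    -- `V' = V`
    subst h
    apply I.w_not
    rw [mem_normalizer_iff]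
    have key : ∀ v, v ∈ cj w V ↔ v ∈ V := by
      intro v
      constructor
      · intro hv
        rcases I.cases'' hu h1 h2 hv with rfl | rfl | rfl | rfl
        exacts [one_mem _, I.r₁V, hr, h3]
      · intro hv
        rcases I.cases' hr h1 h2 hv with rfl | rfl | rfl | rfl
        exacts [one_mem _, I.r₁_cj, hu, mul_mem hu I.r₁_cj]
    intro v
    rw [← key (w * v * w⁻¹), mem_cj]
    have e : w⁻¹ * (w * v * w⁻¹) * w = v := by group
    rw [e]
  have hkT : r * u ∈ T := mul_mem (I.V_T hr) (I.cj_T hu)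
  have hkt : ∀ t ∈ T, t * (r * u) * t⁻¹ = r * u := by
    intro t ht
    have e : t * (r * u) * t⁻¹ = (t * r * t⁻¹) * (t * u * t⁻¹) := by group
    have hne1 : t * u * t⁻¹ ≠ 1 := fun h => hu1 (by rwa [mul_inv_eq_one, mul_eq_left] at h)
    have hne2 : t * u * t⁻¹ ≠ r₁ := fun h => hu2 (by
      rw [mul_inv_eq_iff_eq_mul, ← I.T₁_r t (I.T_T₁ ht)] at h
      exact mul_left_cancel h)
    have hmem : t * u * t⁻¹ ∈ cj w V := by
      rcases I.T_act' ht hu with h | h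
      · rw [h]; exact hu
      · rw [h]; exact mul_mem hu I.r₁_cj
    have hcc : ∀ s, (∀ y ∈ KK s, y * u = u * y) → ∀ y ∈ KK (t * s * t⁻¹), y * (t * u * t⁻¹) = t * u * t⁻¹ * y := by
      intro s hs y hy
      have h9 : t⁻¹ * y * t ∈ KK s := by
        have h := KK_conj t⁻¹ hy
        have e : t⁻¹ * (t * s * t⁻¹) * t⁻¹⁻¹ = s := by group
        rwa [e, inv_inv] at h
      have h10 := hs _ h9
      calc y * (t * u * t⁻¹) = t * (t⁻¹ * y * t * u) * t⁻¹ := by group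
        _ = t * (u * (t⁻¹ * y * t)) * t⁻¹ := by rw [h10]
        _ = _ := by group
    rcases I.T_act ht hr with h | h
    · have h11 := hcc r hu3
      rw [h] at h11
      rw [e, h, I.unique_u hr h1 h2 hu hu1 hu2 hu3 hmem hne1 hne2 h11]
    · have h11 := hcc r hu3
      rw [h] at h11
      rw [e, h, I.unique_u h3 h4 h5 hu' hu1' hu2' hu3' hmem hne1 hne2 h11, hkk]
  have hksq : (r * u) * (r * u) = 1 := by
    calc (r * u) * (r * u) = r * (u * r) * u := by group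
      _ = (r * r) * (u * u) := by rw [← hru]; group
      _ = 1 := by rw [I.sq r hr, I.cj_sq hu, one_mul]
  have hkzc : r * u ∈ zc T := by
    rw [mem_zc]
    exact ⟨hkT, fun t ht => mul_inv_eq_iff_eq_mul.1 (hkt t ht), by rw [pow_two]; exact hksq⟩
  have hkM : r * u ∈ M := by
    rcases I.M_cov _ hkzc with h | h
    · exact h
    · exfalso
      -- `M` centralises `K(r)`
      have hMK : ∀ m ∈ M, ∀ t ∈ KK r, t * m = m * t := by
        intro m hm t ht
        obtain ⟨e, he, h7, -, -⟩ := I.exists_e hr h1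
        have h8 : e⁻¹ * t * e ∈ KK r₁ := by
          have h := KK_conj e⁻¹ ht
          have e' : e⁻¹ * r * e⁻¹⁻¹ = r₁ := by rw [← h7]; group
          rwa [e', inv_inv] at h
        have h9 := (mem_zc.1 (I.M_zc hm)).2.1 _ (I.Q_T (KK_le _ h8))
        have c1 : Commute (e⁻¹ * t * e) m := h9
        have c2 : Commute e m := I.E_M e he m hm
        have c3 := (c2.mul_left c1).mul_left c2.inv_left
        have e3 : e * (e⁻¹ * t * e) * e⁻¹ = t := by group
        rw [e3] at c3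
        exact c3.eq
      refine I.not_r₁ hr h1 h2 fun t ht => ?_
      have c1 : Commute t (r₁ * (r * u)) := hMK _ h t ht
      have c2 : Commute t (r * u) := hkc t ht
      have e : r₁ = r₁ * (r * u) * (r * u)⁻¹ := by group
      rw [e]
      exact (c1.mul_right c2.inv_right).eq
  refine ⟨r, hr, h1, h2, r * u, hkM, hk1, hall, ?_, ?_⟩
  · rw [← mul_assoc, I.sq r hr, one_mul]; exact hu
  · -- `w k w⁻¹`
    have ha : w * r * w⁻¹ = u ∨ w * r * w⁻¹ = u * r₁ := by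
      have hn1 : w * r * w⁻¹ ≠ 1 := fun h => h1 (by rwa [mul_inv_eq_one, mul_eq_left] at h)
      have hn2 : w * r * w⁻¹ ≠ r₁ := fun h => h2 (by rw [← I.w_r] at h; exact mul_left_cancel (mul_right_cancel h))
      rcases I.cases'' hu hu1 hu2 (cj_mem hr) with h | h | h | h
      · exact absurd h hn1
      · exact absurd h hn2
      · exact Or.inl h
      · exact Or.inr h
    have hb : w * u * w⁻¹ = r ∨ w * u * w⁻¹ = r * r₁ := by
      have e : w * u * w⁻¹ = (w * w) * (w⁻¹ * u * w) * (w * w)⁻¹ := by group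
      have h7 : w * u * w⁻¹ ∈ V := by
        rw [e]
        exact conj_mem_of_normalizer (I.T_V I.w_sq) (mem_cj.1 hu)
      have hn1 : w * u * w⁻¹ ≠ 1 := fun h => hu1 (by rwa [mul_inv_eq_one, mul_eq_left] at h)
      have hn2 : w * u * w⁻¹ ≠ r₁ := fun h => hu2 (by rw [← I.w_r] at h; exact mul_left_cancel (mul_right_cancel h))
      rcases I.cases' hr h1 h2 h7 with h | h | h | h
      · exact absurd h hn1
      · exact absurd h hn2
      · exact Or.inl h
      · exact Or.inr h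
    have e : w * (r * u) * w⁻¹ = (w * r * w⁻¹) * (w * u * w⁻¹) := by group
    rcases ha with ha | ha <;> rcases hb with hb | hb
    · left; rw [e, ha, hb, hru]
    · right; rw [e, ha, hb, ← mul_assoc, hru]
    · right; rw [e, ha, hb, mul_assoc u, ← hrr₁, ← mul_assoc, hru]
    · left
      rw [e, ha, hb, mul_assoc u, ← mul_assoc r₁, ← hrr₁, mul_assoc r, I.sq r₁ I.r₁V, mul_one, hru]

/-! ### (4) -/

/-- `k ∉ V` -/
theorem k_not {k : G} (hk1 : k ≠ 1) (hK : ∀ s ∈ V, s ≠ 1 → ∀ t ∈ KK s, t * k = k * t) : k ∉ V := by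
  intro h
  obtain ⟨r, hr, h1, h2⟩ := I.four' h hk1
  obtain ⟨t, ht, h3⟩ := I.exists_t hr h1
  have h4 := h3 k h hk1 (Ne.symm h2.1)
  rw [hK r hr h1 t ht, mul_inv_cancel_right] at h4
  exact h1 (left_eq_mul.1 h4)

/-- (4a) -/
theorem not_a {r : G} (hr : r ∈ V) (h1 : r ≠ 1) {k : G} (hkM : k ∈ M) (hk1 : k ≠ 1)
    (hK : ∀ s ∈ V, s ≠ 1 → ∀ t ∈ KK s, t * k = k * t) (hrk : r * k ∈ cj w V) (hw : w * k * w⁻¹ = k) : False := by
  have : Fact (Nat.Prime 2) := ⟨Nat.prime_two⟩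
  have hkV := I.k_not hk1 hK
  have hk2 : k * k = 1 := by rw [← pow_two]; exact (mem_zc.1 (I.M_zc hkM)).2.2
  have hT₁k : (T₁ : Subgroup G) ≤ centralizer ({k} : Set G) := fun t ht => mem_cs.2 (I.x_T₁ hkM hw ht)
  have hT₁r : ∀ t ∈ (T₁ : Subgroup G), t * (r₁ * k) = r₁ * k * t := fun t ht => by
    rw [← mul_assoc, I.T₁_r t ht, mul_assoc, mem_cs.1 (hT₁k ht), mul_assoc]
  -- `g`
  have hne : w⁻¹ * (r * k) * w ≠ 1 := by
    intro h
    have h2 : r * k = 1 := by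
      calc r * k = w * (w⁻¹ * (r * k) * w) * w⁻¹ := by group
        _ = 1 := by rw [h]; group
    apply hkV
    rw [(mul_eq_one_iff_inv_eq.1 h2).symm]
    exact inv_mem hr
  obtain ⟨e, he, h2⟩ := I.E_tr _ (mem_cj.1 hrk) hne
  obtain ⟨f, hf, h3⟩ := I.E_tr r hr h1
  have hek : e * k = k * e := I.E_M e he k hkM
  have hfk : f * k = k * f := I.E_M f hf k hkM
  have hwk : w * k = k * w := mul_inv_eq_iff_eq_mul.1 hw
  have hgk : Commute (f⁻¹ * (w * e * w⁻¹)) k := by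
    have c1 : Commute f k := hfk
    have c2 : Commute e k := hek
    have c3 : Commute w k := hwk
    exact c1.inv_left.mul_left ((c3.mul_left c2).mul_left c3.inv_left)
  have hg : (f⁻¹ * (w * e * w⁻¹)) * r₁ * (f⁻¹ * (w * e * w⁻¹))⁻¹ = r₁ * k := by
    calc (f⁻¹ * (w * e * w⁻¹)) * r₁ * (f⁻¹ * (w * e * w⁻¹))⁻¹
        = f⁻¹ * (w * (e * (w⁻¹ * r₁ * w) * e⁻¹) * w⁻¹) * f := by group
      _ = f⁻¹ * (r * k) * f := by rw [I.w_r', h2]; group
      _ = f⁻¹ * (f * r₁ * f⁻¹ * k) * f := by rw [h3]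
      _ = r₁ * (f⁻¹ * (k * f)) := by group
      _ = r₁ * k := by rw [← hfk]; group
  set g := f⁻¹ * (w * e * w⁻¹) with hgdef
  let C := centralizer ({k} : Set G)
  let P : Sylow 2 C := T₁.subtype hT₁k
  have hPmem : ∀ y : C, y ∈ (P : Subgroup C) ↔ (y : G) ∈ (T₁ : Subgroup G) := fun y => Iff.rfl
  have hr₁C : r₁ * k = k * r₁ := (I.x_T₁ hkM hw (I.T_T₁ (I.V_T I.r₁V)))
  obtain ⟨n, hn, h4⟩ := P.conj_eq_normalizer_conj_of_mem_centralizer (⟨r₁, mem_cs.2 hr₁C⟩ : C)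
    (⟨g, mem_cs.2 hgk.eq⟩ : C)⁻¹ (by
      rw [mem_centralizer_iff]
      intro y hy
      exact Subtype.ext (I.T₁_r _ hy)) (by
      rw [mem_centralizer_iff]
      intro y hy
      apply Subtype.ext
      have e1 : ((((⟨g, mem_cs.2 hgk.eq⟩ : C)⁻¹)⁻¹ * (⟨r₁, mem_cs.2 hr₁C⟩ : C) * (⟨g, mem_cs.2 hgk.eq⟩ : C)⁻¹ : C) : G) =
        g * r₁ * g⁻¹ := by simp
      change (y : G) * (((((⟨g, mem_cs.2 hgk.eq⟩ : C)⁻¹)⁻¹ * (⟨r₁, mem_cs.2 hr₁C⟩ : C) * (⟨g, mem_cs.2 hgk.eq⟩ : C)⁻¹ : C) : G)) =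
        (((((⟨g, mem_cs.2 hgk.eq⟩ : C)⁻¹)⁻¹ * (⟨r₁, mem_cs.2 hr₁C⟩ : C) * (⟨g, mem_cs.2 hgk.eq⟩ : C)⁻¹ : C) : G)) * (y : G)
      rw [e1, hg]
      exact hT₁r _ hy)
  have h5 : g * r₁ * g⁻¹ = (n : G)⁻¹ * r₁ * n := by
    have := congrArg Subtype.val h4
    simpa using this
  rw [hg] at h5
  -- `m := n⁻¹` swaps `r₁` and `r₁ k`
  have hnk : (n : G) * k = k * n := mem_cs.1 n.2
  have h6 : ∀ j : ℕ, Odd j → (n : G) ^ j * r₁ * ((n : G) ^ j)⁻¹ = r₁ * k := by
    have ha : (n : G) * (r₁ * k) * (n : G)⁻¹ = r₁ := by rw [h5]; group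
    have hb : (n : G) * r₁ * (n : G)⁻¹ = r₁ * k := by
      have hc : (n : G) * r₁ * (n : G)⁻¹ * k = r₁ := by
        calc (n : G) * r₁ * (n : G)⁻¹ * k = (n : G) * r₁ * ((n : G)⁻¹ * (k * n)) * (n : G)⁻¹ := by group
          _ = (n : G) * (r₁ * k) * (n : G)⁻¹ := by rw [← hnk]; group
          _ = r₁ := ha
      calc (n : G) * r₁ * (n : G)⁻¹ = (n : G) * r₁ * (n : G)⁻¹ * k * k := by rw [mul_assoc _ k k, hk2, mul_one]
        _ = r₁ * k := by rw [hc]
    have hc : ∀ i : ℕ, ((n : G) ^ 2) ^ i * r₁ * (((n : G) ^ 2) ^ i)⁻¹ = r₁ := by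
      intro i
      induction i with
      | zero => simp
      | succ i ih =>
        calc ((n : G) ^ 2) ^ (i + 1) * r₁ * (((n : G) ^ 2) ^ (i + 1))⁻¹
            = ((n : G) ^ 2) ^ i * ((n : G) * ((n : G) * r₁ * (n : G)⁻¹) * (n : G)⁻¹) * (((n : G) ^ 2) ^ i)⁻¹ := by
              rw [pow_succ]; group
          _ = r₁ := by rw [hb, ha, ih]
    rintro j ⟨i, rfl⟩
    calc (n : G) ^ (2 * i + 1) * r₁ * ((n : G) ^ (2 * i + 1))⁻¹
        = (n : G) * (((n : G) ^ 2) ^ i * r₁ * (((n : G) ^ 2) ^ i)⁻¹) * (n : G)⁻¹ := by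
          rw [← pow_mul, pow_succ']; group
      _ = r₁ * k := by rw [hc, hb]
  -- the odd part
  obtain ⟨a, m, hm, hnm⟩ := Nat.exists_eq_two_pow_mul_odd (n := orderOf n) (orderOf_pos n).ne'
  have h7 : IsPGroup 2 (zpowers (n ^ m)) := by
    refine IsPGroup.of_card (n := a) ?_
    rw [Nat.card_zpowers, orderOf_pow_of_dvd hm.pos.ne' (hnm ▸ Dvd.intro_left _ rfl), hnm,
      Nat.mul_div_cancel _ hm.pos]
  have h8 : n ^ m ∈ normalizer ((P : Subgroup C) : Set C) := pow_mem hn m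
  have h9 : IsPGroup 2 ((P : Subgroup C) ⊔ zpowers (n ^ m) : Subgroup C) :=
    IsPGroup.to_sup_of_normal_left' P.2 h7 (by rwa [zpowers_le])
  have h10 : (P : Subgroup C) ⊔ zpowers (n ^ m) = P := P.3 h9 le_sup_left
  have h11 : n ^ m ∈ (P : Subgroup C) := by
    rw [← h10]; exact mem_sup_right (mem_zpowers _)
  have h12 : (n : G) ^ m ∈ (T₁ : Subgroup G) := by
    have := (hPmem _).1 h11
    simpa using this
  have h13 := h6 m hm
  rw [I.T₁_r _ h12, mul_inv_cancel_right] at h13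
  exact hk1 (left_eq_mul.1 h13)

/-! ### (4b) -/

/-- `F = V ⟨k⟩` -/
def FF {k : G} (h2 : k * k = 1) (hc : ∀ v ∈ V, k * v = v * k) : Subgroup G where
  carrier := {f | f ∈ V ∨ f * k ∈ V}
  one_mem' := Or.inl (one_mem _)
  mul_mem' := by
    rintro a b (ha | ha) (hb | hb)
    · exact Or.inl (mul_mem ha hb)
    · exact Or.inr (by rw [mul_assoc]; exact mul_mem ha hb)
    · right
      rw [mul_assoc, ← hc b hb, ← mul_assoc]; exact mul_mem ha hb
    · left
      have e : a * b = (a * k) * (b * k) := by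
        have h1 : b = (b * k) * k := by rw [mul_assoc, h2, mul_one]
        calc a * b = a * ((b * k) * k) := by rw [← h1]
          _ = a * (k * (b * k)) := by rw [hc _ hb]
          _ = _ := by group
      rw [e]; exact mul_mem ha hb
  inv_mem' := by
    rintro a (ha | ha)
    · exact Or.inl (inv_mem ha)
    · right
      have hk : k⁻¹ = k := inv_eq_of_mul_eq_one_left h2
      have e : a⁻¹ * k = (a * k)⁻¹ := by
        have h1 := hc _ ha
        have h3 : a = k * (a * k) := by rw [h1, mul_assoc, h2, mul_one]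
        calc a⁻¹ * k = (k * (a * k))⁻¹ * k := by rw [← h3]
          _ = (a * k)⁻¹ * (k⁻¹ * k) := by group
          _ = _ := by rw [inv_mul_cancel, mul_one]
      rw [e]; exact inv_mem ha

/-- (4b) -/
theorem not_b {r : G} (hr : r ∈ V) (h1 : r ≠ 1) (h2 : r ≠ r₁) {k : G} (hkM : k ∈ M) (hk1 : k ≠ 1)
    (hK : ∀ s ∈ V, s ≠ 1 → ∀ t ∈ KK s, t * k = k * t) (hrk : r * k ∈ cj w V) (hw : w * k * w⁻¹ = k * r₁) : False := by
  have : Fact (Nat.Prime 2) := ⟨Nat.prime_two⟩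
  have hkV := I.k_not hk1 hK
  have hk2 : k * k = 1 := by rw [← pow_two]; exact (mem_zc.1 (I.M_zc hkM)).2.2
  have hkT : ∀ t ∈ T, t * k = k * t := (mem_zc.1 (I.M_zc hkM)).2.1
  have hkv : ∀ v ∈ V, k * v = v * k := fun v hv => (hkT v (I.V_T hv)).symm
  obtain ⟨F, hF⟩ : ∃ F : Subgroup G, ∀ f, f ∈ F ↔ f ∈ V ∨ f * k ∈ V := ⟨FF hk2 hkv, fun f => Iff.rfl⟩
  have hVF : ∀ v ∈ V, v ∈ F := fun v hv => (hF v).2 (Or.inl hv)
  have hkF : k ∈ F := (hF k).2 (Or.inr (by rw [hk2]; exact one_mem _))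
  obtain ⟨h3, h4, h5, h6⟩ := I.mul_mem_ne hr h1 h2
  have hrk1 : r * k ≠ 1 := by
    intro h
    apply hkV
    rw [(mul_eq_one_iff_inv_eq.1 h).symm]
    exact inv_mem hr
  have hrk2 : r * k ≠ r₁ := by
    intro h
    apply hkV
    have : k = r⁻¹ * r₁ := by rw [← h]; group
    rw [this]
    exact mul_mem (inv_mem hr) I.r₁V
  -- `V' ≤ F`
  have hV'F : ∀ u ∈ cj w V, u ∈ F := by
    intro u hu
    rcases I.cases'' hrk hrk1 hrk2 hu with rfl | rfl | rfl | rfl
    exacts [one_mem _, hVF _ I.r₁V, mul_mem (hVF _ hr) hkF, mul_mem (mul_mem (hVF _ hr) hkF) (hVF _ I.r₁V)]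
  -- the normaliser of `F`
  have hN : ∀ g : G, (∀ v ∈ V, g * v * g⁻¹ ∈ F) → g * k * g⁻¹ ∈ F → g ∈ normalizer (F : Set G) := by
    intro g hg hgk
    refine Cfsg.Agent.MinSimple.VModule.mem_normalizer_of_map_le ?_
    rintro _ ⟨f, hf, rfl⟩
    change g * f * g⁻¹ ∈ F
    rcases (hF f).1 hf with h | h
    · exact hg f h
    · have e : g * f * g⁻¹ = (g * (f * k) * g⁻¹) * (g * k * g⁻¹) := by
        calc g * f * g⁻¹ = g * (f * (k * k)) * g⁻¹ := by rw [hk2, mul_one]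
          _ = _ := by group
      rw [e]; exact mul_mem (hg _ h) hgk
  have hKN : ∀ s ∈ V, s ≠ 1 → ∀ t ∈ KK s, t ∈ normalizer (F : Set G) := by
    intro s hs hs1 t ht
    refine hN t (fun v hv => hVF _ (conj_mem_of_normalizer (I.K_nV hs hs1 ht) hv)) ?_
    rw [hK s hs hs1 t ht, mul_inv_cancel_right]; exact hkF
  have hwN : w ∈ normalizer (F : Set G) :=
    hN w (fun v hv => hV'F _ (cj_mem hv)) (by rw [hw]; exact mul_mem hkF (hVF _ I.r₁V))
  have hTN : ∀ t ∈ T, t ∈ normalizer (F : Set G) := fun t ht =>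
    hN t (fun v hv => hVF _ (conj_mem_of_normalizer (I.T_V ht) hv)) (by
      rw [hkT t ht, mul_inv_cancel_right]; exact hkF)
  have hT₁N : (T₁ : Subgroup G) ≤ normalizer (F : Set G) := by
    intro t ht
    rcases I.cov t ht with h | h
    · exact hTN t h
    · have h7 := mul_mem (hTN _ h) (inv_mem hwN)
      rwa [mul_inv_cancel_right] at h7
  -- `a : r₁ ↦ r₁ r`
  obtain ⟨a, ha, ha'⟩ := I.exists_t hr h1
  have ha₁ := ha' r₁ I.r₁V I.r₁_ne (Ne.symm h2)
  -- `s`, `c`, `b`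
  obtain ⟨s, hs⟩ : ∃ s, s = w⁻¹ * (r * k) * w := ⟨_, rfl⟩
  have hsV : s ∈ V := by rw [hs]; exact mem_cj.1 hrk
  have es : r * k = w * s * w⁻¹ := by rw [hs]; group
  have hs1 : s ≠ 1 := fun h => hrk1 (by rw [es, h]; group)
  have hs2 : s ≠ r₁ := fun h => hrk2 (by rw [es, h, I.w_r])
  obtain ⟨h7, h8, h9, h10⟩ := I.mul_mem_ne hsV hs1 hs2
  obtain ⟨c, hc, hc'⟩ := I.exists_t h7 h8
  have hcs : c * s * c⁻¹ = r₁ := by
    rw [hc' s hsV hs1 (Ne.symm h10), ← mul_assoc, I.sq s hsV, one_mul]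
  have hck : c * k = k * c := hK _ h7 h8 c hc
  have hb : (w * c * w⁻¹) * (r₁ * r) * (w * c * w⁻¹)⁻¹ = k := by
    have e1 : r₁ * r = w * (s * k) * w⁻¹ := by
      have e2 : w * (s * k) * w⁻¹ = (w * s * w⁻¹) * (w * k * w⁻¹) := by group
      rw [e2, ← es, hw, mul_assoc, ← mul_assoc k k, hk2, one_mul]
      exact I.Vcomm I.r₁V hr
    have e3 : c * (s * k) * c⁻¹ = r₁ * k := by
      calc c * (s * k) * c⁻¹ = (c * s * c⁻¹) * (c * k * c⁻¹) := by group
        _ = _ := by rw [hcs, hck, mul_inv_cancel_right]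
    calc (w * c * w⁻¹) * (r₁ * r) * (w * c * w⁻¹)⁻¹ = w * (c * (w⁻¹ * (r₁ * r) * w) * c⁻¹) * w⁻¹ := by group
      _ = w * (c * (s * k) * c⁻¹) * w⁻¹ := by rw [e1]; group
      _ = (w * r₁ * w⁻¹) * (w * k * w⁻¹) := by rw [e3]; group
      _ = r₁ * (k * r₁) := by rw [I.w_r, hw]
      _ = k := by rw [hkv r₁ I.r₁V, ← mul_assoc, I.sq r₁ I.r₁V, one_mul]
  have hn : ((w * c * w⁻¹) * a) * r₁ * ((w * c * w⁻¹) * a)⁻¹ = k := by
    rw [← hb, ← ha₁]; group
  have hnN : (w * c * w⁻¹) * a ∈ normalizer (F : Set G) :=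
    mul_mem (mul_mem (mul_mem hwN (hKN _ h7 h8 c hc)) (inv_mem hwN)) (hKN r hr h1 a ha)
  obtain ⟨n, hnd⟩ : ∃ n, n = (w * c * w⁻¹) * a := ⟨_, rfl⟩
  rw [← hnd] at hn hnN
  -- `t₀`
  obtain ⟨t, ht, ht'⟩ := I.exists_t I.r₁V I.r₁_ne
  have htk : t * k = k * t := hK _ I.r₁V I.r₁_ne t ht
  have htV : ∀ v ∈ V, t * v * t⁻¹ = v ∨ t * v * t⁻¹ = v * r₁ := fun v hv => I.comm _ (KK_le _ ht) v hv
  have htF : ∀ f ∈ F, t * f * t⁻¹ = f ∨ t * f * t⁻¹ = f * r₁ := by
    intro f hf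
    rcases (hF f).1 hf with h | h
    · exact htV f h
    · have e : t * f * t⁻¹ = (t * (f * k) * t⁻¹) * k := by
        calc t * f * t⁻¹ = t * (f * (k * k)) * t⁻¹ := by rw [hk2, mul_one]
          _ = (t * (f * k) * t⁻¹) * (t * k * t⁻¹) := by group
          _ = _ := by rw [htk, mul_inv_cancel_right]
      rcases htV _ h with h11 | h11
      · left; rw [e, h11, mul_assoc, hk2, mul_one]
      · right
        rw [e, h11, mul_assoc, ← hkv r₁ I.r₁V, ← mul_assoc, mul_assoc f k k, hk2, mul_one]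
  -- `u = n t n⁻¹`
  obtain ⟨u, hu⟩ : ∃ u, u = n * t * n⁻¹ := ⟨_, rfl⟩
  have huN : u ∈ normalizer (F : Set G) := by
    rw [hu]; exact mul_mem (mul_mem hnN (hKN _ I.r₁V I.r₁_ne t ht)) (inv_mem hnN)
  have huF : ∀ f ∈ F, u * f * u⁻¹ = f ∨ u * f * u⁻¹ = f * k := by
    intro f hf
    have h11 := conj_mem_of_normalizer' hnN hf
    have e : u * f * u⁻¹ = n * (t * (n⁻¹ * f * n) * t⁻¹) * n⁻¹ := by rw [hu]; group
    rcases htF _ h11 with h12 | h12
    · left; rw [e, h12]; group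
    · right; rw [e, h12]
      calc n * (n⁻¹ * f * n * r₁) * n⁻¹ = f * (n * r₁ * n⁻¹) := by group
        _ = _ := by rw [hn]
  have huk : u * k = k * u := by
    rcases huF k hkF with h | h
    · exact mul_inv_eq_iff_eq_mul.1 h
    · exfalso
      rw [hk2, mul_inv_eq_one, mul_eq_left] at h
      exact hk1 h
  -- `u` moves some `v ∈ V`
  have humove : ∃ v ∈ V, u * v * u⁻¹ = v * k := by
    by_contra hne
    push Not at hne
    have h11 : ∀ f ∈ F, u * f * u⁻¹ = f := by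
      intro f hf
      rcases (hF f).1 hf with h | h
      · exact (huF f hf).resolve_right (hne f h)
      · have h12 := (huF _ (hVF _ h)).resolve_right (hne _ h)
        calc u * f * u⁻¹ = u * (f * (k * k)) * u⁻¹ := by rw [hk2, mul_one]
          _ = (u * (f * k) * u⁻¹) * (u * k * u⁻¹) := by group
          _ = f := by rw [h12, huk, mul_inv_cancel_right, mul_assoc, hk2, mul_one]
    have h12 := h11 _ (conj_mem_of_normalizer hnN (hVF r hr))
    have h13 : t * r * t⁻¹ = r := by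
      calc t * r * t⁻¹ = n⁻¹ * (u * (n * r * n⁻¹) * u⁻¹) * n := by rw [hu]; group
        _ = r := by rw [h12]; group
    rw [ht' r hr h1 h2] at h13
    exact I.r₁_ne (mul_eq_left.1 h13)
  -- `u` fixes exactly one `q ∈ V#`
  obtain ⟨q, hq, hq1, hqu⟩ : ∃ q ∈ V, q ≠ 1 ∧ u * q * u⁻¹ = q := by
    rcases huF r₁ (hVF _ I.r₁V) with h | h
    · exact ⟨r₁, I.r₁V, I.r₁_ne, h⟩
    rcases huF r (hVF _ hr) with h' | h'
    · exact ⟨r, hr, h1, h'⟩
    · refine ⟨r * r₁, h3, h4, ?_⟩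
      have e : u * (r * r₁) * u⁻¹ = (u * r * u⁻¹) * (u * r₁ * u⁻¹) := by group
      rw [e, h, h', mul_assoc, ← mul_assoc k, hkv r₁ I.r₁V, mul_assoc r₁, hk2, mul_one]
  -- `x` with `x q x⁻¹ = r₁`
  obtain ⟨x, hxN, hxV, hxk, hxq⟩ : ∃ x, x ∈ normalizer (F : Set G) ∧ x ∈ normalizer (V : Set G) ∧ x * k = k * x ∧
      x * q * x⁻¹ = r₁ := by
    by_cases hqr : q = r₁
    · exact ⟨1, one_mem _, one_mem _, by rw [one_mul, mul_one], by rw [hqr]; group⟩
    · obtain ⟨h11, h12, h13, h14⟩ := I.mul_mem_ne hq hq1 hqr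
      obtain ⟨y, hy, hy'⟩ := I.exists_t h11 h12
      refine ⟨y, hKN _ h11 h12 y hy, I.K_nV h11 h12 hy, hK _ h11 h12 y hy, ?_⟩
      rw [hy' q hq hq1 (Ne.symm h14), ← mul_assoc, I.sq q hq, one_mul]
  obtain ⟨z, hz⟩ : ∃ z, z = x * u * x⁻¹ := ⟨_, rfl⟩
  have hzN : z ∈ normalizer (F : Set G) := by rw [hz]; exact mul_mem (mul_mem hxN huN) (inv_mem hxN)
  have hzF : ∀ f ∈ F, z * f * z⁻¹ = f ∨ z * f * z⁻¹ = f * k := by
    intro f hf
    have h11 := conj_mem_of_normalizer' hxN hf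
    have e : z * f * z⁻¹ = x * (u * (x⁻¹ * f * x) * u⁻¹) * x⁻¹ := by rw [hz]; group
    rcases huF _ h11 with h12 | h12
    · left; rw [e, h12]; group
    · right; rw [e, h12]
      calc x * (x⁻¹ * f * x * k) * x⁻¹ = f * (x * k * x⁻¹) := by group
        _ = _ := by rw [hxk, mul_inv_cancel_right]
  have hzk : z * k = k * z := by
    have c1 : Commute x k := hxk
    have c2 : Commute u k := huk
    rw [hz]
    exact ((c1.mul_left c2).mul_left c1.inv_left).eq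
  have hzr₁ : z * r₁ = r₁ * z := by
    have h11 : z * r₁ * z⁻¹ = r₁ := by
      calc z * r₁ * z⁻¹ = z * (x * q * x⁻¹) * z⁻¹ := by rw [hxq]
        _ = x * (u * q * u⁻¹) * x⁻¹ := by rw [hz]; group
        _ = r₁ := by rw [hqu, hxq]
    exact mul_inv_eq_iff_eq_mul.1 h11
  have hzr : z * r * z⁻¹ = r * k := by
    rcases hzF r (hVF _ hr) with h | h
    · exfalso
      obtain ⟨v, hv, hv'⟩ := humove
      have hall : ∀ v ∈ V, z * v * z⁻¹ = v := by
        intro v hv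
        have hzr' : Commute z r := mul_inv_eq_iff_eq_mul.1 h
        have hzr₁' : Commute z r₁ := hzr₁
        have : Commute z v := by
          rcases I.cases' hr h1 h2 hv with rfl | rfl | rfl | rfl
          exacts [Commute.one_right _, hzr₁', hzr', hzr'.mul_right hzr₁']
        rw [this.eq, mul_inv_cancel_right]
      have h11 := hall _ (conj_mem_of_normalizer hxV hv)
      have h12 : u * v * u⁻¹ = v := by
        calc u * v * u⁻¹ = x⁻¹ * (z * (x * v * x⁻¹) * z⁻¹) * x := by rw [hz]; group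
          _ = v := by rw [h11]; group
      rw [hv'] at h12
      exact hk1 (mul_eq_left.1 h12)
    · exact h
  -- `M₀`
  let M₀ : Subgroup G := normalizer (F : Set G) ⊓ (centralizer ({r₁} : Set G) ⊓ centralizer ({k} : Set G))
  have hM₀ : ∀ y ∈ M₀, ∃ d, y * r * y⁻¹ = r * d ∧ d * d = 1 ∧ ∀ y' ∈ M₀, y' * d = d * y' := by
    rintro y ⟨hy1, hy2, hy3⟩
    have h11 : y * r * y⁻¹ ∈ F := conj_mem_of_normalizer hy1 (hVF _ hr)
    have hyr₁ := mem_cs.1 hy2
    have hyk := mem_cs.1 hy3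
    have key : ∀ f ∈ F, f = 1 ∨ f = r₁ ∨ f = k ∨ f = r₁ * k ∨ ∃ d, f = r * d ∧ d * d = 1 ∧ ∀ y' ∈ M₀, y' * d = d * y' := by
      have hd : ∀ d, (d = 1 ∨ d = r₁ ∨ d = k ∨ d = r₁ * k) → d * d = 1 ∧ ∀ y' ∈ M₀, y' * d = d * y' := by
        have c2 : Commute r₁ k := (hkv r₁ I.r₁V).symm
        rintro d (rfl | rfl | rfl | rfl)
        · exact ⟨one_mul 1, fun y' _ => by rw [mul_one, one_mul]⟩
        · exact ⟨I.sq _ I.r₁V, fun y' hy' => mem_cs.1 hy'.2.1⟩
        · exact ⟨hk2, fun y' hy' => mem_cs.1 hy'.2.2⟩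
        · refine ⟨?_, fun y' hy' => ?_⟩
          · calc r₁ * k * (r₁ * k) = r₁ * (k * r₁) * k := by group
              _ = (r₁ * r₁) * (k * k) := by rw [hkv r₁ I.r₁V]; group
              _ = 1 := by rw [I.sq r₁ I.r₁V, hk2, one_mul]
          · have c3 : Commute y' r₁ := mem_cs.1 hy'.2.1
            have c4 : Commute y' k := mem_cs.1 hy'.2.2
            exact (c3.mul_right c4).eq
      intro f hf
      rcases (hF f).1 hf with h | h
      · rcases I.cases' hr h1 h2 h with rfl | rfl | rfl | rfl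
        · left; rfl
        · right; left; rfl
        · right; right; right; right; exact ⟨1, (mul_one _).symm, hd 1 (Or.inl rfl)⟩
        · right; right; right; right; exact ⟨r₁, rfl, hd _ (Or.inr (Or.inl rfl))⟩
      · have e : f = (f * k) * k := by rw [mul_assoc, hk2, mul_one]
        rcases I.cases' hr h1 h2 h with h | h | h | h
        · right; right; left; rw [e, h, one_mul]
        · right; right; right; left; rw [e, h]
        · right; right; right; right; exact ⟨k, by rw [e, h], hd _ (Or.inr (Or.inr (Or.inl rfl)))⟩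
        · right; right; right; right
          exact ⟨r₁ * k, by rw [e, h, mul_assoc], hd _ (Or.inr (Or.inr (Or.inr rfl)))⟩
    have hback : ∀ d, y * d = d * y → y * r * y⁻¹ = d → r = d := by
      intro d hd h
      have h12 : y * r = y * d := by rw [hd]; exact mul_inv_eq_iff_eq_mul.1 h
      exact mul_left_cancel h12
    rcases key _ h11 with h | h | h | h | h
    · exact absurd (hback 1 (by rw [mul_one, one_mul]) h) h1
    · exact absurd (hback _ hyr₁ h) h2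
    · exact absurd (hback _ hyk h) fun hh => hkV (hh ▸ hr)
    · exfalso
      have c3 : Commute y r₁ := hyr₁
      have c4 : Commute y k := hyk
      have h12 := hback _ (c3.mul_right c4).eq h
      apply hkV
      have : k = r₁⁻¹ * r := by rw [h12]; group
      rw [this]; exact mul_mem (inv_mem I.r₁V) hr
    · exact h
  have hTM₀ : T ≤ M₀ := fun y hy => ⟨hTN y hy, mem_cs.2 (I.T₁_r y (I.T_T₁ hy)), mem_cs.2 (hkT y hy)⟩
  have hzM₀ : z ∈ M₀ := ⟨hzN, mem_cs.2 hzr₁, mem_cs.2 hzk⟩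
  -- a Sylow 2-subgroup `P` of `M₀` over `T`
  have hTp : IsPGroup 2 (T.subgroupOf M₀) :=
    (T₁.2.to_le I.T_T₁).comap_of_injective _ M₀.subtype_injective
  obtain ⟨P, hP⟩ := hTp.exists_le_sylow
  -- `z` is a 2-element
  have hzp : IsPGroup 2 (zpowers (⟨z, hzM₀⟩ : M₀)) := by
    have h11 : IsPGroup 2 (zpowers t) := (o2_isPGroup (centralizer ({r₁} : Set G))).to_le (by
      rw [zpowers_le]; exact KK_le _ ht)
    obtain ⟨j, hj⟩ := h11 ⟨t, mem_zpowers t⟩
    have hj' : t ^ 2 ^ j = 1 := by simpa using congrArg Subtype.val hj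
    have hzj : z ^ 2 ^ j = 1 := by
      have e : z = (x * n) * t * (x * n)⁻¹ := by rw [hz, hu]; group
      rw [e, conj_pow, hj', mul_one, mul_inv_cancel]
    have h12 : (⟨z, hzM₀⟩ : M₀) ^ 2 ^ j = 1 := Subtype.ext (by simpa using hzj)
    obtain ⟨i, -, hi⟩ := (Nat.dvd_prime_pow Nat.prime_two).1 (orderOf_dvd_of_pow_eq_one h12)
    exact IsPGroup.of_card (n := i) (by rw [Nat.card_zpowers, hi])
  obtain ⟨P', hP'⟩ := hzp.exists_le_sylow
  obtain ⟨g, hg⟩ := MulAction.exists_smul_eq M₀ P' P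
  have hgz : g * (⟨z, hzM₀⟩ : M₀) * g⁻¹ ∈ (P : Subgroup M₀) := by
    rw [← hg]
    have h11 : (⟨z, hzM₀⟩ : M₀) ∈ (P' : Subgroup M₀) := hP' (mem_zpowers _)
    exact ⟨_, h11, rfl⟩
  -- it is not in `T`
  have hgz' : (g : G) * z * (g : G)⁻¹ ∉ T := by
    intro h
    obtain ⟨d, hd, -, hd'⟩ := hM₀ _ (inv_mem g.2)
    have h11 : (g : G) * r * (g : G)⁻¹ = r * d := by
      -- `g⁻¹ r g = r d`
      have h12 : (g : G) * (r * d) * (g : G)⁻¹ = r := by rw [← hd]; group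
      have h13 : (g : G) * d * (g : G)⁻¹ = d := by rw [hd' _ g.2, mul_inv_cancel_right]
      have h14 : (g : G) * (r * d) * (g : G)⁻¹ = ((g : G) * r * (g : G)⁻¹) * d := by
        calc (g : G) * (r * d) * (g : G)⁻¹ = ((g : G) * r * (g : G)⁻¹) * ((g : G) * d * (g : G)⁻¹) := by group
          _ = _ := by rw [h13]
      rw [h14] at h12
      obtain ⟨d', hd'', hd2, hd3⟩ := hM₀ _ g.2
      rw [hd''] at h12 ⊢
      have h15 : d' * d = 1 := by
        rw [mul_assoc, mul_eq_left] at h12; exact h12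
      have h16 : d = d' := by
        calc d = d' * (d' * d) := by rw [← mul_assoc, hd2, one_mul]
          _ = d' := by rw [h15, mul_one]
      rw [h16]
    -- so `g z g⁻¹ : r ↦ r k`
    have h12 : ((g : G) * z * (g : G)⁻¹) * r * ((g : G) * z * (g : G)⁻¹)⁻¹ = r * k := by
      have h13 : z * d = d * z := hd' z hzM₀
      have h14 : (g : G) * k = k * g := mem_cs.1 g.2.2.2
      have h15 : (g : G) * d = d * g := hd' _ g.2
      calc ((g : G) * z * (g : G)⁻¹) * r * ((g : G) * z * (g : G)⁻¹)⁻¹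
          = g * (z * ((g : G)⁻¹ * r * (g : G)⁻¹⁻¹) * z⁻¹) * (g : G)⁻¹ := by group
        _ = g * ((z * r * z⁻¹) * (z * d * z⁻¹)) * (g : G)⁻¹ := by rw [hd]; group
        _ = g * (r * k * d) * (g : G)⁻¹ := by rw [hzr, h13, mul_inv_cancel_right]
        _ = (g * r * (g : G)⁻¹) * (g * k * (g : G)⁻¹) * (g * d * (g : G)⁻¹) := by group
        _ = (r * d) * k * d := by rw [h11, h14, h15, mul_inv_cancel_right, mul_inv_cancel_right]
        _ = r * k := by
          have hdk : d * k = k * d := by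
            have := hd' k ⟨le_normalizer hkF, mem_cs.2 (hkv r₁ I.r₁V), mem_cs.2 rfl⟩
            exact this.symm
          have hdd : d * d = 1 := by
            obtain ⟨d', hd'', hd2, hd3⟩ := hM₀ _ (inv_mem g.2)
            have : d = d' := mul_left_cancel (hd.symm.trans hd'')
            rw [this]; exact hd2
          calc (r * d) * k * d = r * (d * k) * d := by group
            _ = r * k * (d * d) := by rw [hdk]; group
            _ = r * k := by rw [hdd, mul_one]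
    rcases I.T_act h hr with h13 | h13
    · rw [h12] at h13; exact hk1 (mul_eq_left.1 h13)
    · rw [h12] at h13
      exact hkV (mul_left_cancel h13 ▸ I.r₁V)
  -- cardinalities
  set T2 : Subgroup G := (P : Subgroup M₀).map M₀.subtype with hT2
  have hTT2 : T ≤ T2 := fun y hy => ⟨⟨y, hTM₀ hy⟩, hP hy, rfl⟩
  have hT2ne : T ≠ T2 := by
    intro h
    apply hgz'
    rw [h]
    exact ⟨_, hgz, rfl⟩
  have hcT : 2 * Nat.card T ≤ Nat.card T2 := by
    obtain ⟨j, hj⟩ := card_dvd_of_le hTT2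
    have hpos : 0 < Nat.card T2 := Nat.card_pos
    have hpT : 0 < Nat.card T := Nat.card_pos
    have hj0 : j ≠ 0 := by rintro rfl; rw [mul_zero] at hj; omega
    have hj1 : j ≠ 1 := by
      rintro rfl
      exact hT2ne (eq_of_le_of_card_ge hTT2 (by rw [hj, mul_one]))
    rw [hj, mul_comm]
    exact Nat.mul_le_mul_left _ (by omega)
  have hcT₁ : Nat.card (T₁ : Subgroup G) ≤ 2 * Nat.card T := by
    classical
    have : Nat.card (Bool × T) = 2 * Nat.card T := by rw [Nat.card_prod]; simp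
    rw [← this]
    apply Nat.card_le_card_of_injective (fun y : (T₁ : Subgroup G) =>
      if h : (y : G) ∈ T then ((false, ⟨y, h⟩) : Bool × T) else (true, ⟨y * w, (I.cov y y.2).resolve_left h⟩))
    intro p q hpq
    by_cases hp : (p : G) ∈ T <;> by_cases hq : (q : G) ∈ T <;> simp [hp, hq] at hpq
    · exact hpq
    · exact hpq
  -- conjugate `T2` into `T₁` inside `N(F)`
  have hT2N : T2 ≤ normalizer (F : Set G) := by
    rintro _ ⟨y, -, rfl⟩
    exact y.2.1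
  have hT2p : IsPGroup 2 (T2.subgroupOf (normalizer (F : Set G))) :=
    ((P.2.map M₀.subtype : IsPGroup 2 T2)).comap_of_injective _ (subtype_injective _)
  obtain ⟨Q, hQ⟩ := hT2p.exists_le_sylow
  obtain ⟨y, hy⟩ := MulAction.exists_smul_eq (normalizer (F : Set G)) Q (T₁.subtype hT₁N)
  have hconj : T2.map (MulAut.conj (y : G)).toMonoidHom ≤ (T₁ : Subgroup G) := by
    rintro _ ⟨p, hp, rfl⟩
    have h11 : (⟨p, hT2N hp⟩ : normalizer (F : Set G)) ∈ (Q : Subgroup (normalizer (F : Set G))) := hQ hp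
    have h12 : y * ⟨p, hT2N hp⟩ * y⁻¹ ∈ ((y • Q : Sylow 2 (normalizer (F : Set G))) : Subgroup (normalizer (F : Set G))) :=
      ⟨_, h11, rfl⟩
    rw [hy] at h12
    exact h12
  have heq : T2.map (MulAut.conj (y : G)).toMonoidHom = (T₁ : Subgroup G) := by
    refine eq_of_le_of_card_ge hconj ?_
    rw [card_map_of_injective (MulAut.conj (y : G)).injective]
    exact hcT₁.trans hcT
  have hwy : w ∈ T2.map (MulAut.conj (y : G)).toMonoidHom := by rw [heq]; exact I.w_T₁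
  obtain ⟨p, hp, hpw⟩ := hwy
  have hpw' : w = y * p * (y : G)⁻¹ := hpw.symm
  obtain ⟨p', hp', rfl⟩ := hp
  -- `p'²` centralises `F`
  have hp2 : ∀ f ∈ F, (p' : G) * ((p' : G) * f * (p' : G)⁻¹) * (p' : G)⁻¹ = f := by
    obtain ⟨d, hd, hd2, hd3⟩ := hM₀ _ p'.2
    have c1 : Commute ((p' : G) * p') r := by
      have h11 : (p' : G) * ((p' : G) * r * (p' : G)⁻¹) * (p' : G)⁻¹ = r := by
        rw [hd]
        calc (p' : G) * (r * d) * (p' : G)⁻¹ = ((p' : G) * r * (p' : G)⁻¹) * ((p' : G) * d * (p' : G)⁻¹) := by group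
          _ = r * d * d := by rw [hd, hd3 _ p'.2, mul_inv_cancel_right]
          _ = r := by rw [mul_assoc, hd2, mul_one]
      have h12 : ((p' : G) * p') * r * ((p' : G) * p')⁻¹ = r := by
        calc ((p' : G) * p') * r * ((p' : G) * p')⁻¹ = (p' : G) * ((p' : G) * r * (p' : G)⁻¹) * (p' : G)⁻¹ := by group
          _ = r := h11
      exact mul_inv_eq_iff_eq_mul.1 h12
    have c2 : Commute (p' : G) r₁ := mem_cs.1 p'.2.2.1
    have c3 : Commute (p' : G) k := mem_cs.1 p'.2.2.2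
    have c2' := c2.mul_left c2
    have c3' := c3.mul_left c3
    have hall : ∀ v ∈ V, Commute ((p' : G) * p') v := by
      intro v hv
      rcases I.cases' hr h1 h2 hv with rfl | rfl | rfl | rfl
      exacts [Commute.one_right _, c2', c1, c1.mul_right c2']
    intro f hf
    have h11 : Commute ((p' : G) * p') f := by
      rcases (hF f).1 hf with h | h
      · exact hall f h
      · have h12 := (hall _ h).mul_right c3'
        rwa [mul_assoc, hk2, mul_one] at h12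
    calc (p' : G) * ((p' : G) * f * (p' : G)⁻¹) * (p' : G)⁻¹ = ((p' : G) * p') * f * ((p' : G) * p')⁻¹ := by group
      _ = f := by rw [h11.eq, mul_inv_cancel_right]
  have hw2 : w * (w * r * w⁻¹) * w⁻¹ = r := by
    have h11 := hp2 _ (conj_mem_of_normalizer' y.2 (hVF r hr))
    change w = (y : G) * (p' : G) * (y : G)⁻¹ at hpw'
    rw [hpw']
    calc (y : G) * p' * (y : G)⁻¹ * ((y : G) * p' * (y : G)⁻¹ * r * ((y : G) * p' * (y : G)⁻¹)⁻¹) * ((y : G) * p' * (y : G)⁻¹)⁻¹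
        = y * (p' * (p' * ((y : G)⁻¹ * r * y) * (p' : G)⁻¹) * (p' : G)⁻¹) * (y : G)⁻¹ := by group
      _ = r := by rw [h11]; group
  -- but `w² : r ↦ r r₁`
  have hwr : w * r * w⁻¹ = r * k ∨ w * r * w⁻¹ = r * k * r₁ := by
    have hn1 : w * r * w⁻¹ ≠ 1 := fun h => h1 (by rwa [mul_inv_eq_one, mul_eq_left] at h)
    have hn2 : w * r * w⁻¹ ≠ r₁ := fun h => h2 (by rw [← I.w_r] at h; exact mul_left_cancel (mul_right_cancel h))
    rcases I.cases'' hrk hrk1 hrk2 (cj_mem hr) with h | h | h | h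
    · exact absurd h hn1
    · exact absurd h hn2
    · exact Or.inl h
    · exact Or.inr h
  have cr : k * r₁ = r₁ * k := hkv r₁ I.r₁V
  have h11 : w * (w * r * w⁻¹) * w⁻¹ = r * r₁ := by
    rcases hwr with h | h
    · rw [h]
      calc w * (r * k) * w⁻¹ = (w * r * w⁻¹) * (w * k * w⁻¹) := by group
        _ = r * (k * k) * r₁ := by rw [h, hw]; group
        _ = r * r₁ := by rw [hk2, mul_one]
    · rw [h]
      calc w * (r * k * r₁) * w⁻¹ = (w * r * w⁻¹) * (w * k * w⁻¹) * (w * r₁ * w⁻¹) := by group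
        _ = r * (k * r₁) * k * (r₁ * r₁) := by rw [h, hw, I.w_r]; group
        _ = r * r₁ * (k * k) * (r₁ * r₁) := by rw [cr]; group
        _ = r * r₁ := by rw [hk2, I.sq r₁ I.r₁V, mul_one, mul_one]
  rw [hw2] at h11
  exact I.r₁_ne (left_eq_mul.1 h11)

/-- **CASE 2a, `q = 2`, is impossible** (#17699) -/
theorem false : False := by
  obtain ⟨r, hr, h1, h2, k, hkM, hk1, hK, hrk, hw | hw⟩ := I.exists_k
  · exact I.not_a hr h1 hkM hk1 hK hrk hw
  · exact I.not_b hr h1 h2 hkM hk1 hK hrk hw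

end In

end Cfsg.Agent.Omega.IId.Cv.TwoA

end

section


/-!
# Natural `SL₂(F)`-modules: elements of `UW w` (helper330)

* `mem_UW_of_two` : a 2-element of `N` which centralises the line `F w` is in `UW w`;
* `AtR.exists_ind` : the group generated by the `LL V' R (pt i)` induces `SL₂(F)`;
* `AtR.exists_fq` : for `e, e' ∈ LL V' R R` which move `V` there is `b` in this group, `b ∈ N_G(R)`, with
  `[e', v^b] = [e, v]` and `[e, v]^b = [e', v]` for all `v ∈ V`.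
-/

set_option autoImplicit false
set_option linter.unusedSectionVars false

namespace Cfsg.Agent.Omega.IId.MQ

open Subgroup Cfsg.Agent.Lib.SL2Mat Cfsg.Agent.Omega.BTwo Cfsg.Agent.Omega.Mix Cfsg.Agent.Omega.MixOne
open Cfsg.Agent.Omega.NatPair (dt dt_add dt_smul exists_smul_of_dt exists_comb ap ap_smul ap_add ap_zero' ap_one'
  ap_mul ap_inv_ap ap_ap_inv ap_one ap_inj exists_ap exists_ap_e ap_up_e ext2 exists_of_fix eq_one_of_pow)

variable {G : Type*} [Group G] {F : Type*} [Field F] {V N : Subgroup G} (M : RMod F V N)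

/-- a 2-element of `N` which centralises the line `F w` is in `UW w` -/
theorem mem_UW_of_two [Finite F] [CharP F 2] {w : Fin 2 → F} (hw : w ≠ 0) {x : G} (hxV : x ∈ N) {k : ℕ}
    (hk' : x ^ 2 ^ k = 1) (hc : ∀ r ∈ M.line w, x * r = r * x) : x ∈ M.UW w := by
  have hfix : ∀ c : F, M.act x (c • w) = c • w := fun c => (M.commute_e hxV).1 (hc _ ⟨c, rfl⟩)
  have hα : M.act x w = w := by
    have := hfix 1
    rwa [one_smul] at this
  obtain ⟨s, hs⟩ := M.exists_semi hxV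
  have hs1 : ∀ c, s c = c := by
    intro c
    have h1 := hs c w
    rw [hfix, hα] at h1
    exact (smul_left_injective F hw h1).symm
  have hlin : ∀ (d : F) y, M.act x (d • y) = d • M.act x y := fun d y => by rw [hs, hs1]
  -- the determinant
  obtain ⟨D, hD⟩ := exists_ap_e hw
  set y := ap D ![0, 1] with hy
  have hwy : dt w y = 1 := by
    have h1 := det_eq D
    rw [← hD, hy]
    unfold dt
    rw [ap_zero', ap_zero', ap_one', ap_one']
    simp only [Matrix.cons_val_zero, Matrix.cons_val_one, mul_one, mul_zero, add_zero, zero_add]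
    rw [← h1]; ring
  have hww : dt w w = 0 := by unfold dt; ring
  set δ := dt w (M.act x y) with hδ
  have hdt : ∀ z, dt w (M.act x z) = δ * dt w z := by
    intro z
    obtain ⟨a, b, rfl⟩ := exists_comb (by rw [hwy]; exact one_ne_zero : dt w y ≠ 0) z
    rw [M.act_add hxV, hlin, hlin, hα]
    simp only [dt_add, dt_smul, hww, hwy, ← hδ]
    ring
  have hdt' : ∀ (n : ℕ) z, dt w (M.act (x ^ n) z) = δ ^ n * dt w z := by
    intro n
    induction n with
    | zero => intro z; rw [pow_zero, pow_zero, M.act_one, one_mul]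
    | succ n ih =>
      intro z
      rw [pow_succ', M.act_mul hxV (pow_mem hxV n), hdt, ih, pow_succ']; ring
  have hδ1 : δ = 1 := by
    have h1 := hdt' (2 ^ k) y
    rw [hk', M.act_one, hwy, mul_one] at h1
    exact eq_one_of_pow h1.symm
  obtain ⟨B, hB⟩ := exists_of_fix hw (M.act x) (M.act_add hxV) hlin hα (fun z => by
    refine exists_smul_of_dt hw ?_
    have h1 := hdt z
    rw [hδ1, one_mul] at h1
    unfold dt at h1 ⊢
    rw [Pi.sub_apply, Pi.sub_apply]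
    linear_combination h1)
  exact ⟨B, by rw [← hB, hα], M.ind_of_act hxV hB⟩

/-- an element of `SL₂(F)` fixing `e₁` -/
theorem eq_up {A : Matrix.SpecialLinearGroup (Fin 2) F} (h : ap A ![1, 0] = ![1, 0]) : A = up (ent A 0 1) := by
  have h0 : ent A 0 0 = 1 := by
    have := congrFun h 0
    rw [ap_zero'] at this
    simpa using this
  have h1 : ent A 1 0 = 0 := by
    have := congrFun h 1
    rw [ap_one'] at this
    simpa using this
  have h2 : ent A 1 1 = 1 := by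
    have := det_eq A
    rw [h0, h1] at this
    simpa using this
  apply ap_inj
  intro x
  apply ext2
  · rw [ap_zero', ap_zero', h0, up_00, up_01]
  · rw [ap_one', ap_one', h1, h2, up_10, up_11]

/-- an element of `SL₂(F)` fixing `w = D e₁` -/
theorem exists_up {w : Fin 2 → F} {D B : Matrix.SpecialLinearGroup (Fin 2) F} (hD : ap D ![1, 0] = w)
    (hB : ap B w = w) : ∃ t : F, B = D * up t * D⁻¹ := by
  have h1 : ap (D⁻¹ * B * D) ![1, 0] = ![1, 0] := by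
    rw [ap_mul, ap_mul, hD, hB, ← hD, ap_inv_ap]
  refine ⟨ent (D⁻¹ * B * D) 0 1, ?_⟩
  rw [← eq_up h1]
  group

theorem comm_up {g : G} {D : Matrix.SpecialLinearGroup (Fin 2) F} {t : F} (hg : M.Ind g (D * up t * D⁻¹))
    (z : Fin 2 → F) : g * M.e (ap D z) * g⁻¹ * (M.e (ap D z))⁻¹ = M.e (ap D ((t * z 1) • ![1, 0])) := by
  rw [hg, ← M.e_sub, ap_mul, ap_mul, ap_inv_ap, ap_up, ap_add, add_sub_cancel_left]

section atR

variable {M} {V' R : Subgroup G} {w : Fin 2 → F} (a : AtR M V' R w)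
include a

/-- the group generated by the `LL V' R (pt i)` induces `SL₂(F)` -/
theorem exists_ind (A : Matrix.SpecialLinearGroup (Fin 2) F) : ∃ x ∈ ⨆ i, LL V' R (pt M i), M.Ind x A := by
  let X : Subgroup G := ⨆ i, LL V' R (pt M i)
  have hX : ∀ {u : Fin 2 → F} (hu : u ≠ 0), LL V' R (M.line u) ≤ X := fun {u} hu =>
    le_iSup (fun i => LL V' R (pt M i)) ⟨M.line u, u, hu, rfl⟩
  let L : Subgroup (Matrix.SpecialLinearGroup (Fin 2) F) :=
    { carrier := {A | ∃ x ∈ X, M.Ind x A}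
      one_mem' := ⟨1, one_mem _, fun x => by rw [ap_one]; group⟩
      mul_mem' := by
        rintro A B ⟨x, hx, hxA⟩ ⟨y, hy, hyB⟩
        refine ⟨x * y, mul_mem hx hy, fun z => ?_⟩
        have e : x * y * M.e z * (x * y)⁻¹ = x * (y * M.e z * y⁻¹) * x⁻¹ := by group
        rw [e, hyB, hxA, ap_mul]
      inv_mem' := by
        rintro A ⟨x, hx, hxA⟩
        refine ⟨x⁻¹, inv_mem hx, fun z => ?_⟩
        have h1 := hxA (ap A⁻¹ z)
        rw [ap_ap_inv] at h1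
        rw [← h1]; group }
  have hL : ∀ {u : Fin 2 → F}, u ≠ 0 → ∀ {B}, ap B u = u → B ∈ L := by
    intro u hu B hB
    obtain ⟨b, hb, hb'⟩ := a.full_at hu hB
    exact ⟨b, hX hu hb, hb'⟩
  have h01 : (![0, 1] : Fin 2 → F) ≠ 0 := fun h => by simpa using congrFun h 1
  have h10 : (![1, 0] : Fin 2 → F) ≠ 0 := fun h => by simpa using congrFun h 0
  have hup : ∀ b, up b ∈ L := fun b => hL h10 (ap_up_e b)
  have hlo : ∀ b, lo b ∈ L := fun b => hL h01 (by
    apply ext2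
    · rw [ap_zero']; simp
    · rw [ap_one']; simp)
  obtain ⟨p, q, r, s, rfl⟩ := exists_up_lo A
  exact mul_mem (mul_mem (mul_mem (hup _) (hlo _)) (hup _)) (hlo _)

/-- an element of `LL V' R R` which moves `V` acts as `D (up t) D⁻¹`, `t ≠ 0` -/
theorem exists_t {D : Matrix.SpecialLinearGroup (Fin 2) F} (hD : ap D ![1, 0] = w) {e : G} (he : e ∈ LL V' R R)
    (hne : ∃ v ∈ V, e * v ≠ v * e) : ∃ t : F, t ≠ 0 ∧ M.Ind e (D * up t * D⁻¹) := by
  obtain ⟨B, hB, hB'⟩ := a.UW he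
  obtain ⟨t, rfl⟩ := exists_up hD hB
  refine ⟨t, ?_, hB'⟩
  rintro rfl
  obtain ⟨v, hv, hev⟩ := hne
  obtain ⟨x, rfl⟩ := (M.mem_iff v).1 hv
  apply hev
  have h1 := hB' x
  rw [up_zero, mul_one, mul_inv_cancel, ap_one] at h1
  exact mul_inv_eq_iff_eq_mul.1 h1

/-- **the torus element of a pair of root elements** -/
theorem exists_fq {e e' : G} (he : e ∈ LL V' R R) (he' : e' ∈ LL V' R R) (hne : ∃ v ∈ V, e * v ≠ v * e)
    (hne' : ∃ v ∈ V, e' * v ≠ v * e') :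
    ∃ b ∈ ⨆ i, LL V' R (pt M i), b ∈ normalizer (R : Set G) ∧
      (∀ v ∈ V, e' * (b * v * b⁻¹) * e'⁻¹ * (b * v * b⁻¹)⁻¹ = e * v * e⁻¹ * v⁻¹ ∧
        b * (e * v * e⁻¹ * v⁻¹) * b⁻¹ = e' * v * e'⁻¹ * v⁻¹) ∧
      ((∃ v ∈ V, e⁻¹ * e' * v ≠ v * (e⁻¹ * e')) → ∀ v ∈ V, b * v = v * b → v = 1) := by
  obtain ⟨D, hD⟩ := exists_ap_e a.ne
  obtain ⟨t, ht, hte⟩ := exists_t a hD he hne
  obtain ⟨t', ht', hte'⟩ := exists_t a hD he' hne'
  set c := t' / t with hc
  have hc0 : c ≠ 0 := div_ne_zero ht' ht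
  obtain ⟨b, hb, hbA⟩ := exists_ind a (D * dg c hc0 * D⁻¹)
  have hbD : ∀ z, b * M.e (ap D z) * b⁻¹ = M.e (ap D (ap (dg c hc0) z)) := by
    intro z
    rw [hbA, ap_mul, ap_mul, ap_inv_ap]
  have hdg0 : ∀ z : Fin 2 → F, ap (dg c hc0) z 0 = c * z 0 := by
    intro z
    rw [ap_zero']; simp
  have hdg1 : ∀ z : Fin 2 → F, ap (dg c hc0) z 1 = c⁻¹ * z 1 := by
    intro z
    rw [ap_one']; simp
  have hs10 : ∀ x : F, ap (dg c hc0) (x • ![1, 0]) = (c * x) • ![1, 0] := by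
    intro x
    apply ext2
    · rw [hdg0]; simp
    · rw [hdg1]; simp
  refine ⟨b, hb, ?_, ?_, ?_⟩
  · have e : cj b (M.line w) = M.line (ap (D * dg c hc0 * D⁻¹) w) := M.cj_line_of_ind hbA w
    have hw : ap (D * dg c hc0 * D⁻¹) w = c • w := by
      rw [← hD, ap_mul, ap_mul, ap_inv_ap, ← ap_smul]
      congr 1
      apply ext2
      · rw [hdg0]; simp
      · rw [hdg1]; simp
    rw [← cj_eq_self_iff, a.line, e, hw, M.line_smul hc0]
  · intro v hv
    obtain ⟨x, rfl⟩ := (M.mem_iff v).1 hv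
    obtain ⟨z, rfl⟩ : ∃ z, ap D z = x := ⟨ap D⁻¹ x, ap_ap_inv D x⟩
    rw [hbD, comm_up M hte', comm_up M hte, comm_up M hte', hbD, hdg1, hs10]
    constructor
    · congr 3
      rw [hc, inv_div]
      field_simp
    · congr 3
      rw [hc]
      field_simp
  · rintro ⟨v, hv, hvne⟩ u hu hbu
    have hcne : c ≠ 1 := by
      intro h1
      apply hvne
      have htt : t' = t := by
        rw [hc, div_eq_one_iff_eq ht] at h1
        exact h1
      obtain ⟨x, rfl⟩ := (M.mem_iff v).1 hv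
      have h2 := hte x
      have h3 := hte' x
      rw [htt, ← h2] at h3
      calc e⁻¹ * e' * M.e x = e⁻¹ * (e' * M.e x * e'⁻¹) * e' := by group
        _ = e⁻¹ * (e * M.e x * e⁻¹) * e' := by rw [h3]
        _ = M.e x * (e⁻¹ * e') := by group
    obtain ⟨x, rfl⟩ := (M.mem_iff u).1 hu
    obtain ⟨z, rfl⟩ : ∃ z, ap D z = x := ⟨ap D⁻¹ x, ap_ap_inv D x⟩
    have h1 := hbD z
    rw [hbu, mul_inv_cancel_right] at h1
    have h2 : z = ap (dg c hc0) z := by
      have h3 := congrArg (ap D⁻¹) (M.e_inj h1)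
      rwa [ap_inv_ap, ap_inv_ap] at h3
    have h4 : z 0 = 0 := by
      have h5 := congrFun h2 0
      rw [hdg0] at h5
      have h6 : (c - 1) * z 0 = 0 := by linear_combination -h5
      exact (mul_eq_zero.1 h6).resolve_left (sub_ne_zero.2 hcne)
    have h7 : z 1 = 0 := by
      have h5 := congrFun h2 1
      rw [hdg1] at h5
      have h6 : (c - 1) * z 1 = 0 := by
        have h8 : c * z 1 = z 1 := by
          rw [h5, ← mul_assoc, mul_inv_cancel₀ hc0, one_mul, ← h5]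
        linear_combination h8
      exact (mul_eq_zero.1 h6).resolve_left (sub_ne_zero.2 hcne)
    have h8 : z = 0 := ext2 h4 h7
    rw [h8]
    have h9 : ap D (0 : Fin 2 → F) = 0 := by
      apply ext2
      · rw [ap_zero']; simp
      · rw [ap_one']; simp
    rw [h9, M.e_zero]

/-- a root element fixes only the vectors of its axis -/
theorem line_of_comm {e : G} (he : e ∈ LL V' R R) (hne : ∃ v ∈ V, e * v ≠ v * e) {v : G} (hv : v ∈ V)
    (hc : e * v = v * e) : v ∈ R := by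
  obtain ⟨D, hD⟩ := exists_ap_e a.ne
  obtain ⟨t, ht, hte⟩ := exists_t a hD he hne
  obtain ⟨x, rfl⟩ := (M.mem_iff v).1 hv
  obtain ⟨z, rfl⟩ : ∃ z, ap D z = x := ⟨ap D⁻¹ x, ap_ap_inv D x⟩
  have h1 := comm_up M hte z
  have e1 : e * M.e (ap D z) * e⁻¹ * (M.e (ap D z))⁻¹ = 1 := by
    rw [hc]; group
  rw [e1, eq_comm, M.e_eq_one, ap_smul, hD] at h1
  have h2 : z 1 = 0 := (mul_eq_zero.1 ((smul_eq_zero.1 h1).resolve_right a.ne)).resolve_left ht
  rw [a.line, M.e_mem_line]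
  refine ⟨z 0, ?_⟩
  rw [← hD, ← ap_smul]
  congr 1
  apply ext2
  · simp
  · rw [h2]; simp

/-- the commutators with a root element -/
theorem exists_comm_R {e : G} (he : e ∈ LL V' R R) (hne : ∃ v ∈ V, e * v ≠ v * e) {r : G} (hr : r ∈ R) :
    ∃ v ∈ V, e * v * e⁻¹ * v⁻¹ = r := by
  obtain ⟨D, hD⟩ := exists_ap_e a.ne
  obtain ⟨t, ht, hte⟩ := exists_t a hD he hne
  rw [a.line] at hr
  obtain ⟨c, rfl⟩ := hr
  refine ⟨M.e (ap D ![0, c / t]), M.e_mem _, ?_⟩
  rw [comm_up M hte]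
  simp only [Matrix.cons_val_one, Matrix.cons_val_zero]
  rw [mul_div_cancel₀ _ ht, ap_smul, hD]

/-- two root elements with a nontrivial quotient, `q ≥ 4` -/
theorem exists_ee {c : F} (hc0 : c ≠ 0) (hc1 : c ≠ 1) : ∃ e ∈ LL V' R R, ∃ e' ∈ LL V' R R,
    (∃ v ∈ V, e * v ≠ v * e) ∧ (∃ v ∈ V, e' * v ≠ v * e') ∧ ∃ v ∈ V, e⁻¹ * e' * v ≠ v * (e⁻¹ * e') := by
  obtain ⟨D, hD⟩ := exists_ap_e a.ne
  have key : ∀ t : F, ∃ e ∈ LL V' R R, M.Ind e (D * up t * D⁻¹) := fun t =>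
    a.full _ (by rw [← hD, ap_mul, ap_mul, ap_inv_ap, ap_up_e])
  have move : ∀ {t : F} {e : G}, t ≠ 0 → M.Ind e (D * up t * D⁻¹) → ∃ v ∈ V, e * v ≠ v * e := by
    intro t e ht he
    refine ⟨M.e (ap D ![0, 1]), M.e_mem _, fun h => ?_⟩
    have h1 := comm_up M he ![0, 1]
    have e1 : e * M.e (ap D ![0, 1]) * e⁻¹ * (M.e (ap D ![0, 1]))⁻¹ = 1 := by
      rw [h]; group
    rw [e1, eq_comm, M.e_eq_one, ap_smul, hD] at h1
    have h2 := (smul_eq_zero.1 h1).resolve_right a.ne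
    apply ht
    simpa using h2
  obtain ⟨e, he, he1⟩ := key 1
  obtain ⟨e', he', he1'⟩ := key c
  refine ⟨e, he, e', he', move one_ne_zero he1, move hc0 he1', move (t := -1 + c) ?_ ?_⟩
  · intro h
    apply hc1
    linear_combination h
  · have h2 : up (-1 : F) = (up 1)⁻¹ := by
      rw [eq_inv_iff_mul_eq_one, up_mul, neg_add_cancel, up_zero]
    intro x
    have h3 : e⁻¹ * M.e (ap (D * up c * D⁻¹) x) * e = M.e (ap (D * up 1 * D⁻¹)⁻¹ (ap (D * up c * D⁻¹) x)) := by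
      have := he1 (ap (D * up 1 * D⁻¹)⁻¹ (ap (D * up c * D⁻¹) x))
      rw [ap_ap_inv] at this
      rw [← this]; group
    calc e⁻¹ * e' * M.e x * (e⁻¹ * e')⁻¹ = e⁻¹ * (e' * M.e x * e'⁻¹) * e := by group
      _ = M.e (ap (D * up 1 * D⁻¹)⁻¹ (ap (D * up c * D⁻¹) x)) := by rw [he1', h3]
      _ = M.e (ap (D * up (-1 + c) * D⁻¹) x) := by
        rw [← ap_mul, ← up_mul, h2]
        congr 2
        group

end atR

end Cfsg.Agent.Omega.IId.MQ

end

section


/-!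
# THEOREM F1-h1 (OMEGA #14479): the input structures

`Y = N_G(G₀)`, `G₀ = Sp_{2n}(q)` (`n ≥ 3`) or `F₄(q)`, `q` even, `S ≤ Y` a Sylow 2-subgroup of `G`, `S₀ = S ∩ G₀`,
`Z = Ω₁(Z(S))`, `N_G(X_s) ≤ Y`.  All groups are subgroups of `G`.

* `X_s` short root group (`e₁+e₂`, resp. `1232`), `X_l` long root group (`2e₁`, resp. `2342`), `Z(S₀) = X_s X_l`;
* `C_s = C_{G₀}(X_s)`, `Q_s = O₂(C_s)`, `U_s = Z(Q_s)`, the same with `l`;
* `Side S Y C X Q U` : one side (`s`; for `F₄(q)` also `l`);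
* `Offer S₀ QQ U J X U'` : the action of `QQ = Q_s Q_l` on the orthogonal space `U` with singular point `X`,
  `J = X^⊥` (`U = U_l`, `X = X_s`, `U' = U_s`; for `F₄(q)` also with `s`, `l` exchanged);
* `SpDat`, `FFourDat` : all fields for `Sp_{2n}(q)`, `F₄(q)`.

Conclusion (files `HOneSp`, `HOneFFour`): `N_G(Z) ≤ Y` and every `P ∈ P(S)` lies in `Y`.
-/

set_option autoImplicit false

namespace Cfsg.Agent.Omega.All.HOne

open Subgroup Cfsg Cfsg.Agent.ZN Cfsg.Agent.Omega.MinPar Cfsg.Agent.Omega.Frame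
open Cfsg.Agent.Omega.FrameLE (AllIn)
open Cfsg.Agent.Omega.FrameNOFF (CZ)

universe u

variable {G : Type u} [Group G]

/-- One side: `X` a root group (`X_s` or `X_l`), `C = C_{G₀}(X)`, `Q = O₂(C)`, `U = Z(Q)`. -/
structure Side (S Y C X Q U : Subgroup G) : Prop where
  X_el : IsElementaryAbelian 2 X
  X_ne : X ≠ ⊥
  X_S : X ≤ S
  S_X : S ≤ normalizer (X : Set G)
  X_U : X ≤ U
  U_eq : U = Q ⊓ centralizer (Q : Set G)
  U_el : IsElementaryAbelian 2 U
  Q_S : Q ≤ S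
  Q_C : Q ≤ C
  C_X : C ≤ centralizer (X : Set G)
  S_C : S ≤ normalizer (C : Set G)
  /-- `Q` contains every normal 2-subgroup of `C` -/
  Q_max : ∀ T : Subgroup G, IsPGroup 2 T → T ≤ C → C ≤ normalizer (T : Set G) → T ≤ Q
  /-- `C_S(C/Q) = Q` (no field automorphisms, `Z(C/Q) = 1`) -/
  fld : ∀ t ∈ S, (∀ c ∈ C, t * c * t⁻¹ * c⁻¹ ∈ Q) → t ∈ Q
  /-- from the irreducibility of `Q/U` for `C` -/
  irr : ∀ T : Subgroup G, T ≤ Q → C ≤ normalizer (T : Set G) → Q ⊓ centralizer (T : Set G) ≤ T → T = Q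
  comm : ⁅Q, Q⁆ = X
  /-- the torus is transitive on `X#` -/
  trans : ∀ x ∈ X, ∀ x' ∈ X, x ≠ 1 → x' ≠ 1 →
    ∃ y ∈ Y, y ∈ normalizer (X : Set G) ∧ y ∈ normalizer (Q : Set G) ∧ y * x * y⁻¹ = x'
  /-- every element of `U` is conjugate in `Y` to an element of `Ω₁(Z(S))` -/
  typ : ∀ u ∈ U, ∃ y ∈ Y, y * u * y⁻¹ ∈ zc S

/-- `QQ = Q_s Q_l` acts on the orthogonal space `U` (radical of order `q`) as the group of Siegel elements of the
singular point `X`; `J = X^⊥`. -/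
structure Offer (S₀ QQ U J X U' : Subgroup G) : Prop where
  U_el : IsElementaryAbelian 2 U
  U_S₀ : U ≤ S₀
  QQ_S₀ : QQ ≤ S₀
  QQ_U : QQ ≤ normalizer (U : Set G)
  J_U : J ≤ U
  /-- `[X^⊥, Q_s Q_l] ≤ X` -/
  comm : ∀ j ∈ J, ∀ v ∈ QQ, j * v * j⁻¹ * v⁻¹ ∈ X
  /-- a vector outside `X^⊥` is moved by every Siegel element `≠ 1` -/
  fix : ∀ v ∈ QQ, v ∉ centralizer (U : Set G) → ∀ u ∈ U, u * v = v * u → u ∈ J
  /-- `|U : X^⊥| = q = |X|` -/
  card : Nat.card X * Nat.card J ≤ Nat.card U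
  /-- `|B| ≤ |U : C_U(B)|` for a group `B` of Siegel elements -/
  off : ∀ V : Subgroup G, V ≤ QQ →
    Nat.card V * Nat.card ↥(U ⊓ centralizer (V : Set G)) ≤ Nat.card U * Nat.card ↥(V ⊓ centralizer (U : Set G))
  /-- `S₀` centralises the group induced on `U` by `C_{QQ}(X^⊥)` (a long root group of order `q`) -/
  triv : ∀ s ∈ S₀, ∀ v ∈ QQ ⊓ centralizer (J : Set G), s * v * s⁻¹ * v⁻¹ ∈ centralizer (U : Set G)
  /-- `Sp_{2n}(q)`: `V ≤ U_s`; `F₄(q)`: impossible -/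
  fin : ∀ V : Subgroup G, V ≤ QQ ⊓ centralizer (J : Set G) → IsElementaryAbelian 2 V →
    ¬ V ≤ centralizer (U : Set G) → (∀ s ∈ S₀, ∃ u ∈ U, u⁻¹ * s ∈ centralizer (V : Set G)) → V ≤ U'

/-- The data for `G₀ = Sp_{2n}(q)`, `n ≥ 3`, `q ≥ 2` even.  Here `Q_l = U_l` (order `q^{2n-1}`), `|U_s| = q³`. -/
structure SpDat (S S₀ Y C Xs Qs Us Ul : Subgroup G) : Prop where
  side : Side S Y C Xs Qs Us
  S_Y : S ≤ Y
  S₀_S : S₀ ≤ S
  N_Y : normalizer (Xs : Set G) ≤ Y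
  S_Ul : S ≤ normalizer (Ul : Set G)
  Xs_Ul : Xs ≤ Ul
  /-- `O₂(C_G(Z)) = Q_s Q_l` -/
  oZ : CZ S ≤ Y → o2 (CZ S) = Qs ⊔ Ul
  /-- `X_s` is the third term of the lower central series of `Q_s Q_l` -/
  lcs : ⁅⁅Qs ⊔ Ul, Qs ⊔ Ul⁆, Qs ⊔ Ul⁆ = Xs
  cen : (Qs ⊔ Ul) ⊓ centralizer (Ul : Set G) ≤ Ul
  typ_l : ∀ u ∈ Ul, ∃ y ∈ Y, y * u * y⁻¹ ∈ zc S
  offer : Offer S₀ (Qs ⊔ Ul) Ul (Ul ⊓ Qs) Xs Us

/-- The data for `G₀ = F₄(q)`, `q ≥ 2` even.  `J_s = U_l ∩ Q_s`, `J_l = U_s ∩ Q_l`, `J₀ = Q_s ∩ Q_l = J_s J_l`. -/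
structure FFourDat (S S₀ Y Cs Cl Xs Xl Qs Ql Us Ul : Subgroup G) : Prop where
  side_s : Side S Y Cs Xs Qs Us
  side_l : Side S Y Cl Xl Ql Ul
  S_Y : S ≤ Y
  S₀_S : S₀ ≤ S
  N_Y : normalizer (Xs : Set G) ≤ Y
  Xs_Ul : Xs ≤ Ul
  Xl_Us : Xl ≤ Us
  Xs_Xl : Xs ⊓ Xl = ⊥
  /-- `O₂(C_G(Z)) = Q_s Q_l` -/
  oZ : CZ S ≤ Y → o2 (CZ S) = Qs ⊔ Ql
  comm0 : ⁅Qs ⊔ Ql, Qs ⊔ Ql⁆ = Qs ⊓ Ql
  cen0 : (Qs ⊔ Ql) ⊓ centralizer ((Qs ⊔ Ql : Subgroup G) : Set G) = Xs ⊔ Xl
  commJs : ⁅Ul ⊓ Qs, Qs ⊔ Ql⁆ = Xs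
  commJl : ⁅Us ⊓ Ql, Qs ⊔ Ql⁆ = Xl
  lt_s : Xs ⊔ Xl < Ul ⊓ Qs
  lt_s' : Ul ⊓ Qs < Qs ⊓ Ql
  lt_l : Xs ⊔ Xl < Us ⊓ Ql
  lt_l' : Us ⊓ Ql < Qs ⊓ Ql
  /-- the two 4-dimensional modules of `Sp₄(q)` -/
  two : ∀ T : Subgroup G, Xs ⊔ Xl < T → T < Qs ⊓ Ql → CZ S ≤ normalizer (T : Set G) →
    T = Ul ⊓ Qs ∨ T = Us ⊓ Ql
  cen_l : (Qs ⊔ Ql) ⊓ centralizer (Ul : Set G) ≤ Ql
  cen_s : (Qs ⊔ Ql) ⊓ centralizer (Us : Set G) ≤ Qs
  offer_l : Offer S₀ (Qs ⊔ Ql) Ul (Ul ⊓ Qs) Xs Us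
  offer_s : Offer S₀ (Qs ⊔ Ql) Us (Us ⊓ Ql) Xl Ul
  /-- `[v, Q_s] = X_s` and `[v, Q_l] = X_l` for `v ∈ J₀` outside `U_s ∪ U_l` -/
  mix_s : ∀ v ∈ Qs ⊓ Ql, v ∉ Us → v ∉ Ul → ∀ x ∈ Xs, ∃ y ∈ Y, y * v * y⁻¹ = v * x
  mix_l : ∀ v ∈ Qs ⊓ Ql, v ∉ Us → v ∉ Ul → ∀ x ∈ Xl, ∃ y ∈ Y, y * v * y⁻¹ = v * x

end Cfsg.Agent.Omega.All.HOne

end

section


/-!
# THEOREM F1-h1 (OMEGA #14479): (A), (B), (PR), (C) (helper866)

`G` of characteristic 2 type, `S` a Sylow 2-subgroup.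

* `Side.o2_eq`, `Side.cen_le` : `O₂(C_G(x)) = Q`, `C_G(x) ≤ N_G(Q)` for `1 ≠ x ∈ X`; `Side.norm_Q_le`;
  `Side.C_Q`, `Side.S_Q`, `Side.S_U`;
* `Base S Y X U U'` : the common output: `C_G(x) ≤ Y` (`x ∈ X#`), `N_G(S) ≤ Y`, and (PR): `x ∈ X#`, `g x g⁻¹ ∈ U ∪ U'`
  implies `g ∈ Y`;
* `SpDat.*`, `FFourDat.*` : `C_G(Z) ≤ Y`, `O₂(C_G(Z)) = Q_s Q_l`, `N_G(Z) ≤ N_G(X_s) ≤ Y`, (PR), and for `F₄(q)`:
  `N_G(Z) ≤ N_G(X_l)`, `C_G(x) ≤ Y` for `x ∈ X_l#`, (PR) for `X_l`, `X_s#` and `X_l#` are not fused in `G`.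
-/

set_option autoImplicit false

namespace Cfsg.Agent.Omega.All.HOne

open Subgroup Cfsg Cfsg.Agent.ZN Cfsg.Agent.Omega.MinPar Cfsg.Agent.Omega.Frame
open Cfsg.Agent.Omega.FrameNOFF (CZ)
open Cfsg.Agent.MinSimple.VModule (le_o2 mem_zc zc_le zc_comm o2_le o2_isPGroup le_normalizer_o2 le_centralizer_zc
  zc_le_centralizer zc_sq normalizer_le_normalizer_zc)
open Cfsg.Agent.MinSimple.Basic (char2_centralizer)
open scoped commutatorElement

universe u

variable {G : Type u} [Group G]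

/-! ### Normalisers -/

theorem conj_mem_of_normalizer {A : Subgroup G} {g x : G} (hg : g ∈ normalizer (A : Set G)) (hx : x ∈ A) :
    g * x * g⁻¹ ∈ A := (mem_normalizer_iff.1 hg x).1 hx

theorem conj_mem_of_normalizer' {A : Subgroup G} {g x : G} (hg : g ∈ normalizer (A : Set G)) (hx : x ∈ A) :
    g⁻¹ * x * g ∈ A := by
  have := (mem_normalizer_iff.1 (inv_mem hg) x).1 hx
  rwa [inv_inv] at this

/-- `N ≤ N_G(A)` from one-sided conjugation -/
theorem le_normalizer_of {N A : Subgroup G} (h : ∀ g ∈ N, ∀ x ∈ A, g * x * g⁻¹ ∈ A) : N ≤ normalizer (A : Set G) := by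
  intro g hg
  rw [mem_normalizer_iff]
  intro x
  refine ⟨fun hx => h g hg x hx, fun hx => ?_⟩
  have h1 := h g⁻¹ (inv_mem hg) _ hx
  have e : g⁻¹ * (g * x * g⁻¹) * g⁻¹⁻¹ = x := by group
  rwa [e] at h1

theorem normalizer_centralizer_le {N A : Subgroup G} (h : N ≤ normalizer (A : Set G)) :
    N ≤ normalizer ((centralizer (A : Set G) : Subgroup G) : Set G) := by
  refine le_normalizer_of fun g hg x hx => ?_
  rw [mem_centralizer_iff] at hx ⊢
  intro a ha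
  have h1 := hx _ (conj_mem_of_normalizer' (h hg) ha)
  calc a * (g * x * g⁻¹) = g * (g⁻¹ * a * g * x) * g⁻¹ := by group
    _ = g * (x * (g⁻¹ * a * g)) * g⁻¹ := by rw [h1]
    _ = g * x * g⁻¹ * a := by group

theorem normalizer_inf_le {N A B : Subgroup G} (h1 : N ≤ normalizer (A : Set G)) (h2 : N ≤ normalizer (B : Set G)) :
    N ≤ normalizer ((A ⊓ B : Subgroup G) : Set G) :=
  le_normalizer_of fun _ hg _ hx => ⟨conj_mem_of_normalizer (h1 hg) hx.1, conj_mem_of_normalizer (h2 hg) hx.2⟩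

theorem normalizer_sup_le {N A B : Subgroup G} (h1 : N ≤ normalizer (A : Set G)) (h2 : N ≤ normalizer (B : Set G)) :
    N ≤ normalizer ((A ⊔ B : Subgroup G) : Set G) := by
  refine le_normalizer_of fun g hg x hx => ?_
  have h3 : A ⊔ B ≤ (A ⊔ B).comap (MulAut.conj g).toMonoidHom := by
    rw [sup_le_iff]
    exact ⟨fun a ha => mem_comap.2 (mem_sup_left (conj_mem_of_normalizer (h1 hg) ha)),
      fun b hb => mem_comap.2 (mem_sup_right (conj_mem_of_normalizer (h2 hg) hb))⟩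
  exact h3 hx

theorem normalizer_commutator_le {N A B : Subgroup G} (h1 : N ≤ normalizer (A : Set G))
    (h2 : N ≤ normalizer (B : Set G)) : N ≤ normalizer ((⁅A, B⁆ : Subgroup G) : Set G) := by
  refine le_normalizer_of fun g hg x hx => ?_
  have h3 : ⁅A, B⁆ ≤ (⁅A, B⁆ : Subgroup G).comap (MulAut.conj g).toMonoidHom := by
    rw [commutator_le]
    intro a ha b hb
    rw [mem_comap]
    have e : (MulAut.conj g).toMonoidHom ⁅a, b⁆ = ⁅g * a * g⁻¹, g * b * g⁻¹⁆ := by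
      show g * ⁅a, b⁆ * g⁻¹ = _
      rw [commutatorElement_def, commutatorElement_def]; group
    rw [e]
    exact commutator_mem_commutator (conj_mem_of_normalizer (h1 hg) ha) (conj_mem_of_normalizer (h2 hg) hb)
  exact h3 hx

theorem normalizer_o2_le {N L : Subgroup G} (h : N ≤ normalizer (L : Set G)) : N ≤ normalizer (o2 L : Set G) := by
  refine le_normalizer_of fun g hg x hx => ?_
  have h1 : (o2 L).map (MulAut.conj g).toMonoidHom ≤ o2 L := by
    refine le_o2 ?_ ((o2_isPGroup L).map _) ?_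
    · rintro _ ⟨y, hy, rfl⟩
      exact conj_mem_of_normalizer (h hg) (o2_le L hy)
    · refine le_normalizer_of fun l hl y hy => ?_
      obtain ⟨w, hw, rfl⟩ := hy
      have h2 := conj_mem_of_normalizer (le_normalizer_o2 L (conj_mem_of_normalizer' (h hg) hl)) hw
      refine ⟨_, h2, ?_⟩
      show g * ((g⁻¹ * l * g) * w * (g⁻¹ * l * g)⁻¹) * g⁻¹ = l * (g * w * g⁻¹) * l⁻¹
      group
  exact h1 ⟨x, hx, rfl⟩

theorem normalizer_centralizer_singleton {x g : G} :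
    ∀ c ∈ centralizer ({x} : Set G), g * c * g⁻¹ ∈ centralizer ({g * x * g⁻¹} : Set G) := by
  intro c hc
  rw [mem_centralizer_singleton_iff] at hc ⊢
  calc g * c * g⁻¹ * (g * x * g⁻¹) = g * (c * x) * g⁻¹ := by group
    _ = g * (x * c) * g⁻¹ := by rw [hc]
    _ = _ := by group

theorem mem_normalizer_of_map_eq {T : Subgroup G} {g : G} (h : T.map (MulAut.conj g).toMonoidHom = T) :
    g ∈ normalizer (T : Set G) := by
  rw [mem_normalizer_iff]
  intro x
  constructor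
  · intro hx
    rw [← h]
    exact ⟨x, hx, rfl⟩
  · intro hx
    rw [← h] at hx
    obtain ⟨y, hy, h1⟩ := hx
    have h2 : g * y * g⁻¹ = g * x * g⁻¹ := h1
    have h3 : y = x := mul_left_cancel (mul_right_cancel h2)
    rwa [← h3]

theorem map_eq_of_mem_normalizer {T : Subgroup G} {g : G} (h : g ∈ normalizer (T : Set G)) :
    T.map (MulAut.conj g).toMonoidHom = T := by
  apply le_antisymm
  · rintro _ ⟨w, hw, rfl⟩
    exact conj_mem_of_normalizer h hw
  · intro w hw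
    refine ⟨g⁻¹ * w * g, conj_mem_of_normalizer' h hw, ?_⟩
    show g * (g⁻¹ * w * g) * g⁻¹ = w
    group

/-- an element of odd order modulo `N(T)` which permutes `{T, T'}` normalises `T` -/
theorem mem_normalizer_of_odd {T T' : Subgroup G} (hne : T ≠ T') {g : G}
    (h1 : T.map (MulAut.conj g).toMonoidHom = T ∨ T.map (MulAut.conj g).toMonoidHom = T')
    (h2 : T'.map (MulAut.conj g).toMonoidHom = T ∨ T'.map (MulAut.conj g).toMonoidHom = T') {m : ℕ} (hm : Odd m)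
    (hg : g ^ m ∈ normalizer (T : Set G)) : g ∈ normalizer (T : Set G) := by
  have hinj : Function.Injective (fun A : Subgroup G => A.map (MulAut.conj g).toMonoidHom) :=
    Subgroup.map_injective (MulAut.conj g).injective
  rcases h1 with h1 | h1
  · exact mem_normalizer_of_map_eq h1
  · have h3 : T'.map (MulAut.conj g).toMonoidHom = T := by
      rcases h2 with h2 | h2
      · exact h2
      · exact absurd (hinj (h1.trans h2.symm)) hne
    have h4 : g ^ 2 ∈ normalizer (T : Set G) := by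
      apply mem_normalizer_of_map_eq
      have e : T.map (MulAut.conj (g ^ 2)).toMonoidHom =
          (T.map (MulAut.conj g).toMonoidHom).map (MulAut.conj g).toMonoidHom := by
        rw [map_map]
        congr 1
        ext x
        show g ^ 2 * x * (g ^ 2)⁻¹ = g * (g * x * g⁻¹) * g⁻¹
        rw [pow_two]; group
      rw [e, h1, h3]
    obtain ⟨k, rfl⟩ := hm
    rw [pow_succ', pow_mul] at hg
    exact (Subgroup.mul_mem_cancel_right _ (pow_mem h4 k)).1 hg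

/-! ### Burnside -/

theorem zc_sq' {S : Subgroup G} {x : G} (hx : x ∈ zc S) : x ^ 2 = 1 := zc_sq S x hx

/-- **Burnside**: fusion in `Ω₁(Z(S))` is controlled by `N_G(S)`. -/
theorem burnside [Finite G] (S : Sylow 2 G) {x x' g : G} (hx : x ∈ zc (S : Subgroup G))
    (hx' : x' ∈ zc (S : Subgroup G)) (h : g * x * g⁻¹ = x') :
    ∃ n ∈ normalizer ((S : Subgroup G) : Set G), n * x * n⁻¹ = x' := by
  have hf : Fact (Nat.Prime 2) := ⟨Nat.prime_two⟩
  obtain ⟨n, hn, h1⟩ := S.conj_eq_normalizer_conj_of_mem_centralizer x g⁻¹ (zc_le_centralizer _ hx)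
    (by rw [inv_inv, h]; exact zc_le_centralizer _ hx')
  rw [inv_inv, h] at h1
  refine ⟨n⁻¹, inv_mem hn, ?_⟩
  rw [inv_inv, ← h1]

/-! ### One side -/

namespace Side

variable {Y C X Q U : Subgroup G}

section

variable {S : Subgroup G} (D : Side S Y C X Q U)
include D

theorem norm_Q_le : normalizer (Q : Set G) ≤ normalizer (X : Set G) := by
  rw [← D.comm]
  exact normalizer_commutator_le le_rfl le_rfl

theorem norm_Q_le_U : normalizer (Q : Set G) ≤ normalizer (U : Set G) := by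
  rw [D.U_eq]
  exact normalizer_inf_le le_rfl (normalizer_centralizer_le le_rfl)

theorem U_Q : U ≤ Q := by rw [D.U_eq]; exact inf_le_left

theorem X_Q : X ≤ Q := D.X_U.trans D.U_Q

end

variable {S : Sylow 2 G} (D : Side (S : Subgroup G) Y C X Q U)
include D

/-- an element `≠ 1` of `X ∩ Ω₁(Z(S))` -/
theorem exists_z [Finite G] : ∃ z ∈ zc (S : Subgroup G), z ∈ X ∧ z ≠ 1 := by
  have hf : Fact (Nat.Prime 2) := ⟨Nat.prime_two⟩
  refine exists_zc_mem S.isPGroup' D.X_S D.S_X (fun x hx => ?_) D.X_ne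
  have h1 := D.X_el.2 x hx
  rwa [pow_two] at h1

/-- **(A) for a 2-central element.** -/
theorem o2_eq_zc [Finite G] (hc : IsCharacteristicTwoType G) {z : G} (hz : z ∈ zc (S : Subgroup G)) (hX : z ∈ X)
    (h1 : z ≠ 1) : o2 (centralizer ({z} : Set G)) = Q := by
  have hf : Fact (Nat.Prime 2) := ⟨Nat.prime_two⟩
  have hS : (S : Subgroup G) ≤ centralizer ({z} : Set G) := fun s hs =>
    mem_centralizer_singleton_iff.2 ((mem_zc.1 hz).2.1 s hs)
  have hO : o2 (centralizer ({z} : Set G)) ≤ S := by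
    refine Cfsg.Agent.MinSimple.VModule.o2_le_of_sylow S.isPGroup' ?_
    exact Cfsg.Agent.MinSimple.Basic.not_dvd_relIndex S hS
  have hC : C ≤ centralizer ({z} : Set G) := D.C_X.trans (centralizer_le (by
    intro w hw
    rw [Set.mem_singleton_iff] at hw
    rw [hw]; exact hX))
  have hCO : C ≤ normalizer ((o2 (centralizer ({z} : Set G)) : Subgroup G) : Set G) :=
    hC.trans (le_normalizer_o2 _)
  have hOQ : o2 (centralizer ({z} : Set G)) ≤ Q := by
    intro t ht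
    refine D.fld t (hO ht) fun c hcC => ?_
    have hSC := D.S_C (hO ht)
    have h2 : t * c * t⁻¹ * c⁻¹ ∈ C := mul_mem (conj_mem_of_normalizer hSC hcC) (inv_mem hcC)
    have h3 : t * c * t⁻¹ * c⁻¹ ∈ o2 (centralizer ({z} : Set G)) := by
      have e : t * c * t⁻¹ * c⁻¹ = t * (c * t⁻¹ * c⁻¹) := by group
      rw [e]
      exact mul_mem ht (conj_mem_of_normalizer (hCO hcC) (inv_mem ht))
    refine D.Q_max (o2 (centralizer ({z} : Set G)) ⊓ C) ?_ inf_le_right ?_ ⟨h3, h2⟩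
    · exact (o2_isPGroup _).to_le inf_le_left
    · exact normalizer_inf_le hCO le_normalizer
  refine D.irr _ hOQ hCO ?_
  exact le_trans (inf_le_inf (D.Q_C.trans hC) le_rfl) (char2_centralizer hc (zc_sq' hz) h1)

/-- `C` normalises `Q`. -/
theorem C_Q [Finite G] (hc : IsCharacteristicTwoType G) : C ≤ normalizer (Q : Set G) := by
  obtain ⟨z, hz, hX, h1⟩ := D.exists_z
  have h2 := D.o2_eq_zc hc hz hX h1
  rw [← h2]
  refine le_trans (D.C_X.trans (centralizer_le ?_)) (le_normalizer_o2 _)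
  intro w hw
  rw [Set.mem_singleton_iff] at hw
  rw [hw]; exact hX

/-- `S` normalises `Q`. -/
theorem S_Q [Finite G] (hc : IsCharacteristicTwoType G) : (S : Subgroup G) ≤ normalizer (Q : Set G) := by
  obtain ⟨z, hz, hX, h1⟩ := D.exists_z
  have h2 := D.o2_eq_zc hc hz hX h1
  rw [← h2]
  refine le_trans (fun s hs => ?_) (le_normalizer_o2 _)
  exact mem_centralizer_singleton_iff.2 ((mem_zc.1 hz).2.1 s hs)

theorem S_U [Finite G] (hc : IsCharacteristicTwoType G) : (S : Subgroup G) ≤ normalizer (U : Set G) :=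
  (D.S_Q hc).trans D.norm_Q_le_U

/-- every `x ∈ X#` is conjugate in `Y` to an element of `X ∩ Ω₁(Z(S))` -/
theorem exists_conj_z [Finite G] {x : G} (hx : x ∈ X) (h1 : x ≠ 1) : ∃ y ∈ Y, y ∈ normalizer (X : Set G) ∧
    y ∈ normalizer (Q : Set G) ∧ y * x * y⁻¹ ∈ zc (S : Subgroup G) ∧ y * x * y⁻¹ ∈ X ∧ y * x * y⁻¹ ≠ 1 := by
  obtain ⟨z, hz, hX, hz1⟩ := D.exists_z
  obtain ⟨y, hy, h2, h3, h4⟩ := D.trans x hx z hX h1 hz1
  exact ⟨y, hy, h2, h3, by rw [h4]; exact hz, by rw [h4]; exact hX, by rw [h4]; exact hz1⟩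

/-- **(A)**: `O₂(C_G(x)) = Q` for `1 ≠ x ∈ X`. -/
theorem o2_eq [Finite G] (hc : IsCharacteristicTwoType G) {x : G} (hx : x ∈ X) (h1 : x ≠ 1) :
    o2 (centralizer ({x} : Set G)) = Q := by
  obtain ⟨y, hy, h2, h3, h4, h5, h6⟩ := D.exists_conj_z hx h1
  have h7 := D.o2_eq_zc hc h4 h5 h6
  -- conjugation by `y`
  have key : ∀ (a g : G), (o2 (centralizer ({a} : Set G))).map (MulAut.conj g).toMonoidHom ≤
      o2 (centralizer ({g * a * g⁻¹} : Set G)) := by
    intro a g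
    refine le_o2 ?_ ((o2_isPGroup _).map _) ?_
    · rintro _ ⟨w, hw, rfl⟩
      exact normalizer_centralizer_singleton w (o2_le _ hw)
    · refine le_normalizer_of fun l hl w hw => ?_
      obtain ⟨v, hv, rfl⟩ := hw
      have h8 : g⁻¹ * l * g ∈ centralizer ({a} : Set G) := by
        have := normalizer_centralizer_singleton (g := g⁻¹) l hl
        have e : g⁻¹ * (g * a * g⁻¹) * g⁻¹⁻¹ = a := by group
        rwa [e, inv_inv] at this
      refine ⟨_, conj_mem_of_normalizer (le_normalizer_o2 _ h8) hv, ?_⟩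
      show g * ((g⁻¹ * l * g) * v * (g⁻¹ * l * g)⁻¹) * g⁻¹ = l * (g * v * g⁻¹) * l⁻¹
      group
  apply le_antisymm
  · intro w hw
    have h8 := key x y ⟨w, hw, rfl⟩
    rw [h7] at h8
    have h9 := conj_mem_of_normalizer' h3 h8
    have e : y⁻¹ * ((MulAut.conj y).toMonoidHom w) * y = w := by
      show y⁻¹ * (y * w * y⁻¹) * y = w
      group
    rwa [e] at h9
  · intro w hw
    have h8 := conj_mem_of_normalizer h3 hw
    rw [← h7] at h8
    have h9 := key (y * x * y⁻¹) y⁻¹ ⟨_, h8, rfl⟩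
    have e : y⁻¹ * (y * x * y⁻¹) * y⁻¹⁻¹ = x := by group
    rw [e] at h9
    have e2 : (MulAut.conj y⁻¹).toMonoidHom (y * w * y⁻¹) = w := by
      show y⁻¹ * (y * w * y⁻¹) * y⁻¹⁻¹ = w
      group
    rwa [e2] at h9

/-- **(A)**: `C_G(x) ≤ N_G(Q)` for `1 ≠ x ∈ X`. -/
theorem cen_le [Finite G] (hc : IsCharacteristicTwoType G) {x : G} (hx : x ∈ X) (h1 : x ≠ 1) :
    centralizer ({x} : Set G) ≤ normalizer (Q : Set G) := by
  rw [← D.o2_eq hc hx h1]
  exact le_normalizer_o2 _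

theorem cen_le_X [Finite G] (hc : IsCharacteristicTwoType G) {x : G} (hx : x ∈ X) (h1 : x ≠ 1) :
    centralizer ({x} : Set G) ≤ normalizer (X : Set G) := (D.cen_le hc hx h1).trans D.norm_Q_le

/-- `C_G(Z) ≤ N_G(Q)` -/
theorem CZ_le [Finite G] (hc : IsCharacteristicTwoType G) : CZ (S : Subgroup G) ≤ normalizer (Q : Set G) := by
  obtain ⟨z, hz, hX, h1⟩ := D.exists_z
  refine le_trans (centralizer_le ?_) (D.cen_le hc hX h1)
  intro w hw
  rw [Set.mem_singleton_iff] at hw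
  rw [hw]; exact hz

/-- **(PR)**, abstract: `C_G(x) ≤ Y` for `x ∈ X#` and `N_G(S) ≤ Y`. -/
theorem pr [Finite G] (hY : ∀ x ∈ X, x ≠ 1 → centralizer ({x} : Set G) ≤ Y)
    (hS : normalizer ((S : Subgroup G) : Set G) ≤ Y) {x g : G} (hx : x ∈ X) (h1 : x ≠ 1)
    (hg : ∃ y ∈ Y, y * (g * x * g⁻¹) * y⁻¹ ∈ zc (S : Subgroup G)) : g ∈ Y := by
  obtain ⟨y, hy, h2⟩ := hg
  obtain ⟨t, ht, -, -, h3, h4, h5⟩ := D.exists_conj_z hx h1
  obtain ⟨n, hn, h6⟩ := burnside S h3 h2 (g := y * g * t⁻¹) (by group)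
  have hnY := hS hn
  have h7 : t⁻¹ * n⁻¹ * y * g ∈ centralizer ({x} : Set G) := by
    rw [mem_centralizer_singleton_iff]
    have e : n * t * x * (n * t)⁻¹ = (y * g) * x * (y * g)⁻¹ := by
      calc n * t * x * (n * t)⁻¹ = n * (t * x * t⁻¹) * n⁻¹ := by group
        _ = y * (g * x * g⁻¹) * y⁻¹ := h6
        _ = _ := by group
    calc t⁻¹ * n⁻¹ * y * g * x = (n * t)⁻¹ * ((y * g) * x * (y * g)⁻¹) * (y * g) := by group
      _ = (n * t)⁻¹ * (n * t * x * (n * t)⁻¹) * (y * g) := by rw [e]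
      _ = x * (t⁻¹ * n⁻¹ * y * g) := by group
  have h8 := hY x hx h1 h7
  have e2 : g = y⁻¹ * (n * (t * (t⁻¹ * n⁻¹ * y * g))) := by group
  rw [e2]
  exact mul_mem (inv_mem hy) (mul_mem hnY (mul_mem ht h8))

end Side

/-! ### `Sp_{2n}(q)` -/

namespace SpDat

variable {S : Sylow 2 G} {S₀ Y C Xs Qs Us Ul : Subgroup G} (D : SpDat (S : Subgroup G) S₀ Y C Xs Qs Us Ul)
include D

/-- `C_G(x) ≤ Y` for `1 ≠ x ∈ X_s` -/
theorem cen_le_Y [Finite G] (hc : IsCharacteristicTwoType G) {x : G} (hx : x ∈ Xs) (h1 : x ≠ 1) :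
    centralizer ({x} : Set G) ≤ Y := (D.side.cen_le_X hc hx h1).trans D.N_Y

/-- **(B)**: `C_G(Z) ≤ Y` -/
theorem CZ_le [Finite G] (hc : IsCharacteristicTwoType G) : CZ (S : Subgroup G) ≤ Y :=
  (D.side.CZ_le hc).trans (D.side.norm_Q_le.trans D.N_Y)

theorem o2_CZ [Finite G] (hc : IsCharacteristicTwoType G) : o2 (CZ (S : Subgroup G)) = Qs ⊔ Ul := D.oZ (D.CZ_le hc)

/-- `N_G(Z) ≤ N_G(Q_s Q_l)` -/
theorem norm_zc_le_QQ [Finite G] (hc : IsCharacteristicTwoType G) :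
    normalizer (zc (S : Subgroup G) : Set G) ≤ normalizer ((Qs ⊔ Ul : Subgroup G) : Set G) := by
  rw [← D.o2_CZ hc]
  exact normalizer_o2_le (normalizer_centralizer_le le_rfl)

/-- **(B)**: `N_G(Z) ≤ N_G(X_s)` -/
theorem norm_zc_le [Finite G] (hc : IsCharacteristicTwoType G) :
    normalizer (zc (S : Subgroup G) : Set G) ≤ normalizer (Xs : Set G) := by
  have h1 := D.norm_zc_le_QQ hc
  have h2 := normalizer_commutator_le (normalizer_commutator_le h1 h1) h1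
  rwa [D.lcs] at h2

theorem norm_zc_le_Y [Finite G] (hc : IsCharacteristicTwoType G) :
    normalizer (zc (S : Subgroup G) : Set G) ≤ Y := (D.norm_zc_le hc).trans D.N_Y

theorem norm_S_le_Y [Finite G] (hc : IsCharacteristicTwoType G) :
    normalizer ((S : Subgroup G) : Set G) ≤ Y :=
  (normalizer_le_normalizer_zc _).trans (D.norm_zc_le_Y hc)

/-- **(PR)** -/
theorem pr [Finite G] (hc : IsCharacteristicTwoType G) {x g : G} (hx : x ∈ Xs) (h1 : x ≠ 1)
    (hg : g * x * g⁻¹ ∈ Us ∨ g * x * g⁻¹ ∈ Ul) : g ∈ Y := by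
  refine D.side.pr (fun x hx h1 => D.cen_le_Y hc hx h1) (D.norm_S_le_Y hc) hx h1 ?_
  rcases hg with hg | hg
  · exact D.side.typ _ hg
  · exact D.typ_l _ hg

/-- `N_G(U_l) ≤ Y` -/
theorem norm_Ul_le [Finite G] (hc : IsCharacteristicTwoType G) : normalizer (Ul : Set G) ≤ Y := by
  intro g hg
  obtain ⟨z, -, hX, h1⟩ := D.side.exists_z
  exact D.pr hc hX h1 (Or.inr (conj_mem_of_normalizer hg (D.Xs_Ul hX)))

end SpDat

/-! ### `F₄(q)` -/

namespace FFourDat

variable {S : Sylow 2 G} {S₀ Y Cs Cl Xs Xl Qs Ql Us Ul : Subgroup G}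
  (D : FFourDat (S : Subgroup G) S₀ Y Cs Cl Xs Xl Qs Ql Us Ul)
include D

theorem cen_le_Y [Finite G] (hc : IsCharacteristicTwoType G) {x : G} (hx : x ∈ Xs) (h1 : x ≠ 1) :
    centralizer ({x} : Set G) ≤ Y := (D.side_s.cen_le_X hc hx h1).trans D.N_Y

/-- **(B)**: `C_G(Z) ≤ Y` -/
theorem CZ_le [Finite G] (hc : IsCharacteristicTwoType G) : CZ (S : Subgroup G) ≤ Y :=
  (D.side_s.CZ_le hc).trans (D.side_s.norm_Q_le.trans D.N_Y)

theorem o2_CZ [Finite G] (hc : IsCharacteristicTwoType G) : o2 (CZ (S : Subgroup G)) = Qs ⊔ Ql := D.oZ (D.CZ_le hc)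

/-- `N_G(Z) ≤ N_G(Q_s Q_l)` -/
theorem norm_zc_le_QQ [Finite G] (hc : IsCharacteristicTwoType G) :
    normalizer (zc (S : Subgroup G) : Set G) ≤ normalizer ((Qs ⊔ Ql : Subgroup G) : Set G) := by
  rw [← D.o2_CZ hc]
  exact normalizer_o2_le (normalizer_centralizer_le le_rfl)

theorem norm_zc_le_J0 [Finite G] (hc : IsCharacteristicTwoType G) :
    normalizer (zc (S : Subgroup G) : Set G) ≤ normalizer ((Qs ⊓ Ql : Subgroup G) : Set G) := by
  have h1 := D.norm_zc_le_QQ hc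
  have h2 := normalizer_commutator_le h1 h1
  rwa [D.comm0] at h2

theorem norm_zc_le_Z0 [Finite G] (hc : IsCharacteristicTwoType G) :
    normalizer (zc (S : Subgroup G) : Set G) ≤ normalizer ((Xs ⊔ Xl : Subgroup G) : Set G) := by
  have h1 := D.norm_zc_le_QQ hc
  have h2 := normalizer_inf_le h1 (normalizer_centralizer_le h1)
  rwa [D.cen0] at h2

/-- an element of `N_G(Z)` permutes `J_s`, `J_l` -/
theorem conj_J [Finite G] (hc : IsCharacteristicTwoType G) {g : G} (hg : g ∈ normalizer (zc (S : Subgroup G) : Set G))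
    {T : Subgroup G} (hT : T = Ul ⊓ Qs ∨ T = Us ⊓ Ql) :
    T.map (MulAut.conj g).toMonoidHom = Ul ⊓ Qs ∨ T.map (MulAut.conj g).toMonoidHom = Us ⊓ Ql := by
  have hT1 : Xs ⊔ Xl < T := by
    rcases hT with rfl | rfl
    · exact D.lt_s
    · exact D.lt_l
  have hT2 : T < Qs ⊓ Ql := by
    rcases hT with rfl | rfl
    · exact D.lt_s'
    · exact D.lt_l'
  have hCs := D.side_s.CZ_le hc
  have hCl := D.side_l.CZ_le hc
  have hT3 : CZ (S : Subgroup G) ≤ normalizer (T : Set G) := by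
    rcases hT with rfl | rfl
    · exact normalizer_inf_le (hCl.trans D.side_l.norm_Q_le_U) hCs
    · exact normalizer_inf_le (hCs.trans D.side_s.norm_Q_le_U) hCl
  have hZ := D.norm_zc_le_Z0 hc hg
  have hJ := D.norm_zc_le_J0 hc hg
  have hinj : Function.Injective (MulAut.conj g).toMonoidHom := (MulAut.conj g).injective
  refine D.two _ ?_ ?_ ?_
  · rw [← map_eq_of_mem_normalizer hZ]
    exact (map_lt_map_iff_of_injective hinj).2 hT1
  · rw [← map_eq_of_mem_normalizer hJ]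
    exact (map_lt_map_iff_of_injective hinj).2 hT2
  · refine le_normalizer_of fun l hl w hw => ?_
    obtain ⟨v, hv, rfl⟩ := hw
    have h1 : g⁻¹ * l * g ∈ CZ (S : Subgroup G) :=
      conj_mem_of_normalizer' (normalizer_centralizer_le le_rfl hg) hl
    refine ⟨_, conj_mem_of_normalizer (hT3 h1) hv, ?_⟩
    show g * ((g⁻¹ * l * g) * v * (g⁻¹ * l * g)⁻¹) * g⁻¹ = l * (g * v * g⁻¹) * l⁻¹
    group

theorem J_ne : Ul ⊓ Qs ≠ Us ⊓ Ql := by
  intro h
  have h1 := D.commJs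
  rw [h, D.commJl] at h1
  have h2 := D.Xs_Xl
  rw [h1, inf_idem] at h2
  exact D.side_s.X_ne h2

/-- `N_G(Z) ≤ N_G(J_s) ∩ N_G(J_l)` -/
theorem norm_zc_le_J [Finite G] (hc : IsCharacteristicTwoType G) :
    normalizer (zc (S : Subgroup G) : Set G) ≤ normalizer ((Ul ⊓ Qs : Subgroup G) : Set G) ⊓
      normalizer ((Us ⊓ Ql : Subgroup G) : Set G) := by
  have hf : Fact (Nat.Prime 2) := ⟨Nat.prime_two⟩
  intro g hg
  have hCs := D.side_s.CZ_le hc
  have hCl := D.side_l.CZ_le hc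
  have hfixs : CZ (S : Subgroup G) ≤ normalizer ((Ul ⊓ Qs : Subgroup G) : Set G) :=
    normalizer_inf_le (hCl.trans D.side_l.norm_Q_le_U) hCs
  have hfixl : CZ (S : Subgroup G) ≤ normalizer ((Us ⊓ Ql : Subgroup G) : Set G) :=
    normalizer_inf_le (hCs.trans D.side_s.norm_Q_le_U) hCl
  -- an odd power of `g` lies in `C_G(Z)`
  obtain ⟨m, hm, hgm⟩ : ∃ m : ℕ, Odd m ∧ g ^ m ∈ CZ (S : Subgroup G) := by
    have hn : normalizer (zc (S : Subgroup G) : Set G) ≤ normalizer ((CZ (S : Subgroup G) : Subgroup G) : Set G) :=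
      normalizer_centralizer_le le_rfl
    have h1 : ((CZ (S : Subgroup G)).subgroupOf (normalizer (zc (S : Subgroup G) : Set G))).Normal :=
      normal_subgroupOf_of_le_normalizer hn
    refine ⟨((CZ (S : Subgroup G)).subgroupOf (normalizer (zc (S : Subgroup G) : Set G))).index, ?_, ?_⟩
    · rw [← Nat.not_even_iff_odd, even_iff_two_dvd]
      intro h2
      have h3 : (CZ (S : Subgroup G)).relIndex (normalizer (zc (S : Subgroup G) : Set G)) ∣
          (CZ (S : Subgroup G)).index := relIndex_dvd_index_of_le (centralizer_le_normalizer _)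
      have h4 : (CZ (S : Subgroup G)).index ∣ (S : Subgroup G).index := index_dvd_of_le (le_centralizer_zc _)
      exact S.not_dvd_index ((h2.trans h3).trans h4)
    · have h2 := Subgroup.pow_index_mem ((CZ (S : Subgroup G)).subgroupOf (normalizer (zc (S : Subgroup G) : Set G)))
        (⟨g, hg⟩ : normalizer (zc (S : Subgroup G) : Set G))
      exact h2
  have h1 := D.conj_J hc hg (Or.inl rfl)
  have h2 := D.conj_J hc hg (Or.inr rfl)
  exact ⟨mem_normalizer_of_odd D.J_ne h1 h2 hm (hfixs hgm),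
    mem_normalizer_of_odd (fun h => D.J_ne h.symm) h2.symm h1.symm hm (hfixl hgm)⟩

/-- **(B)**: `N_G(Z) ≤ N_G(X_s)` -/
theorem norm_zc_le_s [Finite G] (hc : IsCharacteristicTwoType G) :
    normalizer (zc (S : Subgroup G) : Set G) ≤ normalizer (Xs : Set G) := by
  have h1 := normalizer_commutator_le ((D.norm_zc_le_J hc).trans inf_le_left) (D.norm_zc_le_QQ hc)
  rwa [D.commJs] at h1

/-- **(B)**: `N_G(Z) ≤ N_G(X_l)` -/
theorem norm_zc_le_l [Finite G] (hc : IsCharacteristicTwoType G) :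
    normalizer (zc (S : Subgroup G) : Set G) ≤ normalizer (Xl : Set G) := by
  have h1 := normalizer_commutator_le ((D.norm_zc_le_J hc).trans inf_le_right) (D.norm_zc_le_QQ hc)
  rwa [D.commJl] at h1

theorem norm_zc_le_Y [Finite G] (hc : IsCharacteristicTwoType G) :
    normalizer (zc (S : Subgroup G) : Set G) ≤ Y := (D.norm_zc_le_s hc).trans D.N_Y

theorem norm_S_le_Y [Finite G] (hc : IsCharacteristicTwoType G) :
    normalizer ((S : Subgroup G) : Set G) ≤ Y :=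
  (normalizer_le_normalizer_zc _).trans (D.norm_zc_le_Y hc)

/-- **(PR)** for `X_s` -/
theorem pr [Finite G] (hc : IsCharacteristicTwoType G) {x g : G} (hx : x ∈ Xs) (h1 : x ≠ 1)
    (hg : g * x * g⁻¹ ∈ Us ∨ g * x * g⁻¹ ∈ Ul) : g ∈ Y := by
  refine D.side_s.pr (fun x hx h1 => D.cen_le_Y hc hx h1) (D.norm_S_le_Y hc) hx h1 ?_
  rcases hg with hg | hg
  · exact D.side_s.typ _ hg
  · exact D.side_l.typ _ hg

/-- `N_G(U_l) ≤ Y` -/
theorem norm_Ul_le [Finite G] (hc : IsCharacteristicTwoType G) : normalizer (Ul : Set G) ≤ Y := by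
  intro g hg
  obtain ⟨z, -, hX, h1⟩ := D.side_s.exists_z
  exact D.pr hc hX h1 (Or.inr (conj_mem_of_normalizer hg (D.Xs_Ul hX)))

/-- **(C)**: `C_G(x) ≤ Y` for `1 ≠ x ∈ X_l` -/
theorem cen_le_Y_l [Finite G] (hc : IsCharacteristicTwoType G) {x : G} (hx : x ∈ Xl) (h1 : x ≠ 1) :
    centralizer ({x} : Set G) ≤ Y :=
  ((D.side_l.cen_le hc hx h1).trans D.side_l.norm_Q_le_U).trans (D.norm_Ul_le hc)

/-- **(PR)** for `X_l` -/
theorem pr_l [Finite G] (hc : IsCharacteristicTwoType G) {x g : G} (hx : x ∈ Xl) (h1 : x ≠ 1)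
    (hg : g * x * g⁻¹ ∈ Us ∨ g * x * g⁻¹ ∈ Ul) : g ∈ Y := by
  refine D.side_l.pr (fun x hx h1 => D.cen_le_Y_l hc hx h1) (D.norm_S_le_Y hc) hx h1 ?_
  rcases hg with hg | hg
  · exact D.side_s.typ _ hg
  · exact D.side_l.typ _ hg

/-- **(B)**: no element of `X_s#` is conjugate in `G` to an element of `X_l#`. -/
theorem not_conj [Finite G] (hc : IsCharacteristicTwoType G) {x x' g : G} (hx : x ∈ Xs) (h1 : x ≠ 1)
    (hx' : x' ∈ Xl) (h1' : x' ≠ 1) : g * x * g⁻¹ ≠ x' := by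
  intro h
  obtain ⟨y, -, -, -, h3, h4, h5⟩ := D.side_s.exists_conj_z hx h1
  obtain ⟨y', -, -, -, h3', h4', h5'⟩ := D.side_l.exists_conj_z hx' h1'
  obtain ⟨n, hn, h6⟩ := burnside S h3 h3' (g := y' * g * y⁻¹) (by rw [← h]; group)
  have h7 : n ∈ normalizer (Xs : Set G) := D.norm_zc_le_s hc (normalizer_le_normalizer_zc _ hn)
  have h8 := conj_mem_of_normalizer h7 h4
  rw [h6] at h8
  have h9 : y' * x' * y'⁻¹ ∈ Xs ⊓ Xl := ⟨h8, h4'⟩
  rw [D.Xs_Xl] at h9
  exact h5' (mem_bot.1 h9)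

end FFourDat

end Cfsg.Agent.Omega.All.HOne

end

section


/-!
# Mutual pairs of a natural module of `G` and a natural module of a parabolic (THEOREM ALL (b), #13114)

`A` is a natural module for a normal `SL₂(F)` of `N_G(A)/C_G(A)` (`NatMod F A`), `B` is the natural module for a
normal `SL₂(F')` of the group induced by `P` only (`NatOver F' P B ⊥`), `A`, `B ≤ P` normalise each other and do
not commute.  Then `|F| = |F'|`, `A ∩ B = [A, B]` is a line of both and a 2-element of `P` which centralises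
`A ∩ B` centralises `B / (A ∩ B)`.
-/

set_option autoImplicit false

namespace Cfsg.Agent.Omega.All

open Subgroup Cfsg Cfsg.Agent.Omega.NatPair
open Cfsg.Agent.Omega.FrameFF (NatOver)

/-! ### `NatOver` as a natural module of the group `N` -/

section overN

variable {G : Type*} [Group G] {F : Type} [Field F] {N V : Subgroup G}

theorem mem_normalizer_subgroupOf (hN : N ≤ normalizer (V : Set G)) (n : N) :
    n ∈ normalizer ((V.subgroupOf N : Subgroup N) : Set N) := by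
  rw [mem_normalizer_iff]
  intro v
  have h := mem_normalizer_iff.1 (hN n.2) (v : G)
  exact h

/-- `NatOver F N V ⊥` as a natural module in the group `N` -/
noncomputable def natOf (h : NatOver F N V ⊥) (hVN : V ≤ N) (hN : N ≤ normalizer (V : Set G)) :
    NatMod F (V.subgroupOf N) :=
  NatMod.ofMap (V := V.subgroupOf N) (fun v => h.e ((v : N) : G))
    (fun v w => h.mul _ (mem_subgroupOf.1 v.2) _ (mem_subgroupOf.1 w.2))
    (by
      constructor
      · intro v w hvw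
        have hv := mem_subgroupOf.1 v.2
        have hw := mem_subgroupOf.1 w.2
        have h1 : h.e (((v : N) : G) * (((w : N) : G))⁻¹) = 0 := by
          have h2 := h.mul (((v : N) : G) * (((w : N) : G))⁻¹) (mul_mem hv (inv_mem hw)) _ hw
          rw [inv_mul_cancel_right] at h2
          have h3 : h.e ((v : N) : G) = h.e ((w : N) : G) := hvw
          rw [h3] at h2
          exact right_eq_add.1 h2
        have h4 := (h.ker _ (mul_mem hv (inv_mem hw))).1 h1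
        rw [mem_bot, mul_inv_eq_one] at h4
        exact Subtype.ext (Subtype.ext h4)
      · intro x
        obtain ⟨v, hv, hx⟩ := h.surj x
        exact ⟨⟨⟨v, hVN hv⟩, mem_subgroupOf.2 hv⟩, hx⟩)
    (by
      intro A
      obtain ⟨g, hg, h1, -⟩ := h.lift A
      exact ⟨⟨g, hg⟩, mem_normalizer_subgroupOf hN _, fun v => h1 _ (mem_subgroupOf.1 v.2)⟩)
    (by
      intro g _ k _ A hA
      obtain ⟨B, hB⟩ := h.norm g g.2 k k.2 A fun v hv => hA ⟨⟨v, hVN hv⟩, mem_subgroupOf.2 hv⟩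
      exact ⟨B, fun _ v => hB _ (mem_subgroupOf.1 v.2)⟩)

theorem centralizer_subgroupOf {P X : Subgroup G} (hX : X ≤ P) :
    centralizer ((X.subgroupOf P : Subgroup P) : Set P) = (centralizer (X : Set G)).subgroupOf P := by
  ext p
  rw [mem_subgroupOf, mem_centralizer_iff, mem_centralizer_iff]
  constructor
  · intro h x hx
    exact congrArg Subtype.val (h ⟨x, hX hx⟩ (mem_subgroupOf.2 hx))
  · intro h x hx
    exact Subtype.ext (h _ (mem_subgroupOf.1 hx))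

theorem relIndex_cent {P X Y : Subgroup G} (hX : X ≤ P) (hY : Y ≤ P) :
    (centralizer ((X.subgroupOf P : Subgroup P) : Set P)).relIndex (Y.subgroupOf P) =
      (centralizer (X : Set G)).relIndex Y := by
  rw [centralizer_subgroupOf hX, relIndex_subgroupOf hY]

end overN

/-! ### 2-elements which centralise a line -/

section line

variable {G : Type*} [Group G] {F : Type*} [Field F] {V : Subgroup G} (M : NatMod F V)

include M in
/-- a 2-element of `N_G(V)` which centralises the line of `w` centralises `V` modulo this line -/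
theorem comm_mem_line [Finite F] [CharP F 2] {g : G} (hg : g ∈ normalizer (V : Set G)) {k : ℕ}
    (hk : g ^ 2 ^ k = 1) {w : Fin 2 → F} (hw : w ≠ 0) (hfix : ∀ r ∈ M.line w, g * r = r * g) :
    ∀ v ∈ V, g * v * g⁻¹ * v⁻¹ ∈ M.line w := by
  obtain ⟨s, hs⟩ := M.exists_semi hg
  have hline : ∀ c : F, M.act g (c • w) = c • w := fun c =>
    (M.commute_e hg).1 (hfix _ (M.e_mem_line.2 ⟨c, rfl⟩))
  have hfw : M.act g w = w := by
    have := hline 1
    rwa [one_smul] at this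
  have hlin : ∀ (c : F) x, M.act g (c • x) = c • M.act g x := by
    intro c x
    have h1 : s c = c := by
      have h2 := hline c
      rw [hs, hfw] at h2
      exact smul_left_injective F hw h2
    rw [hs, h1]
  obtain ⟨u, hu⟩ : ∃ u, dt w u ≠ 0 := by
    by_contra hcon
    push Not at hcon
    apply hw
    have h0 := hcon ![0, 1]
    have h1 := hcon ![1, 0]
    unfold dt at h0 h1
    simp at h0 h1
    exact ext2 (by simpa using h0) (by simpa using h1)
  obtain ⟨α, β, hαβ⟩ := exists_comb hu (M.act g u)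
  have hdet : ∀ x, dt w (M.act g x) = β * dt w x := by
    intro x
    obtain ⟨a, b, rfl⟩ := exists_comb hu x
    rw [M.act_add hg, hlin, hlin, hfw, hαβ]
    simp only [dt_add, dt_smul]
    have h0 : dt w w = 0 := by unfold dt; ring
    rw [h0]
    ring
  have hpow : ∀ n : ℕ, ∀ x, dt w (M.act (g ^ n) x) = β ^ n * dt w x := by
    intro n
    induction n with
    | zero => intro x; rw [pow_zero, pow_zero, M.act_one, one_mul]
    | succ n ih =>
      intro x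
      rw [pow_succ', M.act_mul hg (pow_mem hg n), hdet, ih, pow_succ', mul_assoc]
  have hβ : β = 1 := by
    apply eq_one_of_pow (k := k)
    have h1 := hpow (2 ^ k) u
    rw [hk, M.act_one] at h1
    exact mul_right_cancel₀ hu (by rw [one_mul]; exact h1.symm)
  intro v hv
  obtain ⟨x, rfl⟩ := (M.mem_iff v).1 hv
  rw [← M.e_act hg, ← M.e_sub, M.e_mem_line]
  apply exists_smul_of_dt hw
  have h1 := hdet x
  rw [hβ, one_mul] at h1
  have h2 : dt w (M.act g x) = dt w (M.act g x - x) + dt w x := by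
    rw [← dt_add, sub_add_cancel]
  rw [h1] at h2
  exact right_eq_add.1 h2

end line

/-! ### The mixed pair -/

section mixed

variable {G : Type*} [Group G] [Finite G] {F F' : Type*} [Field F] [Field F'] [Finite F] [Finite F']
  [CharP F 2] [CharP F' 2] {A B P : Subgroup G}

/-- the mixed pair, with the second module given in the group `P` -/
theorem mixed (M : NatMod F A) (N : NatMod F' (B.subgroupOf P)) (hBP : B ≤ P) (hAP : A ≤ P)
    (hPB : P ≤ normalizer (B : Set G)) (h : NatPair.Mutual A B) :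
    Nat.card F = Nat.card F' ∧ ∃ w w', M.Quad B w ∧ N.Quad (A.subgroupOf P) w' ∧ A ⊓ B = M.line w ∧
      ∀ r, r ∈ A ⊓ B ↔ ∃ r' ∈ N.line w', (r' : G) = r := by
  -- `B` is commutative
  have hBc : ∀ b ∈ B, ∀ c ∈ B, b * c = c * b := fun b hb c hc =>
    congrArg Subtype.val (N.comm (v := ⟨b, hBP hb⟩) (w := ⟨c, hBP hc⟩) (mem_subgroupOf.2 hb)
      (mem_subgroupOf.2 hc))
  have hne' := h.ne_of
  have hne := h.symm.ne_of
  -- the two applications of the offender lemma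
  have hM : (centralizer (B : Set G)).relIndex A ≤ (centralizer (A : Set G)).relIndex B → ∃ w, M.Quad B w :=
    fun hoff => M.quad_ff h.le hne' (fun a ha b hb v hv => hBc b hb _ (mem_inf.1 (h.comm_mem ha hv)).2) hoff
  have hN : (centralizer (A : Set G)).relIndex B ≤ (centralizer (B : Set G)).relIndex A →
      ∃ w, N.Quad (A.subgroupOf P) w := by
    intro hoff
    refine N.quad_ff (fun a _ => mem_normalizer_subgroupOf hPB a) ?_ ?_ ?_
    · obtain ⟨a, ha, v, hv, hav⟩ := hne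
      exact ⟨⟨a, hAP ha⟩, mem_subgroupOf.2 ha, ⟨v, hBP hv⟩, mem_subgroupOf.2 hv,
        fun he => hav (congrArg Subtype.val he)⟩
    · intro a ha b hb v hv
      exact Subtype.ext (M.comm (mem_subgroupOf.1 hb)
        (mem_inf.1 (h.symm.comm_mem (mem_subgroupOf.1 ha) (mem_subgroupOf.1 hv))).2)
    · rw [relIndex_cent hAP hBP, relIndex_cent hBP hAP]
      exact hoff
  have key : ∃ w w', M.Quad B w ∧ N.Quad (A.subgroupOf P) w' := by
    rcases le_total ((centralizer (B : Set G)).relIndex A) ((centralizer (A : Set G)).relIndex B) with hle | hle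
    · obtain ⟨w, hw⟩ := hM hle
      obtain ⟨w', hw'⟩ := hN (by rw [hw.card, hw.index])
      exact ⟨w, w', hw, hw'⟩
    · obtain ⟨w', hw'⟩ := hN hle
      have h1 := hw'.card
      have h2 := hw'.index
      rw [relIndex_cent hBP hAP] at h1
      rw [relIndex_cent hAP hBP] at h2
      obtain ⟨w, hw⟩ := hM (by rw [h1, h2])
      exact ⟨w, w', hw, hw'⟩
  obtain ⟨w, w', hw, hw'⟩ := key
  refine ⟨?_, w, w', hw, hw', ?_, ?_⟩
  · have h1 := hw'.index
    rw [relIndex_cent hAP hBP, hw.card] at h1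
    exact h1
  · apply le_antisymm
    · rw [← hw.cent]
      intro g hg
      rw [mem_inf] at hg ⊢
      exact ⟨mem_centralizer_iff.2 fun v hv => hBc v hv g hg.2, hg.1⟩
    · intro r hr
      obtain ⟨a, ha, v, hv, rfl⟩ := hw.comm' r hr
      exact h.comm_mem ha hv
  · intro r
    constructor
    · intro hr
      have hrP : r ∈ P := hAP (mem_inf.1 hr).1
      refine ⟨⟨r, hrP⟩, ?_, rfl⟩
      rw [← hw'.cent, mem_inf]
      refine ⟨mem_centralizer_iff.2 fun v hv => Subtype.ext ?_, mem_subgroupOf.2 (mem_inf.1 hr).2⟩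
      exact M.comm (mem_subgroupOf.1 hv) (mem_inf.1 hr).1
    · rintro ⟨r', hr', rfl⟩
      obtain ⟨a, ha, v, hv, rfl⟩ := hw'.comm' r' hr'
      have h1 := h.symm.comm_mem (mem_subgroupOf.1 ha) (mem_subgroupOf.1 hv)
      rw [inf_comm] at h1
      exact h1

/-- **the mixed pair** -/
theorem mixed_pair {F' : Type} [Field F'] [Finite F'] [CharP F' 2] (S : Sylow 2 G) (M : NatMod F A)
    (N : NatOver F' P B ⊥) (hSP : (S : Subgroup G) ≤ P) (hPB : P ≤ normalizer (B : Set G)) (hBP : B ≤ P)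
    (hAP : A ≤ P) (h : NatPair.Mutual A B) :
    Nat.card F = Nat.card F' ∧ Nat.card B = Nat.card A ∧ (∃ w, w ≠ 0 ∧ A ⊓ B = M.line w) ∧
      ∀ s ∈ (S : Subgroup G), (∀ r ∈ A ⊓ B, s * r = r * s) → ∀ x ∈ B, s * x * s⁻¹ * x⁻¹ ∈ A ⊓ B := by
  let N' := natOf N hBP hPB
  obtain ⟨hF, w, w', hw, hw', hl, hl'⟩ := mixed M N' hBP hAP hPB h
  refine ⟨hF, ?_, ⟨w, hw.ne, hl⟩, ?_⟩
  · have h1 := M.card_V
    have h2 := N'.card_V
    have h3 : Nat.card (B.subgroupOf P) = Nat.card B :=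
      Nat.card_congr (subgroupOfEquivOfLe hBP).toEquiv
    rw [h3, ← hF] at h2
    rw [h1, h2]
  · intro s hs hr x hx
    obtain ⟨k, hk⟩ := S.isPGroup' ⟨s, hs⟩
    have hsk' : s ^ 2 ^ k = 1 := by
      have h0 := congrArg (fun t : S => (t : G)) hk
      simpa using h0
    have hsk : (⟨s, hSP hs⟩ : P) ^ 2 ^ k = 1 := Subtype.ext hsk'
    have h1 := comm_mem_line N' (mem_normalizer_subgroupOf hPB ⟨s, hSP hs⟩) hsk hw'.ne (by
      intro r hr'
      exact Subtype.ext (hr _ ((hl' _).2 ⟨r, hr', rfl⟩))) ⟨x, hBP hx⟩ (mem_subgroupOf.2 hx)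
    exact (hl' _).2 ⟨_, h1, rfl⟩

end mixed

end Cfsg.Agent.Omega.All

end

section


/-!
# END `F₄(q)` with a graph element (OMEGA #16413): the input structure

`Y = N_G(G₀)`, `G₀ = F₄(q)`, `q` even, `S ≤ Y` a Sylow 2-subgroup of `G` which contains an element inducing a graph
automorphism; `S₁ = N_S(X_s)`, `|S : S₁| = 2`, `S₁` is a Sylow 2-subgroup of `N_G(X_s) ≤ Y`, `S₀ = S ∩ G₀ ≤ S₁`.

The data of `FFourDat` are given for `S₁`; `FFourG` adds the action of `S` and some commutator facts of `Q_s Q_l`.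

Conclusion (file `FFourG`): `N_G(Z) ≤ Y` and every `P ∈ P(S)` lies in `Y`.
-/

set_option autoImplicit false

namespace Cfsg.Agent.Omega.All.HOne

open Subgroup Cfsg Cfsg.Agent.ZN Cfsg.Agent.Omega.MinPar Cfsg.Agent.Omega.Frame

universe u

variable {G : Type u} [Group G]

/-- The data for `G₀ = F₄(q)`, `q ≥ 2` even, and a Sylow 2-subgroup `S` with a graph element. -/
structure FFourG (S S₁ S₀ Y Cs Cl Xs Xl Qs Ql Us Ul : Subgroup G) : Prop where
  dat : FFourDat S₁ S₀ Y Cs Cl Xs Xl Qs Ql Us Ul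
  S_Y : S ≤ Y
  S₁_eq : S₁ = S ⊓ normalizer (Xs : Set G)
  /-- `S₁` is a Sylow 2-subgroup of `N_G(X_s)` -/
  syl : ∀ T : Subgroup G, IsPGroup 2 T → T ≤ normalizer (Xs : Set G) → Nat.card T ≤ Nat.card S₁
  /-- an element of `S` normalises `Q_s` and `Q_l` or exchanges them -/
  perm : ∀ t ∈ S, (t ∈ normalizer (Qs : Set G) ∧ t ∈ normalizer (Ql : Set G)) ∨
    (Qs.map (MulAut.conj t).toMonoidHom = Ql ∧ Ql.map (MulAut.conj t).toMonoidHom = Qs)
  swap : ∃ s ∈ S, s ∉ S₁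
  /-- the torus is transitive on `X_s# × X_l#` -/
  trans2 : ∀ a ∈ Xs, ∀ b ∈ Xl, ∀ a' ∈ Xs, ∀ b' ∈ Xl, a ≠ 1 → b ≠ 1 → a' ≠ 1 → b' ≠ 1 →
    ∃ y ∈ Y, y * a * y⁻¹ = a' ∧ y * b * y⁻¹ = b'
  /-- `[v, Q_s] = X_s` and `[v, Q_l] = X_l` for `v ∈ J₀` outside `U_s ∪ U_l` -/
  mixQ_s : ∀ v ∈ Qs ⊓ Ql, v ∉ Us → v ∉ Ul → ∀ x ∈ Xs, ∃ y ∈ Qs ⊔ Ql, y * v * y⁻¹ = v * x
  mixQ_l : ∀ v ∈ Qs ⊓ Ql, v ∉ Us → v ∉ Ul → ∀ x ∈ Xl, ∃ y ∈ Qs ⊔ Ql, y * v * y⁻¹ = v * x
  /-- `C_l / Q_l = Sp₆(q)` is faithful on `Q_l / U_l` -/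
  faith : ∀ w ∈ Qs ⊔ Ql, (∀ q ∈ Ql, w * q * w⁻¹ * q⁻¹ ∈ Ul) → w ∈ Ql
  /-- the involutions of `C_{Q_s Q_l}(J₀)` lie in two subgroups exchanged by `S`, with intersection `J₀` -/
  elJ : ∀ E : Subgroup G, E ≤ Qs ⊔ Ql → IsElementaryAbelian 2 E → S ≤ normalizer (E : Set G) →
    (∀ e ∈ E, ∀ j ∈ Qs ⊓ Ql, e * j = j * e) → E ≤ Qs ⊓ Ql
  /-- `C_Y(ab)` permutes `{X_s, X_l}` -/
  cenY : ∀ a ∈ Xs, ∀ b ∈ Xl, a ≠ 1 → b ≠ 1 → ∀ y ∈ Y, y * (a * b) * y⁻¹ = a * b →
    (y * a * y⁻¹ ∈ Xs ∧ y * b * y⁻¹ ∈ Xl) ∨ (y * a * y⁻¹ ∈ Xl ∧ y * b * y⁻¹ ∈ Xs)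

end Cfsg.Agent.Omega.All.HOne

end

section


/-!
# THEOREM F1-h1 (OMEGA #14479): the end for `Sp_{2n}(q)` (helper866)

`LemE` : helper384's LEMMA E, literally; `par_le_sp` : every `P ∈ P(S)` lies in `Y`; `eq_top_sp` : `Y = ⊤`.
-/

set_option autoImplicit false

namespace Cfsg.Agent.Omega.All.HOne

open Subgroup Cfsg Cfsg.Agent.ZN Cfsg.Agent.Omega.MinPar Cfsg.Agent.Omega.Frame
open Cfsg.Agent.Omega.FrameLE (AllIn)
open Cfsg.Agent.Omega.FrameNOFF (CZ)
open Cfsg.Agent.MinSimple.VModule (mem_zc zc_le_zl le_normalizer_zl zl_comm)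

universe u

/-- LEMMA E (helper384, `HOneOff.lean`) as a hypothesis. -/
def LemE : Prop :=
  ∀ (G : Type u) [Group G] [Finite G], IsCharacteristicTwoType G → ∀ (S : Sylow 2 G) (P Y S₀ QQ U J X U' : Subgroup G),
    IsParS (S : Subgroup G) P → (S : Subgroup G) ≤ Y → ¬ P ≤ Y → Offer S₀ QQ U J X U' → S₀ ≤ (S : Subgroup G) →
      (S : Subgroup G) ≤ normalizer (U : Set G) → (S : Subgroup G) ≤ normalizer (X : Set G) →
        (∀ x ∈ X, x ≠ 1 → centralizer ({x} : Set G) ≤ Y) → zl (S : Subgroup G) P ≤ QQ →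
          zl (S : Subgroup G) P ≤ centralizer (U : Set G) ∨ zl (S : Subgroup G) P ≤ U'

variable {G : Type u} [Group G] [Finite G]

/-- `V_P ≤ B`, and `z ∈ Z ∩ X_s`, conjugates of `z` into `B` only by elements of `Y`: `P ≤ Y`. -/
theorem le_of_pr {S P Y B : Subgroup G} {z : G} (hz : z ∈ zc S) (hV : zl S P ≤ B)
    (hpr : ∀ g : G, g * z * g⁻¹ ∈ B → g ∈ Y) : P ≤ Y := fun p hp =>
  hpr p (hV (conj_mem_of_normalizer (le_normalizer_zl S P hp) (zc_le_zl S P hz)))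

variable {S : Sylow 2 G}

/-- **The end for `Sp_{2n}(q)`.** -/
theorem par_le_sp (hE : LemE.{u}) (hc : IsCharacteristicTwoType G) {S₀ Y C Xs Qs Us Ul : Subgroup G}
    (D : SpDat (S : Subgroup G) S₀ Y C Xs Qs Us Ul) (hAll : AllIn (S : Subgroup G)) {P : Subgroup G}
    (hP : IsPar (S : Subgroup G) P) : P ≤ Y := by
  by_cases hn : P ≤ normalizer (zc (S : Subgroup G) : Set G)
  · exact hn.trans (D.norm_zc_le_Y hc)
  by_contra hPY
  have hPS : IsParS (S : Subgroup G) P := ⟨hP, hn⟩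
  have hV := hAll P hPS
  rw [D.o2_CZ hc] at hV
  obtain ⟨z, hz, hX, h1⟩ := D.side.exists_z
  rcases hE G hc S P Y S₀ _ _ _ _ _ hPS D.S_Y hPY D.offer D.S₀_S D.S_Ul D.side.S_X
    (fun x hx h1 => D.cen_le_Y hc hx h1) hV with h | h
  · have h2 : zl (S : Subgroup G) P ≤ Ul := (le_inf hV h).trans D.cen
    exact hPY (le_of_pr hz h2 fun g hg => D.pr hc hX h1 (Or.inr hg))
  · exact hPY (le_of_pr hz h fun g hg => D.pr hc hX h1 (Or.inl hg))

/-- `Full S`: `Y = G`. -/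
theorem eq_top_sp (hE : LemE.{u}) (hc : IsCharacteristicTwoType G) {S₀ Y C Xs Qs Us Ul : Subgroup G}
    (D : SpDat (S : Subgroup G) S₀ Y C Xs Qs Us Ul) (hAll : AllIn (S : Subgroup G)) (hF : Full (S : Subgroup G)) :
    Y = ⊤ :=
  eq_top_of_par S hF (D.norm_S_le_Y hc) fun _ hP => par_le_sp hE hc D hAll hP

end Cfsg.Agent.Omega.All.HOne

end

section


/-!
# THEOREM F1-h1 (OMEGA #14479): the end for `F₄(q)` (helper866)

`par_le_ffour` : every `P ∈ P(S)` lies in `Y`; `eq_top_ffour` : `Y = ⊤`.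
-/

set_option autoImplicit false

namespace Cfsg.Agent.Omega.All.HOne

open Subgroup Cfsg Cfsg.Agent.ZN Cfsg.Agent.Omega.MinPar Cfsg.Agent.Omega.Frame
open Cfsg.Agent.Omega.FrameLE (AllIn)
open Cfsg.Agent.Omega.FrameNOFF (CZ)
open Cfsg.Agent.MinSimple.VModule (mem_zc zc_le_zl le_normalizer_zl zl_comm)

universe u

variable {G : Type u} [Group G] [Finite G] {S : Sylow 2 G}

/-- **The end for `F₄(q)`.** -/
theorem par_le_ffour (hE : LemE.{u}) (hc : IsCharacteristicTwoType G) {S₀ Y Cs Cl Xs Xl Qs Ql Us Ul : Subgroup G}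
    (D : FFourDat (S : Subgroup G) S₀ Y Cs Cl Xs Xl Qs Ql Us Ul) (hAll : AllIn (S : Subgroup G)) {P : Subgroup G}
    (hP : IsPar (S : Subgroup G) P) : P ≤ Y := by
  by_cases hn : P ≤ normalizer (zc (S : Subgroup G) : Set G)
  · exact hn.trans (D.norm_zc_le_Y hc)
  by_contra hPY
  have hPS : IsParS (S : Subgroup G) P := ⟨hP, hn⟩
  have hV := hAll P hPS
  rw [D.o2_CZ hc] at hV
  obtain ⟨zs, hzs, hXs, h1s⟩ := D.side_s.exists_z
  obtain ⟨zl', hzl, hXl, h1l⟩ := D.side_l.exists_z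
  -- `V_P` is not contained in `U_s` nor in `U_l`
  have hnS : ¬ zl (S : Subgroup G) P ≤ Us := fun h =>
    hPY (le_of_pr hzs h fun g hg => D.pr hc hXs h1s (Or.inl hg))
  have hnL : ¬ zl (S : Subgroup G) P ≤ Ul := fun h =>
    hPY (le_of_pr hzs h fun g hg => D.pr hc hXs h1s (Or.inr hg))
  have hcl : zl (S : Subgroup G) P ≤ Ql := by
    rcases hE G hc S P Y S₀ _ _ _ _ _ hPS D.S_Y hPY D.offer_l D.S₀_S (D.side_l.S_U hc) D.side_s.S_X
      (fun x hx h1 => D.cen_le_Y hc hx h1) hV with h | h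
    · exact (le_inf hV h).trans D.cen_l
    · exact absurd h hnS
  have hcs : zl (S : Subgroup G) P ≤ Qs := by
    rcases hE G hc S P Y S₀ _ _ _ _ _ hPS D.S_Y hPY D.offer_s D.S₀_S (D.side_s.S_U hc) D.side_l.S_X
      (fun x hx h1 => D.cen_le_Y_l hc hx h1) hV with h | h
    · exact (le_inf hV h).trans D.cen_s
    · exact absurd h hnL
  have hJ : zl (S : Subgroup G) P ≤ Qs ⊓ Ql := le_inf hcs hcl
  -- an element of `P` outside `Y`
  obtain ⟨p, hp, hpY⟩ := SetLike.not_le_iff_exists.1 hPY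
  have hpY' : p⁻¹ ∉ Y := fun h => hpY (by have := inv_mem h; rwa [inv_inv] at this)
  have hVn := le_normalizer_zl (S : Subgroup G) P
  have hw := conj_mem_of_normalizer (hVn hp) (zc_le_zl _ P hzl)
  have hv := conj_mem_of_normalizer (hVn (inv_mem hp)) (zc_le_zl _ P hzs)
  set w := p * zl' * p⁻¹ with hwdef
  set v := p⁻¹ * zs * p⁻¹⁻¹ with hvdef
  obtain ⟨y, -, hy⟩ := D.mix_s w (hJ hw) (fun h => hpY (D.pr_l hc hXl h1l (Or.inl h)))
    (fun h => hpY (D.pr_l hc hXl h1l (Or.inr h))) zs hXs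
  obtain ⟨y', -, hy'⟩ := D.mix_l v (hJ hv) (fun h => hpY' (D.pr hc hXs h1s (Or.inl h)))
    (fun h => hpY' (D.pr hc hXs h1s (Or.inr h))) zl' hXl
  -- `V_P` is abelian
  have hab : zs * w = w * zs := zl_comm hPS.le S.isPGroup' (MinSimple.Basic.not_dvd_relIndex S hPS.le)
    (hPS.isLoc.char2 S hc) _ (zc_le_zl _ P hzs) _ hw
  -- `z_s ∼ z_s w = w z_s ∼ w ∼ z_l`
  refine D.not_conj hc hXs h1s hXl h1l (g := p⁻¹ * y⁻¹ * (p * y' * p⁻¹)) ?_
  have e1 : p * v * p⁻¹ = zs := by rw [hvdef]; group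
  calc p⁻¹ * y⁻¹ * (p * y' * p⁻¹) * zs * (p⁻¹ * y⁻¹ * (p * y' * p⁻¹))⁻¹
      = p⁻¹ * y⁻¹ * (p * (y' * v * y'⁻¹) * p⁻¹) * y * p := by rw [← e1]; group
    _ = p⁻¹ * y⁻¹ * ((p * v * p⁻¹) * (p * zl' * p⁻¹)) * y * p := by rw [hy']; group
    _ = p⁻¹ * y⁻¹ * (w * zs) * y * p := by rw [e1, ← hwdef, hab]
    _ = p⁻¹ * y⁻¹ * (y * w * y⁻¹) * y * p := by rw [hy]
    _ = p⁻¹ * w * p := by group
    _ = zl' := by rw [hwdef]; group

/-- `Full S`: `Y = G`. -/
theorem eq_top_ffour (hE : LemE.{u}) (hc : IsCharacteristicTwoType G) {S₀ Y Cs Cl Xs Xl Qs Ql Us Ul : Subgroup G}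
    (D : FFourDat (S : Subgroup G) S₀ Y Cs Cl Xs Xl Qs Ql Us Ul) (hAll : AllIn (S : Subgroup G))
    (hF : Full (S : Subgroup G)) : Y = ⊤ :=
  eq_top_of_par S hF (D.norm_S_le_Y hc) fun _ hP => par_le_ffour hE hc D hAll hP

end Cfsg.Agent.Omega.All.HOne

end
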