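import Cfsg.Agent.Mrg.Omega.FFMutual
import Cfsg.Agent.Mrg.Omega.BTwo.Conj
import Cfsg.Agent.Mrg.Omega.VP


/-!
# The action of `P ∈ P*(S)` on `V / D`, `V = V_P`, `D = C_V(O²(P))`

No coordinates.  `Triv S P g` : `g ∈ P` centralises `V / D`.

* `comm_of_sec` : an element of `S` which centralises `V / D` centralises `V`;
* `comm_of_both` : an element of `P` which centralises `V / D` and `D` centralises `V`;
* `fix_of_cube` : `g` centralises `D`, `g³` centralises `V / D`, `g` fixes `x D`: then `g` fixes `x`;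
* `fix_of_comm` : `a`, `g` centralise `D` and commute on `V / D`, `a` fixes `v D`: then `a` fixes `[g, v]`.
-/

set_option autoImplicit false

namespace Cfsg.Agent.Omega.All.HOne

open Subgroup Cfsg Cfsg.Agent.ZN Cfsg.Agent.Omega.MinPar Cfsg.Agent.Omega.FrameFF
open Cfsg.Agent.MinSimple.VModule (oddGen oddGen_le mem_oddGen oddGen_le_of_sup zc_le_zl le_normalizer_zl
  le_normalizer_oddGen mem_zc zc_sq zc_comm oddGen_def)
open Cfsg.Agent.Omega.NoFF.LinesPlug (oddGen_sup)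

universe u

variable {G : Type u} [Group G] {S P : Subgroup G}

theorem conjZ {g v : G} (hg : g ∈ P) (hv : v ∈ zl S P) : g * v * g⁻¹ ∈ zl S P :=
  (mem_normalizer_iff.1 (le_normalizer_zl S P hg) v).1 hv

theorem conjD {g v : G} (hg : g ∈ P) (hv : v ∈ cv S P) : g * v * g⁻¹ ∈ cv S P := by
  have h1 : P ≤ normalizer (cv S P : Set G) := by
    refine le_trans (le_inf (le_normalizer_zl S P)
      ((le_normalizer_oddGen P).trans (BTwo.normalizer_le_normalizer_centralizer _))) ?_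
    exact inf_normalizer_le_normalizer_inf
  exact (mem_normalizer_iff.1 (h1 hg) v).1 hv

/-- the elements of `P` which centralise `V / D` -/
def Ker (S P : Subgroup G) : Subgroup G where
  carrier := {g | g ∈ P ∧ ∀ v ∈ zl S P, g * v * g⁻¹ * v⁻¹ ∈ cv S P}
  mul_mem' := by
    rintro a b ⟨ha, ha'⟩ ⟨hb, hb'⟩
    refine ⟨mul_mem ha hb, fun v hv => ?_⟩
    have h1 := ha' _ (conjZ hb hv)
    have e : a * b * v * (a * b)⁻¹ * v⁻¹ = (a * (b * v * b⁻¹) * a⁻¹ * (b * v * b⁻¹)⁻¹) * (b * v * b⁻¹ * v⁻¹) := by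
      group
    rw [e]
    exact mul_mem h1 (hb' v hv)
  one_mem' := ⟨one_mem _, fun v _ => by simp⟩
  inv_mem' := by
    rintro a ⟨ha, ha'⟩
    refine ⟨inv_mem ha, fun v hv => ?_⟩
    have h1 := ha' _ (conjZ (inv_mem ha) hv)
    have e : a⁻¹ * v * a⁻¹⁻¹ * v⁻¹ = (a * (a⁻¹ * v * a⁻¹⁻¹) * a⁻¹ * (a⁻¹ * v * a⁻¹⁻¹)⁻¹)⁻¹ := by group
    rw [e]
    exact inv_mem h1

theorem mem_Ker {g : G} : g ∈ Ker S P ↔ g ∈ P ∧ ∀ v ∈ zl S P, g * v * g⁻¹ * v⁻¹ ∈ cv S P := Iff.rfl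

theorem Ker_le : Ker S P ≤ P := fun _ h => h.1

theorem Ker_conj {g x : G} (hg : g ∈ P) (hx : x ∈ Ker S P) : g * x * g⁻¹ ∈ Ker S P := by
  refine ⟨mul_mem (mul_mem hg hx.1) (inv_mem hg), fun v hv => ?_⟩
  have h1 := conjZ (inv_mem hg) hv
  have h2 := conjD hg (hx.2 _ h1)
  have e : g * x * g⁻¹ * v * (g * x * g⁻¹)⁻¹ * v⁻¹ =
      g * (x * (g⁻¹ * v * g⁻¹⁻¹) * x⁻¹ * (g⁻¹ * v * g⁻¹⁻¹)⁻¹) * g⁻¹ := by group
  rw [e]
  exact h2

theorem Ker_norm : P ≤ normalizer (Ker S P : Set G) := by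
  intro g hg
  rw [mem_normalizer_iff]
  intro x
  refine ⟨Ker_conj hg, fun h => ?_⟩
  have h1 := Ker_conj (inv_mem hg) h
  have e : g⁻¹ * (g * x * g⁻¹) * g⁻¹⁻¹ = x := by group
  rwa [e] at h1

section par

variable [Finite G] (hG : IsCharacteristicTwoType G) (S : Sylow 2 G) {P : Subgroup G}
  (h : IsParS (S : Subgroup G) P)

include hG h

theorem zl_sq' {v : G} (hv : v ∈ zl (S : Subgroup G) P) : v * v = 1 := by
  have := zc_sq _ _ (h.isLoc.zl_le S hG hv)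
  rwa [pow_two] at this

theorem zl_comm' {v w : G} (hv : v ∈ zl (S : Subgroup G) P) (hw : w ∈ zl (S : Subgroup G) P) :
    v * w = w * v :=
  zc_comm _ _ (h.isLoc.zl_le S hG hv) _ (h.isLoc.zl_le S hG hw)

omit [Finite G] hG h in
/-- the square of an element which centralises its commutators with `V` -/
theorem sq_comm {S P : Subgroup G} {k : G} (hsq : ∀ v ∈ zl S P, v * v = 1)
    (hk : ∀ v ∈ zl S P, k * v * k⁻¹ * v⁻¹ ∈ zl S P ∧
      k * (k * v * k⁻¹ * v⁻¹) = (k * v * k⁻¹ * v⁻¹) * k) :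
    k ^ 2 ∈ centralizer (zl S P : Set G) := by
  rw [mem_centralizer_iff]
  intro v hv
  obtain ⟨h2, h3⟩ := hk v hv
  have h4 : k ^ 2 * v * (k ^ 2)⁻¹ = v := by
    calc k ^ 2 * v * (k ^ 2)⁻¹ = k * (k * v * k⁻¹ * v⁻¹) * v * k⁻¹ := by rw [pow_two]; group
      _ = (k * v * k⁻¹ * v⁻¹) * (k * v * k⁻¹ * v⁻¹) * v := by rw [h3]; group
      _ = v := by rw [hsq _ h2, one_mul]
  rw [mul_inv_eq_iff_eq_mul] at h4
  exact h4.symm

/-- `S ∩ C_P(V / D) ≤ C(V)` -/
theorem comm_of_sec {a : G} (ha : a ∈ (S : Subgroup G))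
    (hc : ∀ v ∈ zl (S : Subgroup G) P, a * v * a⁻¹ * v⁻¹ ∈ cv (S : Subgroup G) P) :
    ∀ v ∈ zl (S : Subgroup G) P, a * v = v * a := by
  have hSyl := MinSimple.Basic.not_dvd_relIndex S h.le
  have h1 : (S : Subgroup G) ⊓ Ker (S : Subgroup G) P ≤ o2 P := by
    rcases h.toIsPar.sup_eq_or_inf_le S (Ker_le (S := (S : Subgroup G)) (P := P)) Ker_norm with h2 | h2
    · exfalso
      have h3 : oddGen P ≤ Ker (S : Subgroup G) P :=
        oddGen_le_of_sup Ker_norm h2.symm.le h.le Ker_le S.isPGroup'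
      -- `O²(P)` centralises `V`
      have h4 : oddGen P ≤ centralizer (zl (S : Subgroup G) P : Set G) := by
        rw [oddGen_def, closure_le]
        rintro x ⟨hx, ho⟩
        have hxo := mem_oddGen hx ho
        have h5 : x ^ 2 ∈ centralizer (zl (S : Subgroup G) P : Set G) := by
          apply sq_comm (fun v hv => zl_sq' hG S h hv)
          intro v hv
          have h6 := (h3 hxo).2 v hv
          exact ⟨h6.1, mem_centralizer_iff.1 h6.2 x hxo⟩
        obtain ⟨j, hj⟩ := ho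
        have h6 : x = ((x ^ 2) ^ j)⁻¹ := by
          rw [eq_inv_iff_mul_eq_one, ← pow_mul, ← pow_succ', ← hj, pow_orderOf_eq_one]
        rw [SetLike.mem_coe, h6]
        exact inv_mem (pow_mem h5 j)
      apply h.not_zc
      have h5 : P ≤ centralizer (zc (S : Subgroup G) : Set G) := by
        conv_lhs => rw [← oddGen_sup h.le hSyl]
        refine sup_le (h4.trans (centralizer_le (zc_le_zl _ _))) ?_
        intro s hs
        rw [mem_centralizer_iff]
        exact fun z hz => ((mem_zc.1 hz).2.1 s hs).symm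
      exact h5.trans (centralizer_le_normalizer _)
    · exact h2
  have h2 : a ∈ o2 P := h1 ⟨ha, h.le ha, hc⟩
  rw [← IsParS.inf_centralizer S hG h] at h2
  intro v hv
  exact (mem_centralizer_iff.1 h2.2 v hv).symm

/-- a 2-element of `P` which centralises `V / D` centralises `V` -/
theorem comm_of_sec_two {u : G} (hu2 : ∃ a : ℕ, u ^ 2 ^ a = 1) (hk : u ∈ Ker (S : Subgroup G) P) :
    ∀ v ∈ zl (S : Subgroup G) P, u * v = v * u := by
  obtain ⟨a, ha⟩ := hu2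
  have hz : IsPGroup 2 (zpowers u) := by
    rintro ⟨x, n, rfl⟩
    refine ⟨a, Subtype.ext ?_⟩
    change (u ^ n) ^ 2 ^ a = 1
    rw [← zpow_natCast, ← zpow_mul, mul_comm, zpow_mul, zpow_natCast, ha, one_zpow]
  obtain ⟨p, hp, h1⟩ := FFThm.exists_conj_le S h.le hz (zpowers_le.2 hk.1)
  have h2 : p * u * p⁻¹ ∈ (S : Subgroup G) := h1 ⟨u, mem_zpowers u, rfl⟩
  have h3 : p * u * p⁻¹ ∈ Ker (S : Subgroup G) P := Ker_conj hp hk
  have h4 := comm_of_sec hG S h h2 h3.2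
  intro v hv
  have h5 := h4 _ (conjZ hp hv)
  have e : u * v = p⁻¹ * (p * u * p⁻¹ * (p * v * p⁻¹)) * p := by group
  rw [e, h5]
  group

/-- **an element of `P` which centralises `V / D` and `D` centralises `V`** -/
theorem comm_of_both {k : G} (hk : k ∈ Ker (S : Subgroup G) P)
    (hkD : ∀ d ∈ cv (S : Subgroup G) P, k * d = d * k) :
    ∀ v ∈ zl (S : Subgroup G) P, k * v = v * k := by
  have hsq : k ^ 2 ∈ centralizer (zl (S : Subgroup G) P : Set G) := by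
    apply sq_comm (fun v hv => zl_sq' hG S h hv)
    intro v hv
    have h6 := hk.2 v hv
    exact ⟨h6.1, hkD _ h6⟩
  obtain ⟨a, m, hm, ha⟩ := Nat.exists_eq_pow_mul_and_not_dvd (orderOf_pos k).ne' 2 (by norm_num)
  have hkm : k ^ m ∈ centralizer (zl (S : Subgroup G) P : Set G) := by
    rw [mem_centralizer_iff]
    intro v hv
    refine (comm_of_sec_two hG S h ⟨a, ?_⟩ (pow_mem hk m) v hv).symm
    rw [← pow_mul, mul_comm, ← ha, pow_orderOf_eq_one]
  have hodd : Odd m := Nat.not_even_iff_odd.1 fun h => hm h.two_dvd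
  obtain ⟨j, hj⟩ := hodd
  have h2 : k = k ^ m * ((k ^ 2) ^ j)⁻¹ := by
    rw [hj, pow_succ', ← pow_mul, mul_inv_cancel_right]
  have h3 : k ∈ centralizer (zl (S : Subgroup G) P : Set G) := by
    rw [h2]
    exact mul_mem hkm (inv_mem (pow_mem hsq j))
  intro v hv
  exact (mem_centralizer_iff.1 h3 v hv).symm

/-- an element `g` which centralises `D`, with `g³` trivial on `V / D`, and fixes `x D`, fixes `x` -/
theorem fix_of_cube {g x : G} (hgD : ∀ d ∈ cv (S : Subgroup G) P, g * d = d * g)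
    (h3 : g ^ 3 ∈ Ker (S : Subgroup G) P) (hx : x ∈ zl (S : Subgroup G) P)
    (hfix : g * x * g⁻¹ * x⁻¹ ∈ cv (S : Subgroup G) P) : g * x = x * g := by
  have h3D : ∀ d ∈ cv (S : Subgroup G) P, g ^ 3 * d = d * g ^ 3 := fun d hd =>
    ((show Commute g d from hgD d hd).pow_left 3)
  have h4 := comm_of_both hG S h h3 h3D x hx
  set d := g * x * g⁻¹ * x⁻¹ with hd
  have e1 : g * x * g⁻¹ = d * x := by rw [hd]; group
  have hgd : g * d * g⁻¹ = d := by rw [hgD d hfix]; group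
  have e2 : g ^ 3 * x * (g ^ 3)⁻¹ = d * (d * (d * x)) := by
    calc g ^ 3 * x * (g ^ 3)⁻¹ = g * (g * (g * x * g⁻¹) * g⁻¹) * g⁻¹ := by
          rw [pow_succ, pow_two]; group
      _ = g * (g * (d * x) * g⁻¹) * g⁻¹ := by rw [e1]
      _ = g * ((g * d * g⁻¹) * (g * x * g⁻¹)) * g⁻¹ := by group
      _ = g * (d * (d * x)) * g⁻¹ := by rw [hgd, e1]
      _ = (g * d * g⁻¹) * ((g * d * g⁻¹) * (g * x * g⁻¹)) := by group
      _ = d * (d * (d * x)) := by rw [hgd, e1]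
  have e3 : g ^ 3 * x * (g ^ 3)⁻¹ = x := by rw [h4]; group
  have hdd : d * d = 1 := zl_sq' hG S h hfix.1
  have e4 : d * x = x := by
    rw [e3] at e2
    calc d * x = (d * d) * (d * x) := by rw [hdd, one_mul]
      _ = d * (d * (d * x)) := by group
      _ = x := e2.symm
  rw [e4] at e1
  calc g * x = (g * x * g⁻¹) * g := by group
    _ = x * g := by rw [e1]

/-- `a`, `g` centralise `D` and commute on `V / D`, `a` fixes `v D`: then `a` fixes `[g, v]` -/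
theorem fix_of_comm {a g v : G} (hg : g ∈ P)
    (haD : ∀ d ∈ cv (S : Subgroup G) P, a * d = d * a) (hgD : ∀ d ∈ cv (S : Subgroup G) P, g * d = d * g)
    (hk : a * g * a⁻¹ * g⁻¹ ∈ Ker (S : Subgroup G) P) (hv : v ∈ zl (S : Subgroup G) P)
    (hfix : a * v * a⁻¹ * v⁻¹ ∈ cv (S : Subgroup G) P) :
    a * (g * v * g⁻¹ * v⁻¹) = (g * v * g⁻¹ * v⁻¹) * a := by
  have hcD : ∀ d ∈ cv (S : Subgroup G) P, (a * g * a⁻¹ * g⁻¹) * d = d * (a * g * a⁻¹ * g⁻¹) := by
    intro d hd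
    have ca : Commute a d := haD d hd
    have cg : Commute g d := hgD d hd
    exact ((ca.mul_left cg).mul_left ca.inv_left).mul_left cg.inv_left
  have hc := comm_of_both hG S h hk hcD
  set c := a * g * a⁻¹ * g⁻¹ with hcdef
  set d := a * v * a⁻¹ * v⁻¹ with hddef
  have e1 : a * v * a⁻¹ = d * v := by rw [hddef]; group
  have e2 : a * g * a⁻¹ = c * g := by rw [hcdef]; group
  have hgv : g * v * g⁻¹ ∈ zl (S : Subgroup G) P := conjZ hg hv
  have hdg : d * g = g * d := (hgD d hfix).symm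
  have e3 : a * (g * v * g⁻¹ * v⁻¹) * a⁻¹ = g * v * g⁻¹ * v⁻¹ := by
    calc a * (g * v * g⁻¹ * v⁻¹) * a⁻¹ = (a * g * a⁻¹) * (a * v * a⁻¹) * (a * g * a⁻¹)⁻¹ * (a * v * a⁻¹)⁻¹ := by
          group
      _ = (c * g) * (d * v) * (c * g)⁻¹ * (d * v)⁻¹ := by rw [e1, e2]
      _ = c * (g * d * v * g⁻¹) * c⁻¹ * v⁻¹ * d⁻¹ := by group
      _ = c * (d * (g * v * g⁻¹)) * c⁻¹ * v⁻¹ * d⁻¹ := by rw [← hdg]; group
      _ = (d * (g * v * g⁻¹)) * v⁻¹ * d⁻¹ := by rw [hc _ (mul_mem hfix.1 hgv)]; group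
      _ = d * ((g * v * g⁻¹) * v⁻¹) * d⁻¹ := by group
      _ = ((g * v * g⁻¹) * v⁻¹) * d * d⁻¹ := by rw [zl_comm' hG S h hfix.1 (mul_mem hgv (inv_mem hv))]
      _ = g * v * g⁻¹ * v⁻¹ := by group
  calc a * (g * v * g⁻¹ * v⁻¹) = (a * (g * v * g⁻¹ * v⁻¹) * a⁻¹) * a := by group
    _ = (g * v * g⁻¹ * v⁻¹) * a := by rw [e3]

end par

end Cfsg.Agent.Omega.All.HOne
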