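import Cfsg.Agent.Mrg.Omega.All.HOneKer
import Cfsg.Agent.Mrg.Omega.All.Basic
import Cfsg.Agent.Mrg.Omega.Half.Basic

section


/-!
# LEMMA E (OMEGA #14479), natural modules: `Y` contains `P`

`M : NatK F S P V D k`, `V = V_P`, `D = C_V(O²(P))`.

* `nat_full` : `x ∈ V`, `C_P(x) ≤ Y`, `S ≤ Y`, `P` not in `Y`: all coordinates of `x` are `≠ 0`.
-/

set_option autoImplicit false

namespace Cfsg.Agent.Omega.All.HOne

open Subgroup Cfsg Cfsg.Agent.ZN Cfsg.Agent.Omega.MinPar Cfsg.Agent.Omega.FrameFF Cfsg.Agent.Omega.FFThm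
open Cfsg.Agent.Lib.SL2Mat Cfsg.Agent.Omega.NatPair

universe u

/-! ### Matrices -/

section mat

variable {F : Type} [Field F]

theorem ap_zero_vec (A : Matrix.SpecialLinearGroup (Fin 2) F) : ap A 0 = 0 := by
  have h := ap_add A 0 0
  rw [add_zero] at h
  exact left_eq_add.1 h

theorem ap_up_0 (b : F) (x : Fin 2 → F) : ap (up b) x 0 = x 0 + b * x 1 := by
  rw [ap_zero', up_00, up_01, one_mul]

theorem ap_up_1 (b : F) (x : Fin 2 → F) : ap (up b) x 1 = x 1 := by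
  rw [ap_one', up_10, up_11, zero_mul, one_mul, zero_add]

variable [CharP F 2]

theorem one_one : (1 : F) + 1 = 0 := CharTwo.add_self_eq_zero 1

variable (F) in
/-- an element of order three -/
def th : Matrix.SpecialLinearGroup (Fin 2) F :=
  mk 0 1 1 1 (by linear_combination -(one_one (F := F)))

theorem th_cube : th F * th F * th F = 1 := by
  have h2 := one_one (F := F)
  refine ext_ent ?_ ?_ ?_ ?_ <;> (simp only [ent_mul]; simp only [th, mk_00, mk_01, mk_10, mk_11])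
  · simp
  · rw [ent_one_01]; linear_combination h2
  · rw [ent_one_10]; linear_combination h2
  · rw [ent_one_11]; linear_combination h2

theorem lo_th (b : F) : lo b * th F = th F * up b := by
  refine ext_ent ?_ ?_ ?_ ?_ <;> (simp only [ent_mul]; simp [th])

theorem ap_th_0 (x : Fin 2 → F) : ap (th F) x 0 = x 1 := by
  rw [ap_zero']; simp [th]

theorem ap_th_1 (x : Fin 2 → F) : ap (th F) x 1 = x 0 + x 1 := by
  rw [ap_one']; simp [th]

/-- a subgroup which contains the upper unitriangular matrices and `th` -/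
theorem eq_top_of_th {A : Subgroup (Matrix.SpecialLinearGroup (Fin 2) F)} (hu : ∀ b, up b ∈ A) (ht : th F ∈ A) :
    A = ⊤ := by
  have hl : ∀ b, lo b ∈ A := fun b => by
    have h1 : lo b = th F * up b * (th F)⁻¹ := by rw [← lo_th, mul_inv_cancel_right]
    rw [h1]
    exact mul_mem (mul_mem ht (hu b)) (inv_mem ht)
  have h1 : ∀ x : Matrix.SpecialLinearGroup (Fin 2) F, ent x 1 0 ≠ 0 → x ∈ A := fun x hx => by
    rw [eq_up_lo_up x hx]
    exact mul_mem (mul_mem (hu _) (hl _)) (hu _)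
  rw [eq_top_iff]
  intro x _
  by_cases hx : ent x 1 0 = 0
  · have h2 : x * lo 1 ∈ A := by
      apply h1
      rw [ent_mul, lo_00, lo_10, hx, zero_mul, zero_add, mul_one]
      intro h3
      have h4 := det_eq x
      rw [hx, h3, mul_zero, mul_zero, sub_zero] at h4
      exact zero_ne_one h4
    have h3 := mul_mem h2 (inv_mem (hl 1))
    rwa [mul_inv_cancel_right] at h3
  · exact h1 x hx

end mat

/-! ### Families with one entry -/

section sg

variable {k : ℕ} {α : Type*} [Group α]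

/-- the family with entry `A` at `i` -/
def sg (i : Fin k) (A : α) : Fin k → α := Function.update 1 i A

theorem sg_self (i : Fin k) (A : α) : sg i A i = A := Function.update_self _ _ _

theorem sg_ne {i l : Fin k} (hl : l ≠ i) (A : α) : sg i A l = 1 := by
  rw [sg, Function.update_of_ne hl]; rfl

theorem sg_mul (i : Fin k) (A B : α) : sg i (A * B) = sg i A * sg i B := by
  funext l
  rw [Pi.mul_apply]
  by_cases hl : l = i
  · rw [hl, sg_self, sg_self, sg_self]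
  · rw [sg_ne hl, sg_ne hl, sg_ne hl, one_mul]

theorem sg_inv (i : Fin k) (A : α) : sg i A⁻¹ = (sg i A)⁻¹ := by
  funext l
  rw [Pi.inv_apply]
  by_cases hl : l = i
  · rw [hl, sg_self, sg_self]
  · rw [sg_ne hl, sg_ne hl, inv_one]

theorem sg_one (i : Fin k) : sg i (1 : α) = 1 := by
  funext l
  by_cases hl : l = i
  · rw [hl, sg_self]; rfl
  · rw [sg_ne hl]; rfl

theorem eq_sg {i : Fin k} {A : Fin k → α} (h : ∀ l, l ≠ i → A l = 1) : A = sg i (A i) := by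
  funext l
  by_cases hl : l = i
  · rw [hl, sg_self]
  · rw [sg_ne hl, h l hl]

/-- induction: all families are products of families with one entry -/
theorem sg_induction {p : (Fin k → α) → Prop} (h1 : p 1) (hm : ∀ A B, p A → p B → p (A * B))
    (hs : ∀ i A, p (sg i A)) (A : Fin k → α) : p A := by
  have key : ∀ s : Finset (Fin k), ∀ A : Fin k → α, (∀ l, l ∉ s → A l = 1) → p A := by
    intro s
    induction s using Finset.induction_on with
    | empty =>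
      intro A hA
      have : A = 1 := funext fun l => hA l (Finset.notMem_empty l)
      rw [this]
      exact h1
    | insert j s hj ih =>
      intro A hA
      have h1 : A = sg j (A j) * Function.update A j 1 := by
        funext l
        rw [Pi.mul_apply]
        by_cases hl : l = j
        · rw [hl, sg_self, Function.update_self, mul_one]
        · rw [sg_ne hl, Function.update_of_ne hl, one_mul]
      rw [h1]
      apply hm _ _ (hs j (A j))
      apply ih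
      intro l hl
      by_cases hlj : l = j
      · rw [hlj, Function.update_self]
      · rw [Function.update_of_ne hlj]
        apply hA
        rw [Finset.mem_insert]
        rintro (h2 | h2)
        · exact hlj h2
        · exact hl h2
  exact key Finset.univ A fun l hl => absurd (Finset.mem_univ l) hl

end sg

/-! ### The coordinates -/

section co

variable {G : Type u} [Group G] {F : Type} [Field F] {S P : Subgroup G} {k : ℕ}
  (M : NatK F S P (zl S P) (cv S P) k)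

theorem nat_one : M.e 1 = 0 := by
  have h := M.mul 1 (one_mem _) 1 (one_mem _)
  rw [one_mul] at h
  exact left_eq_add.1 h

theorem nat_inv {v : G} (hv : v ∈ zl S P) : M.e v⁻¹ = -M.e v := by
  have h := M.mul v hv v⁻¹ (inv_mem hv)
  rw [mul_inv_cancel, nat_one] at h
  exact (neg_eq_of_add_eq_zero_right h.symm).symm

theorem nat_div {v w : G} (hv : v ∈ zl S P) (hw : w ∈ zl S P) : M.e (v * w⁻¹) = M.e v - M.e w := by
  rw [M.mul v hv _ (inv_mem hw), nat_inv M hw, sub_eq_add_neg]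

theorem nat_mem {v w : G} (hv : v ∈ zl S P) (hw : w ∈ zl S P) : v * w⁻¹ ∈ cv S P ↔ M.e v = M.e w := by
  rw [← M.ker _ (mul_mem hv (inv_mem hw)), nat_div M hv hw, sub_eq_zero]

/-- an element of `V` with one nonzero coordinate -/
theorem nat_single (i : Fin k) (x : Fin 2 → F) :
    ∃ v ∈ zl S P, M.e v i = x ∧ ∀ l, l ≠ i → M.e v l = 0 := by
  obtain ⟨v, hv, hx⟩ := M.surj (Function.update (0 : Fin k → Fin 2 → F) i x)
  refine ⟨v, hv, by rw [hx, Function.update_self], fun l hl => ?_⟩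
  rw [hx, Function.update_of_ne hl]
  rfl

theorem acts_mul {g h : G} {A B : Fin k → Matrix.SpecialLinearGroup (Fin 2) F} (hh : h ∈ P)
    (hA : ActsSL M.e (zl S P) (cv S P) g A) (hB : ActsSL M.e (zl S P) (cv S P) h B) :
    ActsSL M.e (zl S P) (cv S P) (g * h) (A * B) := by
  refine ⟨fun v hv i => ?_, fun d hd => ?_⟩
  · have e1 : g * h * v * (g * h)⁻¹ = g * (h * v * h⁻¹) * g⁻¹ := by group
    rw [e1, hA.1 _ (conjZ hh hv), hB.1 v hv, Pi.mul_apply, ap_mul]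
  · exact (show Commute g d from hA.2 d hd).mul_left (hB.2 d hd)

theorem acts_inv {g : G} {A : Fin k → Matrix.SpecialLinearGroup (Fin 2) F} (hg : g ∈ P)
    (hA : ActsSL M.e (zl S P) (cv S P) g A) : ActsSL M.e (zl S P) (cv S P) g⁻¹ A⁻¹ := by
  refine ⟨fun v hv i => ?_, fun d hd => ?_⟩
  · have h1 := hA.1 _ (conjZ (inv_mem hg) hv) i
    have e1 : g * (g⁻¹ * v * g⁻¹⁻¹) * g⁻¹ = v := by group
    rw [e1] at h1
    rw [h1, Pi.inv_apply, ap_inv_ap]
  · exact (show Commute g d from hA.2 d hd).inv_left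

theorem acts_ker {g : G} (hg : g ∈ P) (hA : ActsSL M.e (zl S P) (cv S P) g 1) : g ∈ Ker S P := by
  refine ⟨hg, fun v hv => ?_⟩
  rw [nat_mem M (conjZ hg hv) hv]
  funext i
  rw [hA.1 v hv i, Pi.one_apply, ap_one]

end co

/-! ### `Y` -/

section full

variable {G : Type u} [Group G] [Finite G] (hG : IsCharacteristicTwoType G) (S : Sylow 2 G) {P Y : Subgroup G}
  (h : IsParS (S : Subgroup G) P) {F : Type} [Field F] {k : ℕ}
  (M : NatK F (S : Subgroup G) P (zl (S : Subgroup G) P) (cv (S : Subgroup G) P) k)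
  (hSY : (S : Subgroup G) ≤ Y) {x : G} (hx : x ∈ zl (S : Subgroup G) P)
  (hC : ∀ g ∈ P, g * x = x * g → g ∈ Y)

/-- all elements of `P` which induce `A` lie in `Y` -/
def Ind (A : Fin k → Matrix.SpecialLinearGroup (Fin 2) F) (Y : Subgroup G) : Prop :=
  ∀ g ∈ P, ActsSL M.e (zl (S : Subgroup G) P) (cv (S : Subgroup G) P) g A → g ∈ Y

include hG h hx hC in
theorem ind_one : Ind S M 1 Y := fun g hg hA =>
  hC g hg (comm_of_both hG S h (acts_ker M hg hA) hA.2 x hx)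

include hG h hx hC in
theorem ind_of {g : G} {A : Fin k → Matrix.SpecialLinearGroup (Fin 2) F} (hg : g ∈ P) (hgY : g ∈ Y)
    (hA : ActsSL M.e (zl (S : Subgroup G) P) (cv (S : Subgroup G) P) g A) : Ind S M A Y := by
  intro g' hg' hA'
  have h1 := acts_mul M (inv_mem hg) hA' (acts_inv M hg hA)
  rw [mul_inv_cancel] at h1
  have h2 := ind_one hG S h M hx hC _ (mul_mem hg' (inv_mem hg)) h1
  have h3 := mul_mem h2 hgY
  rwa [inv_mul_cancel_right] at h3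

include hG h hx hC in
theorem ind_mul {A B : Fin k → Matrix.SpecialLinearGroup (Fin 2) F} (hA : Ind S M A Y) (hB : Ind S M B Y) :
    Ind S M (A * B) Y := by
  obtain ⟨a, ha, haA⟩ := M.lift A
  obtain ⟨b, hb, hbB⟩ := M.lift B
  exact ind_of hG S h M hx hC (mul_mem ha hb) (mul_mem (hA a ha haA) (hB b hb hbB)) (acts_mul M hb haA hbB)

include hG h hx hC in
theorem ind_inv {A : Fin k → Matrix.SpecialLinearGroup (Fin 2) F} (hA : Ind S M A Y) :
    Ind S M A⁻¹ Y := by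
  obtain ⟨a, ha, haA⟩ := M.lift A
  exact ind_of hG S h M hx hC (inv_mem ha) (inv_mem (hA a ha haA)) (acts_inv M ha haA)

include hG h hSY hx hC in
/-- `x` has coordinate 0 at `i`: the factor `i` lies in `Y` -/
theorem ind_single [CharP F 2] {i : Fin k} (hi : M.e x i = 0) (A : Matrix.SpecialLinearGroup (Fin 2) F) :
    Ind S M (sg i A) Y := by
  let 𝒜 : Subgroup (Matrix.SpecialLinearGroup (Fin 2) F) :=
    { carrier := {A | Ind S M (sg i A) Y}
      mul_mem' := by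
        intro A B hA hB
        rw [Set.mem_ofPred_eq, sg_mul]
        exact ind_mul hG S h M hx hC hA hB
      one_mem' := by
        rw [Set.mem_ofPred_eq, sg_one]
        exact ind_one hG S h M hx hC
      inv_mem' := by
        intro A hA
        rw [Set.mem_ofPred_eq, sg_inv]
        exact ind_inv hG S h M hx hC hA }
  have htop : 𝒜 = ⊤ := by
    apply eq_top_of_th
    · intro b
      obtain ⟨t, ht, htb⟩ := M.unip (Function.update 0 i b)
      have h1 : (fun l => up (Function.update (0 : Fin k → F) i b l)) = sg i (up b) := by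
        funext l
        by_cases hl : l = i
        · rw [hl, Function.update_self, sg_self]
        · rw [Function.update_of_ne hl, sg_ne hl, Pi.zero_apply, up_zero]
      rw [h1] at htb
      exact ind_of hG S h M hx hC (h.le ht) (hSY ht) htb
    · intro g hg hA
      apply hC g hg
      apply fix_of_cube hG S h hA.2 _ hx
      · rw [nat_mem M (conjZ hg hx) hx]
        funext l
        rw [hA.1 x hx l]
        by_cases hl : l = i
        · rw [hl, hi, ap_zero_vec]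
        · rw [sg_ne hl, ap_one]
      · have h2 := acts_mul M hg (acts_mul M hg hA hA) hA
        rw [← sg_mul, ← sg_mul, th_cube, sg_one] at h2
        have h3 : g ^ 3 = g * g * g := by rw [pow_succ, pow_two]
        rw [h3]
        exact acts_ker M (mul_mem (mul_mem hg hg) hg) h2
  have h1 : A ∈ 𝒜 := by rw [htop]; trivial
  exact h1

include h in
/-- the transfer to the other factors by `S` -/
theorem ind_transfer (hSY : (S : Subgroup G) ≤ Y) {i : Fin k}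
    (hi : ∀ A : Matrix.SpecialLinearGroup (Fin 2) F, Ind S M (sg i A) Y) (j : Fin k)
    (B : Matrix.SpecialLinearGroup (Fin 2) F) : Ind S M (sg j B) Y := by
  obtain ⟨t, ht, htij⟩ := M.trans i j
  have htP := h.le ht
  obtain ⟨σ, hσ⟩ := M.perm t htP
  have hσi : σ i = j := by
    by_contra hne
    have hne' : σ.symm j ≠ i := fun h1 => hne (by rw [← h1, σ.apply_symm_apply])
    obtain ⟨w, hw, hw1, hw2⟩ := nat_single M (σ.symm j) ![1, 0]
    have h1 := hσ w hw (σ.symm j)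
    rw [σ.apply_symm_apply, htij w hw] at h1
    have h2 := h1.1 (hw2 i fun h3 => hne' h3.symm)
    rw [hw1] at h2
    exact one_ne_zero (congrFun h2 0)
  intro g hg hB
  have hg' : t⁻¹ * g * t⁻¹⁻¹ ∈ P := mul_mem (mul_mem (inv_mem htP) hg) (inv_mem (inv_mem htP))
  obtain ⟨C, hC⟩ := M.norm t⁻¹ (inv_mem htP) g hg _ hB.1
  have hCi : C = sg i (C i) := by
    apply eq_sg
    intro l hl
    apply ap_inj
    intro y
    rw [ap_one]
    obtain ⟨v, hv, hvl, -⟩ := nat_single M l y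
    have h1 := hC v hv l
    rw [hvl] at h1
    rw [← h1]
    -- `[g', v]` has coordinate 0 at `l`
    have hvg := conjZ hg' hv
    have h2 : M.e (t⁻¹ * g * t⁻¹⁻¹ * v * (t⁻¹ * g * t⁻¹⁻¹)⁻¹ * v⁻¹) l = 0 := by
      rw [← hσ _ (mul_mem hvg (inv_mem hv)) l]
      have e1 : t * (t⁻¹ * g * t⁻¹⁻¹ * v * (t⁻¹ * g * t⁻¹⁻¹)⁻¹ * v⁻¹) * t⁻¹ =
        g * (t * v * t⁻¹) * g⁻¹ * (t * v * t⁻¹)⁻¹ := by group
      have htv := conjZ htP hv
      rw [e1, nat_div M (conjZ hg htv) htv, Pi.sub_apply, hB.1 _ htv, sg_ne, ap_one, sub_self]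
      intro h3
      exact hl (σ.injective (h3.trans hσi.symm))
    rw [nat_div M hvg hv, Pi.sub_apply, sub_eq_zero, hvl] at h2
    exact h2
  have hact : ActsSL M.e (zl (S : Subgroup G) P) (cv (S : Subgroup G) P) (t⁻¹ * g * t⁻¹⁻¹)
      (sg i (C i)) := by
    rw [← hCi]
    refine ⟨hC, fun d hd => ?_⟩
    have h1 := hB.2 _ (conjD htP hd)
    calc t⁻¹ * g * t⁻¹⁻¹ * d = t⁻¹ * (g * (t * d * t⁻¹)) * t := by group
      _ = d * (t⁻¹ * g * t⁻¹⁻¹) := by rw [h1]; group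
  have h2 := hi (C i) _ hg' hact
  have h3 := mul_mem (mul_mem (hSY ht) h2) (inv_mem (hSY ht))
  have e : t * (t⁻¹ * g * t⁻¹⁻¹) * t⁻¹ = g := by group
  rwa [e] at h3

include hG h hx hC in
/-- from the factors to the product -/
theorem ind_all (hi : ∀ i, ∀ A : Matrix.SpecialLinearGroup (Fin 2) F, Ind S M (sg i A) Y)
    (A : Fin k → Matrix.SpecialLinearGroup (Fin 2) F) : Ind S M A Y :=
  sg_induction (p := fun A => Ind S M A Y) (ind_one hG S h M hx hC) (fun _ _ => ind_mul hG S h M hx hC) hi A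

include hG h hSY hx hC in
/-- **all coordinates of `x` are `≠ 0`** -/
theorem nat_full [CharP F 2] (hPY : ¬ P ≤ Y) (i : Fin k) : M.e x i ≠ 0 := by
  intro hi
  apply hPY
  apply M.gen Y hSY
  intro g hg A hA
  exact ind_all hG S h M hx hC (ind_transfer S h M hSY (ind_single hG S h M hSY hx hC hi)) A g hg hA

end full

end Cfsg.Agent.Omega.All.HOne

end

section


/-!
# LEMMA E (OMEGA #14479), natural modules

`M : NatK F S P V D k`, `V = V_P ≤ QQ`, `V` not in `C(U)`.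

* `nat_offer` : `U` induces on `V / D` exactly the upper unitriangular elements;
* `nat_J` : (E1) `[V, J] = 1`;
* `nat_E` : (E2) `V ≤ U'`.
-/

set_option autoImplicit false
set_option linter.unusedSectionVars false

namespace Cfsg.Agent.Omega.All.HOne

open Subgroup Cfsg Cfsg.Agent.ZN Cfsg.Agent.Omega.MinPar Cfsg.Agent.Omega.FrameFF Cfsg.Agent.Omega.FFThm
open Cfsg.Agent.Lib.SL2Mat Cfsg.Agent.Omega.NatPair
open Cfsg.Agent.MinSimple.VModule (oddGen mem_zc zc_le_zl)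
open Cfsg.Agent.Omega.NoFF.LinesPlug (oddGen_sup)

universe u

variable {G : Type u} [Group G]

/-- a group of order at most `|F| |C|` -/
theorem card_le_of_fibre {F : Type*} [Finite F] {U C : Subgroup G} [Finite C] (f : U → F)
    (hf : ∀ a b : U, f a = f b → (a : G)⁻¹ * b ∈ C) : Nat.card U ≤ Nat.card F * Nat.card C := by
  classical
  by_cases hne : Nonempty U
  · obtain ⟨u₀⟩ := hne
    let r : F → U := fun c => if h : ∃ a, f a = c then h.choose else u₀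
    have hr : ∀ a : U, f (r (f a)) = f a := fun a => by
      have h : ∃ b, f b = f a := ⟨a, rfl⟩
      simp only [r, dif_pos h]
      exact h.choose_spec
    rw [← Nat.card_prod]
    refine Nat.card_le_card_of_injective (fun a : U => (f a, (⟨((r (f a) : U) : G)⁻¹ * a, hf _ _ (hr a)⟩ : C))) ?_
    intro a b hab
    have h1 : f a = f b := congrArg Prod.fst hab
    have h2 : ((r (f a) : U) : G)⁻¹ * a = ((r (f b) : U) : G)⁻¹ * b := congrArg (fun x : F × C => (x.2 : G)) hab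
    rw [h1] at h2
    exact Subtype.ext (mul_left_cancel h2)
  · exact absurd ⟨1⟩ hne

section nat

variable [Finite G] (hG : IsCharacteristicTwoType G) (S : Sylow 2 G) {P : Subgroup G}
  (h : IsParS (S : Subgroup G) P) {F : Type} [Field F] {k : ℕ}
  (M : NatK F (S : Subgroup G) P (zl (S : Subgroup G) P) (cv (S : Subgroup G) P) k)

/-- `a` induces the upper unitriangular element `b` -/
abbrev AU (a : G) (b : Fin k → F) : Prop :=
  ActsSL M.e (zl (S : Subgroup G) P) (cv (S : Subgroup G) P) a fun i => up (b i)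

omit [Finite G] in
theorem au_0 {a : G} {b : Fin k → F} (ha : a ∈ P) (hab : AU S M a b) {v : G} (hv : v ∈ zl (S : Subgroup G) P)
    (i : Fin k) : M.e (a * v * a⁻¹ * v⁻¹) i 0 = b i * M.e v i 1 := by
  rw [nat_div M (conjZ ha hv) hv, Pi.sub_apply, hab.1 v hv, Pi.sub_apply, ap_up_0]
  ring

omit [Finite G] in
theorem au_1 {a : G} {b : Fin k → F} (ha : a ∈ P) (hab : AU S M a b) {v : G} (hv : v ∈ zl (S : Subgroup G) P)
    (i : Fin k) : M.e (a * v * a⁻¹ * v⁻¹) i 1 = 0 := by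
  rw [nat_div M (conjZ ha hv) hv, Pi.sub_apply, hab.1 v hv, Pi.sub_apply, ap_up_1, sub_self]

omit [Finite G] in
theorem au_eq {a : G} {b : Fin k → F} (ha : a ∈ P) (hab : AU S M a b) {v : G} (hv : v ∈ zl (S : Subgroup G) P)
    (hc : a * v = v * a) (i : Fin k) : b i * M.e v i 1 = 0 := by
  rw [← au_0 S M ha hab hv i]
  have e : a * v * a⁻¹ * v⁻¹ = 1 := by rw [hc]; group
  rw [e, nat_one]
  rfl

omit [Finite G] in
theorem au_D {a : G} {b : Fin k → F} (ha : a ∈ P) (hab : AU S M a b) {v : G} (hv : v ∈ zl (S : Subgroup G) P)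
    (hz : ∀ i, b i * M.e v i 1 = 0) : a * v * a⁻¹ * v⁻¹ ∈ cv (S : Subgroup G) P := by
  rw [← M.ker _ (mul_mem (conjZ ha hv) (inv_mem hv))]
  funext i
  refine ext2 ?_ ?_
  · rw [au_0 S M ha hab hv, hz]; rfl
  · rw [au_1 S M ha hab hv]; rfl

include hG h in
theorem au_zero {a : G} {b : Fin k → F} (ha : a ∈ (S : Subgroup G)) (hab : AU S M a b) (hb : ∀ i, b i = 0) :
    ∀ v ∈ zl (S : Subgroup G) P, a * v = v * a := by
  refine comm_of_sec hG S h ha fun v hv => ?_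
  refine au_D S M (h.le ha) hab hv fun i => ?_
  rw [hb, zero_mul]

include hG h in
/-- `U` induces exactly the upper unitriangular elements -/
theorem nat_offer {U : Subgroup G} (hUS : U ≤ (S : Subgroup G)) (hoff : Off (zl (S : Subgroup G) P) U)
    (hSU : (S : Subgroup G) ≤ normalizer (U : Set G)) :
    (∀ a ∈ U, ∃ b, AU S M a b) ∧ ∀ b, ∃ a ∈ U, AU S M a b := by
  obtain ⟨I, h1, h2⟩ := M.off U hUS hoff
  have hne : ∃ i, i ∈ I := by
    by_contra hcon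
    push Not at hcon
    apply hoff.ne
    intro a ha
    obtain ⟨b, hb, hab⟩ := h1 a ha
    rw [mem_centralizer_iff]
    exact fun v hv => (au_zero hG S h M (hUS ha) hab (fun i => hb i (hcon i)) v hv).symm
  obtain ⟨i, hi⟩ := hne
  have hall : ∀ j, j ∈ I := by
    intro j
    by_contra hj
    obtain ⟨t, ht, htij⟩ := M.trans i j
    have htP := h.le ht
    obtain ⟨a, ha, hab⟩ := h2 (Function.update (0 : Fin k → F) i 1) fun l hl => by
      rw [Function.update_of_ne]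
      · rfl
      · rintro rfl; exact hl hi
    have haP := h.le (hUS ha)
    have ha' : t * a * t⁻¹ ∈ U := (mem_normalizer_iff.1 (hSU ht) a).1 ha
    obtain ⟨b', hb', hab'⟩ := h1 _ ha'
    have ha'P := h.le (hUS ha')
    obtain ⟨w, hw, hwi, -⟩ := nat_single M i ![0, 1]
    have h3 : M.e (a * w * a⁻¹ * w⁻¹) i ≠ 0 := by
      intro h4
      have h5 := au_0 S M haP hab hw i
      rw [h4, Function.update_self, hwi, one_mul] at h5
      exact zero_ne_one h5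
    apply h3
    rw [← htij _ (mul_mem (conjZ haP hw) (inv_mem hw))]
    have e1 : t * (a * w * a⁻¹ * w⁻¹) * t⁻¹ =
      t * a * t⁻¹ * (t * w * t⁻¹) * (t * a * t⁻¹)⁻¹ * (t * w * t⁻¹)⁻¹ := by group
    rw [e1]
    have htw := conjZ htP hw
    refine ext2 ?_ ?_
    · rw [au_0 S M ha'P hab' htw, hb' j hj, zero_mul]; rfl
    · rw [au_1 S M ha'P hab' htw]; rfl
  refine ⟨fun a ha => ?_, fun b => ?_⟩
  · obtain ⟨b, -, hb⟩ := h1 a ha
    exact ⟨b, hb⟩
  · exact h2 b fun l hl => absurd (hall l) hl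

variable {S₀ QQ U J X U' Y : Subgroup G} (O : Offer S₀ QQ U J X U') (hVQ : zl (S : Subgroup G) P ≤ QQ)
  (hS₀ : S₀ ≤ (S : Subgroup G)) (hSU : (S : Subgroup G) ≤ normalizer (U : Set G))
  (hVU : ¬ zl (S : Subgroup G) P ≤ centralizer (U : Set G))

omit [Finite G] in
include O hVQ hVU in
theorem off_U : Off (zl (S : Subgroup G) P) U :=
  ⟨O.U_el, fun h => hVU (le_centralizer_iff.1 h), O.off _ hVQ⟩

include hG h M O hVQ hS₀ hVU in
/-- (E1) `[V, J] = 1` -/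
theorem nat_J [Finite F] [CharP F 2] (hSY : (S : Subgroup G) ≤ Y) (hPY : ¬ P ≤ Y)
    (hX : ∀ x ∈ X, x ≠ 1 → centralizer ({x} : Set G) ≤ Y) :
    ∀ u ∈ J, ∀ v ∈ zl (S : Subgroup G) P, u * v = v * u := by
  have hUS : U ≤ (S : Subgroup G) := O.U_S₀.trans hS₀
  have h1 : ∀ a ∈ U, ∃ b, AU S M a b := by
    obtain ⟨I, h1, -⟩ := M.off U hUS (off_U S O hVQ hVU)
    intro a ha
    obtain ⟨b, -, hb⟩ := h1 a ha
    exact ⟨b, hb⟩
  by_contra hcon
  push Not at hcon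
  obtain ⟨u, hu, v₀, hv₀, huv⟩ := hcon
  have huU := O.J_U hu
  have huP := h.le (hUS huU)
  obtain ⟨b, hb⟩ := h1 u huU
  obtain ⟨i, hi⟩ : ∃ i, b i ≠ 0 := by
    by_contra hc
    push Not at hc
    exact huv (au_zero hG S h M (hUS huU) hb hc v₀ hv₀)
  -- elements of `X ∩ V`
  have hXV : ∀ c : F, ∃ x ∈ X, x ∈ zl (S : Subgroup G) P ∧ M.e x i 0 = b i * c ∧ ∀ l, l ≠ i → M.e x l = 0 := by
    intro c
    obtain ⟨v, hv, hvi, hvl⟩ := nat_single M i ![0, c]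
    refine ⟨_, O.comm u hu v (hVQ hv), mul_mem (conjZ huP hv) (inv_mem hv), ?_, fun l hl => ?_⟩
    · rw [au_0 S M huP hb hv, hvi]; rfl
    · refine ext2 ?_ ?_
      · rw [au_0 S M huP hb hv, hvl l hl]; exact mul_zero _
      · rw [au_1 S M huP hb hv]; rfl
  choose x hxX hxV hx0 hxl using hXV
  have hx1 : x 1 ≠ 1 := by
    intro h3
    have h4 := hx0 1
    rw [h3, nat_one, mul_one] at h4
    exact hi h4.symm
  have hone : ∀ l, l = i := by
    intro l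
    by_contra hl
    have h3 := nat_full hG S h M hSY (hxV 1) (fun g _ hgx => hX _ (hxX 1) hx1 (mem_centralizer_singleton_iff.2 hgx))
      hPY l
    exact h3 (hxl 1 l hl)
  -- `|F| ≤ |X|`
  have hFX : Nat.card F ≤ Nat.card X := by
    refine Nat.card_le_card_of_injective (fun c : F => (⟨x c, hxX c⟩ : X)) ?_
    intro c d hcd
    have h3 : x c = x d := congrArg Subtype.val hcd
    have h4 := hx0 c
    rw [h3, hx0 d] at h4
    exact (mul_left_cancel₀ hi h4).symm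
  -- `|U| ≤ |F| |C_U(V)|`
  set C : Subgroup G := U ⊓ centralizer (zl (S : Subgroup G) P : Set G) with hC
  choose β hβ using h1
  have hUF : Nat.card U ≤ Nat.card F * Nat.card C := by
    refine card_le_of_fibre (fun a : U => β a a.2 i) ?_
    intro a a' haa
    have haP := h.le (hUS a.2)
    have ha'P := h.le (hUS a'.2)
    refine mem_inf.2 ⟨mul_mem (inv_mem a.2) a'.2, ?_⟩
    rw [mem_centralizer_iff]
    intro v hv
    refine (comm_of_sec hG S h (mul_mem (inv_mem (hUS a.2)) (hUS a'.2)) ?_ v hv).symm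
    have h3 := acts_mul M ha'P (acts_inv M haP (hβ a a.2)) (hβ a' a'.2)
    have h4 : ((fun l => up (β a a.2 l))⁻¹ * (fun l => up (β a' a'.2 l)) :
        Fin k → Matrix.SpecialLinearGroup (Fin 2) F) = 1 := by
      funext l
      rw [hone l, Pi.mul_apply, Pi.inv_apply, haa, inv_mul_cancel]
      rfl
    rw [h4] at h3
    exact (acts_ker M (mul_mem (inv_mem haP) ha'P) h3).2
  -- `C_U(V) < J`
  have hCJ : C ≤ J := by
    intro a ha
    obtain ⟨v, hv, hvU⟩ := SetLike.not_le_iff_exists.1 hVU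
    exact O.fix v (hVQ hv) hvU a ha.1 (mem_centralizer_iff.1 ha.2 v hv).symm
  have hlt : Nat.card C < Nat.card J := by
    by_contra hle
    push Not at hle
    have h3 : C = J := eq_of_le_of_card_ge hCJ hle
    have h4 : u ∈ C := by rw [h3]; exact hu
    exact huv (mem_centralizer_iff.1 h4.2 v₀ hv₀).symm
  have hXpos : 0 < Nat.card X := Nat.card_pos
  have h5 : Nat.card X * Nat.card J ≤ Nat.card X * Nat.card C :=
    (O.card.trans hUF).trans (Nat.mul_le_mul_right _ hFX)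
  have h6 := Nat.le_of_mul_le_mul_left h5 hXpos
  omega

include hG h M O hVQ hS₀ hSU hVU in
/-- (E2) one summand -/
theorem nat_one_summand [CharP F 2] (hVJ : ∀ u ∈ J, ∀ v ∈ zl (S : Subgroup G) P, u * v = v * u)
    (i j : Fin k) : i = j := by
  by_contra hij
  have hUS : U ≤ (S : Subgroup G) := O.U_S₀.trans hS₀
  obtain ⟨-, h2⟩ := nat_offer hG S h M hUS (off_U S O hVQ hVU) hSU
  obtain ⟨a, ha, hab⟩ := h2 (Function.update (0 : Fin k → F) j 1)
  obtain ⟨a', ha', hab'⟩ := h2 (Function.update (0 : Fin k → F) i 1)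
  have haP := h.le (hUS ha)
  have ha'P := h.le (hUS ha')
  obtain ⟨g, hg, hgA⟩ := M.lift (sg i (th F))
  obtain ⟨w, hw, hwi, hwl⟩ := nat_single M i ![1, 0]
  have hgw := conjZ hg hw
  have hv : g * w * g⁻¹ * w⁻¹ ∈ zl (S : Subgroup G) P := mul_mem hgw (inv_mem hw)
  have hvi : M.e (g * w * g⁻¹ * w⁻¹) i 1 = 1 := by
    rw [nat_div M hgw hw, Pi.sub_apply, hgA.1 w hw, Pi.sub_apply, sg_self, ap_th_1, hwi]
    simp
  -- `a'` moves `v`
  have h3 : g * w * g⁻¹ * w⁻¹ ∉ centralizer (U : Set G) := by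
    intro h4
    have h5 := au_eq S M ha'P hab' hv (mem_centralizer_iff.1 h4 a' ha') i
    rw [Function.update_self, hvi, one_mul] at h5
    exact one_ne_zero h5
  -- `a` fixes `v`
  have h4 : a * (g * w * g⁻¹ * w⁻¹) = (g * w * g⁻¹ * w⁻¹) * a := by
    apply fix_of_comm hG S h hg hab.2 hgA.2 _ hw
    · apply au_D S M haP hab hw
      intro l
      by_cases hl : l = j
      · rw [hwl l (by rw [hl]; exact fun h5 => hij h5.symm)]
        exact mul_zero _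
      · rw [Function.update_of_ne hl]; exact zero_mul _
    · have h5 := acts_mul M (inv_mem hg) (acts_mul M (inv_mem haP) (acts_mul M hg hab hgA) (acts_inv M haP hab))
        (acts_inv M hg hgA)
      have h6 : ((fun l => up (Function.update (0 : Fin k → F) j 1 l)) * sg i (th F) *
          (fun l => up (Function.update (0 : Fin k → F) j 1 l))⁻¹ * (sg i (th F))⁻¹ :
          Fin k → Matrix.SpecialLinearGroup (Fin 2) F) = 1 := by
        funext l
        simp only [Pi.mul_apply, Pi.inv_apply, Pi.one_apply]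
        by_cases hl : l = i
        · rw [hl, Function.update_of_ne hij, Pi.zero_apply, up_zero, one_mul, inv_one, mul_one, mul_inv_cancel]
        · rw [sg_ne hl, mul_one, mul_inv_cancel, inv_one, mul_one]
      rw [h6] at h5
      exact acts_ker M (mul_mem (mul_mem (mul_mem haP hg) (inv_mem haP)) (inv_mem hg)) h5
  have h5 := O.fix _ (hVQ hv) h3 a ha h4
  -- but `a` does not centralise `V`
  obtain ⟨w', hw', hwj, -⟩ := nat_single M j ![0, 1]
  have h6 := au_eq S M haP hab hw' (hVJ a h5 w' hw') j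
  rw [Function.update_self, hwj, one_mul] at h6
  exact one_ne_zero h6

include h in
/-- an element of `Z` outside `D` -/
theorem exists_zc_not_D : ∃ z ∈ zc (S : Subgroup G), z ∉ cv (S : Subgroup G) P := by
  by_contra hcon
  push Not at hcon
  apply h.not_zc
  have h5 : P ≤ centralizer (zc (S : Subgroup G) : Set G) := by
    conv_lhs => rw [← oddGen_sup h.le (MinSimple.Basic.not_dvd_relIndex S h.le)]
    refine sup_le ?_ ?_
    · intro s hs
      rw [mem_centralizer_iff]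
      exact fun z hz => (mem_centralizer_iff.1 (hcon z hz).2 s hs).symm
    · intro s hs
      rw [mem_centralizer_iff]
      exact fun z hz => ((mem_zc.1 hz).2.1 s hs).symm
  exact h5.trans (centralizer_le_normalizer _)

include hG h M O hVQ hS₀ hSU hVU in
/-- (E2) `V ≤ U'` -/
theorem nat_E [Finite F] [CharP F 2] (hk : 0 < k) (hSY : (S : Subgroup G) ≤ Y) (hPY : ¬ P ≤ Y)
    (hX : ∀ x ∈ X, x ≠ 1 → centralizer ({x} : Set G) ≤ Y) : zl (S : Subgroup G) P ≤ U' := by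
  have hVJ := nat_J hG S h M O hVQ hS₀ hVU hSY hPY hX
  have hone := nat_one_summand hG S h M O hVQ hS₀ hSU hVU hVJ
  have hUS : U ≤ (S : Subgroup G) := O.U_S₀.trans hS₀
  obtain ⟨h1, h2⟩ := nat_offer hG S h M hUS (off_U S O hVQ hVU) hSU
  set i : Fin k := ⟨0, hk⟩ with hi
  have hall : ∀ l, l = i := fun l => hone l i
  have hVJ' : zl (S : Subgroup G) P ≤ QQ ⊓ centralizer (J : Set G) :=
    le_inf hVQ fun v hv => mem_centralizer_iff.2 fun u hu => hVJ u hu v hv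
  refine O.fin _ hVJ' ?_ hVU ?_
  · exact elem_zl hG S h.isLoc
  -- the elements of `C_V(U)` have second coordinate 0
  obtain ⟨a₁, ha₁, hab₁⟩ := h2 fun _ => 1
  have hCV : ∀ v ∈ zl (S : Subgroup G) P, v ∈ centralizer (U : Set G) → M.e v i 1 = 0 := by
    intro v hv hvU
    have h3 := au_eq S M (h.le (hUS ha₁)) hab₁ hv (mem_centralizer_iff.1 hvU a₁ ha₁) i
    rwa [one_mul] at h3
  intro s hs
  have hsS := hS₀ hs
  have hsP := h.le hsS
  -- `s` fixes the second coordinates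
  have hs1 : ∀ v ∈ zl (S : Subgroup G) P, M.e (s * v * s⁻¹) i 1 = M.e v i 1 := by
    intro v hv
    have h3 := O.triv s hs v (hVJ' hv)
    have h4 := hCV _ (mul_mem (conjZ hsP hv) (inv_mem hv)) h3
    rw [nat_div M (conjZ hsP hv) hv, Pi.sub_apply, Pi.sub_apply, sub_eq_zero] at h4
    exact h4
  -- the vectors
  have hex : ∀ c d : F, ∃ v ∈ zl (S : Subgroup G) P, M.e v i = ![c, d] := fun c d => by
    obtain ⟨v, hv, h3, -⟩ := nat_single M i ![c, d]
    exact ⟨v, hv, h3⟩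
  choose w hwV hwe using hex
  have heq : ∀ v ∈ zl (S : Subgroup G) P, ∀ v' ∈ zl (S : Subgroup G) P, M.e v i = M.e v' i →
      M.e (s * v * s⁻¹) i = M.e (s * v' * s⁻¹) i := by
    intro v hv v' hv' hvv
    have h3 : v * v'⁻¹ ∈ cv (S : Subgroup G) P := by
      rw [nat_mem M hv hv']
      funext l
      rw [hall l, hvv]
    have h4 := conjD hsP h3
    have e : s * (v * v'⁻¹) * s⁻¹ = (s * v * s⁻¹) * (s * v' * s⁻¹)⁻¹ := by group
    rw [e, nat_mem M (conjZ hsP hv) (conjZ hsP hv')] at h4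
    rw [h4]
  -- the first coordinates: `α c` of `(c, 0)`, `β d` of `(0, d)`
  let α : F → F := fun c => M.e (s * w c 0 * s⁻¹) i 0
  let β : F → F := fun d => M.e (s * w 0 d * s⁻¹) i 0
  have hαβ : ∀ v ∈ zl (S : Subgroup G) P, M.e (s * v * s⁻¹) i 0 = α (M.e v i 0) + β (M.e v i 1) := by
    intro v hv
    have h3 := heq v hv (w (M.e v i 0) 0 * w 0 (M.e v i 1)) (mul_mem (hwV _ _) (hwV _ _)) (by
      rw [M.mul _ (hwV _ _) _ (hwV _ _), Pi.add_apply, hwe, hwe]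
      refine ext2 ?_ ?_ <;> simp)
    have e : s * (w (M.e v i 0) 0 * w 0 (M.e v i 1)) * s⁻¹ =
      (s * w (M.e v i 0) 0 * s⁻¹) * (s * w 0 (M.e v i 1) * s⁻¹) := by group
    rw [h3, e, M.mul _ (conjZ hsP (hwV _ _)) _ (conjZ hsP (hwV _ _))]
    rfl
  -- the conjugate of `lo 1`
  obtain ⟨g, hg, hgA⟩ := M.lift fun _ => lo 1
  obtain ⟨B, hB⟩ := M.norm s hsP g hg _ hgA.1
  have hconj : ∀ v ∈ zl (S : Subgroup G) P, M.e (s * (g * v * g⁻¹) * s⁻¹) i = ap (B i) (M.e (s * v * s⁻¹) i) := by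
    intro v hv
    have e : s * (g * v * g⁻¹) * s⁻¹ = s * g * s⁻¹ * (s * v * s⁻¹) * (s * g * s⁻¹)⁻¹ := by group
    rw [← hB _ (conjZ hsP hv), e]
  have hgv0 : ∀ v ∈ zl (S : Subgroup G) P, M.e (g * v * g⁻¹) i 0 = M.e v i 0 := by
    intro v hv
    rw [hgA.1 v hv, ap_zero', lo_00, lo_01]; ring
  have hgv1 : ∀ v ∈ zl (S : Subgroup G) P, M.e (g * v * g⁻¹) i 1 = M.e v i 0 + M.e v i 1 := by
    intro v hv
    rw [hgA.1 v hv, ap_one', lo_10, lo_11]; ring
  -- second coordinates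
  have hB1 : ∀ v ∈ zl (S : Subgroup G) P, M.e v i 0 + M.e v i 1 =
      ent (B i) 1 0 * (α (M.e v i 0) + β (M.e v i 1)) + ent (B i) 1 1 * M.e v i 1 := by
    intro v hv
    have h3 := congrFun (hconj v hv) 1
    rw [hs1 _ (conjZ hg hv), hgv1 v hv, ap_one', hαβ v hv, hs1 v hv] at h3
    exact h3
  have hα0 : α 0 = 0 := by
    have h3 := hαβ 1 (one_mem _)
    have h4 : β 0 = M.e (s * w 0 0 * s⁻¹) i 0 := rfl
    have h5 : α 0 = M.e (s * w 0 0 * s⁻¹) i 0 := rfl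
    have h6 := heq (w 0 0) (hwV 0 0) 1 (one_mem _) (by
      rw [hwe, nat_one]
      refine ext2 ?_ ?_ <;> rfl)
    rw [h5, h6, mul_one, mul_inv_cancel, nat_one]
    rfl
  have hβ0 : β 0 = 0 := hα0
  have hα : ∀ c, c = ent (B i) 1 0 * α c := by
    intro c
    have h3 := hB1 (w c 0) (hwV c 0)
    rw [hwe] at h3
    have h4 : (![c, 0] : Fin 2 → F) 0 = c := rfl
    have h5 : (![c, 0] : Fin 2 → F) 1 = 0 := rfl
    rw [h4, h5, hβ0, add_zero, add_zero, mul_zero, add_zero] at h3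
    exact h3
  have hβ : ∀ d, d = ent (B i) 1 0 * β d + ent (B i) 1 1 * d := by
    intro d
    have h3 := hB1 (w 0 d) (hwV 0 d)
    rw [hwe] at h3
    have h4 : (![0, d] : Fin 2 → F) 0 = 0 := rfl
    have h5 : (![0, d] : Fin 2 → F) 1 = d := rfl
    rw [h4, h5, hα0, zero_add, zero_add] at h3
    exact h3
  -- the scalar is 1
  obtain ⟨z, hz, hzD⟩ := exists_zc_not_D S h
  have hzV := zc_le_zl _ P hz
  have hsz : s * z * s⁻¹ = z := by rw [(mem_zc.1 hz).2.1 s hsS]; group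
  have hz1 : M.e z i 1 = 0 := by
    apply hCV z hzV
    rw [mem_centralizer_iff]
    exact fun a ha => (mem_zc.1 hz).2.1 a (hUS ha)
  have hz0 : M.e z i 0 ≠ 0 := by
    intro h3
    apply hzD
    rw [← M.ker z hzV]
    funext l
    rw [hall l]
    exact ext2 h3 hz1
  have hαz : α (M.e z i 0) = M.e z i 0 := by
    have h3 := hαβ z hzV
    rw [hsz, hz1, hβ0, add_zero] at h3
    exact h3.symm
  have hent : ent (B i) 1 0 = 1 := by
    have h3 := hα (M.e z i 0)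
    rw [hαz] at h3
    have h4 : (1 - ent (B i) 1 0) * M.e z i 0 = 0 := by linear_combination h3
    rcases mul_eq_zero.1 h4 with h5 | h5
    · exact (sub_eq_zero.1 h5).symm
    · exact absurd h5 hz0
  have hα' : ∀ c, α c = c := fun c => by
    have h3 := hα c
    rw [hent, one_mul] at h3
    exact h3.symm
  have hβ' : ∀ d, β d = (1 - ent (B i) 1 1) * d := fun d => by
    have h3 := hβ d
    rw [hent, one_mul] at h3
    linear_combination -h3
  -- `s` induces `up (1 - B₁₁)`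
  obtain ⟨a, ha, hab⟩ := h2 fun _ => 1 - ent (B i) 1 1
  have haP := h.le (hUS ha)
  refine ⟨a, ha, ?_⟩
  rw [mem_centralizer_iff]
  intro v hv
  refine (comm_of_sec hG S h (mul_mem (inv_mem (hUS ha)) hsS) (fun v hv => ?_) v hv).symm
  have hsv : M.e (s * v * s⁻¹) = M.e (a * v * a⁻¹) := by
    funext l
    rw [hall l, hab.1 v hv]
    refine ext2 ?_ ?_
    · rw [hαβ v hv, hα', hβ', ap_up_0]
    · rw [hs1 v hv, ap_up_1]
  have h3 : (s * v * s⁻¹) * (a * v * a⁻¹)⁻¹ ∈ cv (S : Subgroup G) P :=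
    (nat_mem M (conjZ hsP hv) (conjZ haP hv)).2 hsv
  have h4 := conjD (inv_mem haP) h3
  have e : a⁻¹ * s * v * (a⁻¹ * s)⁻¹ * v⁻¹ = a⁻¹ * ((s * v * s⁻¹) * (a * v * a⁻¹)⁻¹) * a⁻¹⁻¹ := by group
  rw [e]
  exact h4

end nat

end Cfsg.Agent.Omega.All.HOne

end

section


/-!
# END `F₄(q)` with a graph element (OMEGA #16413): (A), types, `W ≤ Q_s Q_l`

* `Tak t A B` : `t A t⁻¹ = B`;
* `FFourG.cen_le_Qs`, `FFourG.cen_le_Ql` : (A), `C_G(x) ≤ N_G(Q_s)` for `1 ≠ x ∈ X_s`, the same with `l`;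
* `FFourG.not_zc` : the elements of `X_s#` are not 2-central;
* `FFourG.pr`, `FFourG.pr_z` : types of the elements of `U_s ∪ U_l`;
* `FFourG.W_le` : a subgroup of `S` normalised by `C_G(Ω₁(Z(S₁)))` lies in `Q_s Q_l`.
-/

set_option autoImplicit false

namespace Cfsg.Agent.Omega.All.HOne

open Subgroup Cfsg Cfsg.Agent.ZN Cfsg.Agent.Omega.MinPar Cfsg.Agent.Omega.Frame
open Cfsg.Agent.Omega.FrameLE (AllIn)
open Cfsg.Agent.Omega.FrameNOFF (CZ)
open Cfsg.Agent.MinSimple.VModule (le_o2 mem_zc zc_le zc_comm o2_le o2_isPGroup le_normalizer_o2 le_centralizer_zc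
  zc_le_centralizer zc_sq normalizer_le_normalizer_zc)
open Cfsg.Agent.MinSimple.Basic (char2_centralizer)
open scoped commutatorElement

universe u

variable {G : Type u} [Group G]

/-! ### `Tak` -/

/-- `t` takes `A` to `B` -/
def Tak (t : G) (A B : Subgroup G) : Prop := ∀ x, x ∈ A ↔ t * x * t⁻¹ ∈ B

theorem tak_iff {t : G} {A B : Subgroup G} : Tak t A B ↔ A.map (MulAut.conj t).toMonoidHom = B := by
  constructor
  · intro h
    ext x
    constructor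
    · rintro ⟨y, hy, rfl⟩
      exact (h y).1 hy
    · intro hx
      refine ⟨t⁻¹ * x * t, (h _).2 ?_, ?_⟩
      · have e : t * (t⁻¹ * x * t) * t⁻¹ = x := by group
        rwa [e]
      · show t * (t⁻¹ * x * t) * t⁻¹ = x
        group
  · rintro rfl x
    constructor
    · intro hx
      exact ⟨x, hx, rfl⟩
    · rintro ⟨y, hy, h⟩
      have h' : t * y * t⁻¹ = t * x * t⁻¹ := h
      have h2 : y = x := mul_left_cancel (mul_right_cancel h')
      rwa [← h2]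

theorem tak_norm {t : G} {A : Subgroup G} : Tak t A A ↔ t ∈ normalizer (A : Set G) := by
  rw [mem_normalizer_iff]
  rfl

namespace Tak

variable {t v : G} {A A' B B' C : Subgroup G}

theorem inv (h : Tak t A B) : Tak t⁻¹ B A := fun x => by
  rw [h (t⁻¹ * x * t⁻¹⁻¹)]
  have e : t * (t⁻¹ * x * t⁻¹⁻¹) * t⁻¹ = x := by group
  rw [e]

theorem mul (h1 : Tak t A B) (h2 : Tak v B C) : Tak (v * t) A C := fun x => by
  rw [h1 x, h2]
  have e : v * (t * x * t⁻¹) * v⁻¹ = v * t * x * (v * t)⁻¹ := by group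
  rw [e]

theorem inf (h1 : Tak t A B) (h2 : Tak t A' B') : Tak t (A ⊓ A') (B ⊓ B') := fun x => by
  rw [mem_inf, mem_inf, h1 x, h2 x]

theorem sup (h1 : Tak t A B) (h2 : Tak t A' B') : Tak t (A ⊔ A') (B ⊔ B') := by
  rw [tak_iff] at *
  rw [Subgroup.map_sup, h1, h2]

theorem commutator (h1 : Tak t A B) (h2 : Tak t A' B') : Tak t ⁅A, A'⁆ ⁅B, B'⁆ := by
  rw [tak_iff] at *
  rw [Subgroup.map_commutator, h1, h2]

theorem cen (h : Tak t A B) : Tak t (centralizer (A : Set G)) (centralizer (B : Set G)) := by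
  have key : ∀ {t : G} {A B : Subgroup G}, Tak t A B → ∀ x ∈ centralizer (A : Set G),
      t * x * t⁻¹ ∈ centralizer (B : Set G) := by
    intro t A B h x hx
    rw [mem_centralizer_iff] at hx ⊢
    intro b hb
    have h1 : t⁻¹ * b * t ∈ A := by
      rw [h]
      have e : t * (t⁻¹ * b * t) * t⁻¹ = b := by group
      rwa [e]
    calc b * (t * x * t⁻¹) = t * (t⁻¹ * b * t * x) * t⁻¹ := by group
      _ = t * (x * (t⁻¹ * b * t)) * t⁻¹ := by rw [hx _ h1]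
      _ = t * x * t⁻¹ * b := by group
  intro x
  refine ⟨key h x, fun hx => ?_⟩
  have h1 := key h.inv _ hx
  have e : t⁻¹ * (t * x * t⁻¹) * t⁻¹⁻¹ = x := by group
  rwa [e] at h1

theorem eq (h : Tak t A B) (h' : Tak t A B') : B = B' := by
  rw [tak_iff] at h h'
  rw [← h, h']

theorem eq' (h : Tak t A B) (h' : Tak t A' B) : A = A' := h.inv.eq h'.inv

theorem card (h : Tak t A B) : Nat.card A = Nat.card B := by
  rw [tak_iff] at h
  rw [← h]
  exact (Nat.card_congr (A.equivMapOfInjective _ (MulAut.conj t).injective).toEquiv)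

theorem mem (h : Tak t A B) {x : G} (hx : x ∈ A) : t * x * t⁻¹ ∈ B := (h x).1 hx

theorem mem' (h : Tak t A B) {x : G} (hx : x ∈ B) : t⁻¹ * x * t ∈ A := by
  rw [h]
  have e : t * (t⁻¹ * x * t) * t⁻¹ = x := by group
  rwa [e]

/-- conjugates of normalising elements -/
theorem norm (h : Tak t A B) {m : G} (hm : m ∈ normalizer (A : Set G)) : t * m * t⁻¹ ∈ normalizer (B : Set G) :=
  tak_norm.1 ((h.inv.mul (tak_norm.2 hm)).mul h |> fun h2 => by rwa [← mul_assoc] at h2)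

end Tak

theorem Side.tak {S Y C X Q U C' X' Q' U' : Subgroup G} (D : Side S Y C X Q U) (D' : Side S Y C' X' Q' U') {t : G}
    (h : Tak t Q Q') : Tak t U U' ∧ Tak t X X' := by
  refine ⟨?_, ?_⟩
  · rw [D.U_eq, D'.U_eq]
    exact h.inf h.cen
  · rw [← D.comm, ← D'.comm]
    exact h.commutator h

/-- the elements of the join of two commuting subgroups -/
theorem mem_sup_comm {A B : Subgroup G} (h : ∀ a ∈ A, ∀ b ∈ B, a * b = b * a) {x : G} (hx : x ∈ A ⊔ B) :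
    ∃ a ∈ A, ∃ b ∈ B, x = a * b := by
  let T : Subgroup G :=
    { carrier := {x | ∃ a ∈ A, ∃ b ∈ B, x = a * b}
      mul_mem' := by
        rintro _ _ ⟨a, ha, b, hb, rfl⟩ ⟨a', ha', b', hb', rfl⟩
        refine ⟨a * a', mul_mem ha ha', b * b', mul_mem hb hb', ?_⟩
        calc a * b * (a' * b') = a * (b * a') * b' := by group
          _ = a * (a' * b) * b' := by rw [h a' ha' b hb]
          _ = a * a' * (b * b') := by group
      one_mem' := ⟨1, one_mem _, 1, one_mem _, by simp⟩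
      inv_mem' := by
        rintro _ ⟨a, ha, b, hb, rfl⟩
        refine ⟨a⁻¹, inv_mem ha, b⁻¹, inv_mem hb, ?_⟩
        rw [mul_inv_rev, h _ (inv_mem ha) _ (inv_mem hb)] }
  have h1 : A ⊔ B ≤ T := sup_le (fun a ha => ⟨a, ha, 1, one_mem _, by simp⟩) fun b hb => ⟨1, one_mem _, b, hb, by simp⟩
  exact h1 hx

theorem inv_mul_mem_of_card [Finite G] {A T : Subgroup G} (hAT : A ≤ T) (hc : Nat.card T ≤ 2 * Nat.card A) {a b : G}
    (ha : a ∈ T) (hb : b ∈ T) (ha' : a ∉ A) (hb' : b ∉ A) : a⁻¹ * b ∈ A := by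
  have h1 : A.relIndex T * Nat.card A = Nat.card T := by
    have := Subgroup.card_mul_index (A.subgroupOf T)
    rw [Nat.card_congr (subgroupOfEquivOfLe hAT).toEquiv] at this
    rw [← this, mul_comm]
    rfl
  have hpos : 0 < Nat.card A := Nat.card_pos
  have h2 : A.relIndex T ≤ 2 := by
    rw [← h1] at hc
    exact Nat.le_of_mul_le_mul_right hc hpos
  have h3 : A.relIndex T ≠ 0 := by
    intro h
    rw [h, zero_mul] at h1
    have : 0 < Nat.card T := Nat.card_pos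
    omega
  have h4 : A.relIndex T ≠ 1 := by
    intro h
    rw [relIndex_eq_one] at h
    exact ha' (h ha)
  have h5 : (A.subgroupOf T).index = 2 := by
    show A.relIndex T = 2
    omega
  have h6 := Subgroup.mul_mem_iff_of_index_two h5 (a := (⟨a, ha⟩ : T)⁻¹) (b := ⟨b, hb⟩)
  have h7 : (⟨a, ha⟩ : T)⁻¹ * ⟨b, hb⟩ ∈ A.subgroupOf T := by
    rw [h6, inv_mem_iff, mem_subgroupOf, mem_subgroupOf]
    exact ⟨fun h => absurd h ha', fun h => absurd h hb'⟩
  exact h7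

/-! ### The graph case -/

namespace FFourG

section gen

variable {S S₁ S₀ Y Cs Cl Xs Xl Qs Ql Us Ul : Subgroup G} (D : FFourG S S₁ S₀ Y Cs Cl Xs Xl Qs Ql Us Ul)
include D

theorem S₁_S : S₁ ≤ S := by
  have h := D.S₁_eq
  rw [h]
  exact inf_le_left

theorem S₁_N : S₁ ≤ normalizer (Xs : Set G) := by
  have h := D.S₁_eq
  rw [h]
  exact inf_le_right

theorem mem_S₁ {t : G} (ht : t ∈ S) (hX : t ∈ normalizer (Xs : Set G)) : t ∈ S₁ := by
  rw [D.S₁_eq]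
  exact ⟨ht, hX⟩

theorem Xs_ne_Xl : Xs ≠ Xl := by
  intro h
  have h1 := D.dat.Xs_Xl
  rw [← h, inf_idem] at h1
  exact D.dat.side_s.X_ne h1

theorem norm_of {t : G} (ht : t ∈ S₁) : t ∈ normalizer (Qs : Set G) ∧ t ∈ normalizer (Ql : Set G) := by
  rcases D.perm t (D.S₁_S ht) with h | h
  · exact h
  · exfalso
    have h1 := (D.dat.side_s.tak D.dat.side_l (tak_iff.2 h.1)).2
    exact D.Xs_ne_Xl ((tak_norm.2 (D.S₁_N ht)).eq h1)

theorem tak_of {t : G} (ht : t ∈ S) (h1 : t ∉ S₁) : Tak t Qs Ql ∧ Tak t Ql Qs := by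
  rcases D.perm t ht with h | h
  · exact absurd (D.mem_S₁ ht (D.dat.side_s.norm_Q_le h.1)) h1
  · exact ⟨tak_iff.2 h.1, tak_iff.2 h.2⟩

theorem takU {t : G} (ht : t ∈ S) (h1 : t ∉ S₁) : Tak t Us Ul ∧ Tak t Ul Us :=
  ⟨(D.dat.side_s.tak D.dat.side_l (D.tak_of ht h1).1).1, (D.dat.side_l.tak D.dat.side_s (D.tak_of ht h1).2).1⟩

theorem takX {t : G} (ht : t ∈ S) (h1 : t ∉ S₁) : Tak t Xs Xl ∧ Tak t Xl Xs :=
  ⟨(D.dat.side_s.tak D.dat.side_l (D.tak_of ht h1).1).2, (D.dat.side_l.tak D.dat.side_s (D.tak_of ht h1).2).2⟩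

theorem inv_mul {t t' : G} (ht : t ∈ S) (h1 : t ∉ S₁) (ht' : t' ∈ S) (h1' : t' ∉ S₁) : t⁻¹ * t' ∈ S₁ :=
  D.mem_S₁ (mul_mem (inv_mem ht) ht') (tak_norm.1 ((D.takX ht' h1').1.mul (D.takX ht h1).1.inv))

theorem inv_not {t : G} (h1 : t ∉ S₁) : t⁻¹ ∉ S₁ := fun h => h1 (inv_mem_iff.1 h)

theorem sq_mem {t : G} (ht : t ∈ S) (h1 : t ∉ S₁) : t * t ∈ S₁ := by
  have h2 := D.inv_mul (inv_mem ht) (D.inv_not h1) ht h1
  rwa [inv_inv] at h2

theorem norm_S₁ : S ≤ normalizer (S₁ : Set G) := by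
  refine le_normalizer_of fun t ht x hx => ?_
  by_cases h1 : t ∈ S₁
  · exact mul_mem (mul_mem h1 hx) (inv_mem h1)
  · refine D.mem_S₁ (mul_mem (mul_mem ht (D.S₁_S hx)) (inv_mem ht)) ?_
    have h2 := (D.takX ht h1).2.norm (D.dat.side_s.S_X.trans le_rfl hx |> fun _ => D.dat.side_l.S_X hx)
    exact h2

theorem card_S [Finite G] : Nat.card S ≤ 2 * Nat.card S₁ := by
  classical
  have h := card_le_of_fibre (F := Bool) (U := S) (C := S₁) (fun t => decide ((t : G) ∈ S₁)) (fun a b hab => by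
    have h1 : ((a : G) ∈ S₁) ↔ ((b : G) ∈ S₁) := decide_eq_decide.1 hab
    by_cases ha : (a : G) ∈ S₁
    · exact mul_mem (inv_mem ha) (h1.1 ha)
    · exact D.inv_mul a.2 ha b.2 fun hb => ha (h1.2 hb))
  rwa [Nat.card_eq_fintype_card (α := Bool), Fintype.card_bool] at h

theorem card_lt [Finite G] : Nat.card S₁ < Nat.card S := by
  obtain ⟨s, hs, hs1⟩ := D.swap
  refine lt_of_le_of_ne (Subgroup.card_le_of_le D.S₁_S) fun h => hs1 ?_
  have h1 := eq_of_le_of_card_ge D.S₁_S h.ge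
  rw [h1]
  exact hs

theorem pg (hS : IsPGroup 2 S) : IsPGroup 2 S₁ := hS.to_le D.S₁_S

theorem exists_zs [Finite G] (hS : IsPGroup 2 S) : ∃ z ∈ zc S₁, z ∈ Xs ∧ z ≠ 1 := by
  refine exists_zc_mem (D.pg hS) D.dat.side_s.X_S D.dat.side_s.S_X (fun x hx => ?_) D.dat.side_s.X_ne
  have h1 := D.dat.side_s.X_el.2 x hx
  rwa [pow_two] at h1

theorem exists_zl [Finite G] (hS : IsPGroup 2 S) : ∃ z ∈ zc S₁, z ∈ Xl ∧ z ≠ 1 := by
  refine exists_zc_mem (D.pg hS) D.dat.side_l.X_S D.dat.side_l.S_X (fun x hx => ?_) D.dat.side_l.X_ne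
  have h1 := D.dat.side_l.X_el.2 x hx
  rwa [pow_two] at h1

theorem N_Yl : normalizer (Xl : Set G) ≤ Y := by
  obtain ⟨s, hs, hs1⟩ := D.swap
  intro g hg
  have h1 := (D.takX hs hs1).1.inv.norm hg
  have h2 := D.dat.N_Y h1
  have hsY := D.S_Y hs
  have e : g = s * (s⁻¹ * g * s⁻¹⁻¹) * s⁻¹ := by group
  rw [e]
  exact mul_mem (mul_mem hsY h2) (inv_mem hsY)

end gen

section syl

variable [Finite G] {S : Sylow 2 G} {S₁ S₀ Y Cs Cl Xs Xl Qs Ql Us Ul : Subgroup G}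
  (D : FFourG (S : Subgroup G) S₁ S₀ Y Cs Cl Xs Xl Qs Ql Us Ul)
include D

theorem card_le_two {T : Subgroup G} (hT : IsPGroup 2 T) : Nat.card T ≤ 2 * Nat.card S₁ := by
  have hf : Fact (Nat.Prime 2) := ⟨Nat.prime_two⟩
  obtain ⟨R, hR⟩ := hT.exists_le_sylow
  refine (Subgroup.card_le_of_le hR).trans (le_trans ?_ D.card_S)
  rw [Sylow.card_eq_multiplicity R, Sylow.card_eq_multiplicity S]

/-- **(A)** for `x ∈ Ω₁(Z(S₁))`. -/
theorem o2_eq_zc (hc : IsCharacteristicTwoType G) {x : G} (hx : x ∈ zc S₁) (hX : x ∈ Xs) (h1 : x ≠ 1) :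
    o2 (centralizer ({x} : Set G)) = Qs := by
  have hf : Fact (Nat.Prime 2) := ⟨Nat.prime_two⟩
  set H := centralizer ({x} : Set G) with hH
  set O := o2 H with hO
  have hSH : S₁ ≤ H := fun s hs => mem_centralizer_singleton_iff.2 ((mem_zc.1 hx).2.1 s hs)
  have hCH : Cs ≤ H := D.dat.side_s.C_X.trans (centralizer_le (by
    intro w hw
    rw [Set.mem_singleton_iff] at hw
    rw [hw]; exact hX))
  have hSO : S₁ ≤ normalizer (O : Set G) := hSH.trans (le_normalizer_o2 _)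
  have hCO : Cs ≤ normalizer (O : Set G) := hCH.trans (le_normalizer_o2 _)
  have hCX : Cs ≤ normalizer (Xs : Set G) := D.dat.side_s.C_X.trans (centralizer_le_normalizer _)
  have hT : IsPGroup 2 (S₁ ⊔ O : Subgroup G) :=
    (D.pg S.isPGroup').to_sup_of_normal_right' (o2_isPGroup _) hSO
  have hcard := D.card_le_two hT
  have hTN : (S₁ ⊔ O) ⊓ normalizer (Xs : Set G) ≤ S₁ := by
    have h2 : S₁ ≤ (S₁ ⊔ O) ⊓ normalizer (Xs : Set G) := le_inf le_sup_left D.S₁_N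
    have h3 := D.syl _ (hT.to_le inf_le_left) (inf_le_right : (S₁ ⊔ O) ⊓ normalizer (Xs : Set G) ≤ _)
    exact (eq_of_le_of_card_ge h2 h3).ge
  have hO1 : ∀ t ∈ O, t ∈ normalizer (Xs : Set G) → t ∈ Qs := by
    intro t ht htX
    have htS : t ∈ S₁ := hTN ⟨mem_sup_right ht, htX⟩
    refine D.dat.side_s.fld t htS fun c hcC => ?_
    have h2 : t * c * t⁻¹ * c⁻¹ ∈ Cs :=
      mul_mem (conj_mem_of_normalizer (D.dat.side_s.S_C htS) hcC) (inv_mem hcC)
    have h3 : t * c * t⁻¹ * c⁻¹ ∈ O := by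
      have e : t * c * t⁻¹ * c⁻¹ = t * (c * t⁻¹ * c⁻¹) := by group
      rw [e]
      exact mul_mem ht (conj_mem_of_normalizer (hCO hcC) (inv_mem ht))
    refine D.dat.side_s.Q_max (O ⊓ Cs) ((o2_isPGroup _).to_le inf_le_left) inf_le_right ?_ ⟨h3, h2⟩
    exact normalizer_inf_le hCO le_normalizer
  have hOC : ∀ t ∈ O, ∀ c ∈ Cs, t * c * t⁻¹ * c⁻¹ ∈ Qs := by
    intro t ht c hcC
    have e : t * c * t⁻¹ * c⁻¹ = t * (c * t⁻¹ * c⁻¹) := by group
    have h2 : c * t⁻¹ * c⁻¹ ∈ O := conj_mem_of_normalizer (hCO hcC) (inv_mem ht)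
    rw [e]
    by_cases htX : t ∈ normalizer (Xs : Set G)
    · refine mul_mem (hO1 t ht htX) (hO1 _ h2 ?_)
      exact mul_mem (mul_mem (hCX hcC) (inv_mem htX)) (inv_mem (hCX hcC))
    · have h3 : c * t⁻¹ * c⁻¹ ∉ S₁ := by
        intro h4
        apply htX
        have h5 := D.S₁_N h4
        have e2 : t = (c⁻¹ * (c * t⁻¹ * c⁻¹) * c)⁻¹ := by group
        rw [e2]
        exact inv_mem (mul_mem (mul_mem (inv_mem (hCX hcC)) h5) (hCX hcC))
      have h4 : t⁻¹ ∉ S₁ := fun h5 => htX (D.S₁_N (inv_mem_iff.1 h5))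
      have h5 := inv_mul_mem_of_card (T := S₁ ⊔ O) le_sup_left hcard (mem_sup_right (inv_mem ht))
        (mem_sup_right h2) h4 h3
      rw [inv_inv] at h5
      exact hO1 _ (mul_mem ht h2) (D.S₁_N h5)
  have hON : O ≤ normalizer (Qs : Set G) := by
    refine le_normalizer_of fun t ht q hq => ?_
    have h2 := hOC t ht q (D.dat.side_s.Q_C hq)
    have e : t * q * t⁻¹ = t * q * t⁻¹ * q⁻¹ * q := by group
    rw [e]
    exact mul_mem h2 hq
  have hOQ : O ≤ Qs := fun t ht => hO1 t ht (D.dat.side_s.norm_Q_le (hON ht))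
  refine D.dat.side_s.irr _ hOQ hCO ?_
  exact le_trans (inf_le_inf (D.dat.side_s.Q_C.trans hCH) le_rfl) (char2_centralizer hc (zc_sq S₁ x hx) h1)

/-- **(A)** -/
theorem cen_le_Qs (hc : IsCharacteristicTwoType G) {x : G} (hx : x ∈ Xs) (h1 : x ≠ 1) :
    centralizer ({x} : Set G) ≤ normalizer (Qs : Set G) := by
  obtain ⟨z, hz, hX, hz1⟩ := D.exists_zs S.isPGroup'
  obtain ⟨y, -, -, hyQ, h4⟩ := D.dat.side_s.trans x hx z hX h1 hz1
  intro g hg
  have h5 := normalizer_centralizer_singleton (g := y) g hg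
  rw [h4] at h5
  have h6 : centralizer ({z} : Set G) ≤ normalizer (Qs : Set G) := by
    have h7 := le_normalizer_o2 (centralizer ({z} : Set G))
    rwa [D.o2_eq_zc hc hz hX hz1] at h7
  have e : g = y⁻¹ * (y * g * y⁻¹) * y := by group
  rw [e]
  exact mul_mem (mul_mem (inv_mem hyQ) (h6 h5)) hyQ

/-- **(A)** for `X_l` -/
theorem cen_le_Ql (hc : IsCharacteristicTwoType G) {x : G} (hx : x ∈ Xl) (h1 : x ≠ 1) :
    centralizer ({x} : Set G) ≤ normalizer (Ql : Set G) := by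
  obtain ⟨s, hs, hs1⟩ := D.swap
  intro g hg
  have h2 : s * x * s⁻¹ ∈ Xs := (D.takX hs hs1).2.mem hx
  have h3 : s * x * s⁻¹ ≠ 1 := fun h => h1 (by
    have e : x = s⁻¹ * (s * x * s⁻¹) * s := by group
    rw [e, h]; group)
  have h4 := D.cen_le_Qs hc h2 h3 (normalizer_centralizer_singleton (g := s) g hg)
  have h5 := (D.tak_of hs hs1).2.inv.norm h4
  have e : s⁻¹ * (s * g * s⁻¹) * s⁻¹⁻¹ = g := by group
  rwa [e] at h5

theorem cen_le_Xs (hc : IsCharacteristicTwoType G) {x : G} (hx : x ∈ Xs) (h1 : x ≠ 1) :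
    centralizer ({x} : Set G) ≤ normalizer (Xs : Set G) := (D.cen_le_Qs hc hx h1).trans D.dat.side_s.norm_Q_le

theorem cen_le_Xl (hc : IsCharacteristicTwoType G) {x : G} (hx : x ∈ Xl) (h1 : x ≠ 1) :
    centralizer ({x} : Set G) ≤ normalizer (Xl : Set G) := (D.cen_le_Ql hc hx h1).trans D.dat.side_l.norm_Q_le

theorem cen_le_Y (hc : IsCharacteristicTwoType G) {x : G} (hx : x ∈ Xs ∨ x ∈ Xl) (h1 : x ≠ 1) :
    centralizer ({x} : Set G) ≤ Y := by
  rcases hx with hx | hx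
  · exact (D.cen_le_Xs hc hx h1).trans D.dat.N_Y
  · exact (D.cen_le_Xl hc hx h1).trans D.N_Yl

/-- `D₁ = C_G(Ω₁(Z(S₁)))` normalises `Q_s` and `Q_l` -/
theorem CZ_le (hc : IsCharacteristicTwoType G) : CZ S₁ ≤ normalizer (Qs : Set G) ⊓ normalizer (Ql : Set G) := by
  obtain ⟨z, hz, hX, hz1⟩ := D.exists_zs S.isPGroup'
  obtain ⟨z', hz', hX', hz1'⟩ := D.exists_zl S.isPGroup'
  refine le_inf (le_trans (centralizer_le ?_) (D.cen_le_Qs hc hX hz1))
    (le_trans (centralizer_le ?_) (D.cen_le_Ql hc hX' hz1'))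
  · intro w hw
    rw [Set.mem_singleton_iff] at hw
    rw [hw]; exact hz
  · intro w hw
    rw [Set.mem_singleton_iff] at hw
    rw [hw]; exact hz'

theorem CZ_Qs (hc : IsCharacteristicTwoType G) : CZ S₁ ≤ normalizer (Qs : Set G) := (D.CZ_le hc).trans inf_le_left
theorem CZ_Ql (hc : IsCharacteristicTwoType G) : CZ S₁ ≤ normalizer (Ql : Set G) := (D.CZ_le hc).trans inf_le_right
theorem CZ_Us (hc : IsCharacteristicTwoType G) : CZ S₁ ≤ normalizer (Us : Set G) :=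
  (D.CZ_Qs hc).trans D.dat.side_s.norm_Q_le_U
theorem CZ_Ul (hc : IsCharacteristicTwoType G) : CZ S₁ ≤ normalizer (Ul : Set G) :=
  (D.CZ_Ql hc).trans D.dat.side_l.norm_Q_le_U
theorem CZ_Xs (hc : IsCharacteristicTwoType G) : CZ S₁ ≤ normalizer (Xs : Set G) :=
  (D.CZ_Qs hc).trans D.dat.side_s.norm_Q_le
theorem CZ_Xl (hc : IsCharacteristicTwoType G) : CZ S₁ ≤ normalizer (Xl : Set G) :=
  (D.CZ_Ql hc).trans D.dat.side_l.norm_Q_le

theorem o2_CZ (hc : IsCharacteristicTwoType G) : o2 (CZ S₁) = Qs ⊔ Ql :=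
  D.dat.oZ ((D.CZ_Xs hc).trans D.dat.N_Y)

theorem QQ_S₁ : Qs ⊔ Ql ≤ S₁ := sup_le D.dat.side_s.Q_S D.dat.side_l.Q_S

theorem QQ_S : Qs ⊔ Ql ≤ (S : Subgroup G) := D.QQ_S₁.trans D.S₁_S

theorem Z0_comm {x q : G} (hx : x ∈ Xs ⊔ Xl) (hq : q ∈ Qs ⊔ Ql) : q * x = x * q := by
  rw [← D.dat.cen0] at hx
  exact mem_centralizer_iff.1 hx.2 q hq

theorem Z0_QQ : Xs ⊔ Xl ≤ Qs ⊔ Ql := by
  rw [← D.dat.cen0]
  exact inf_le_left

theorem zc_le_Z0 (hc : IsCharacteristicTwoType G) : zc S₁ ≤ Xs ⊔ Xl := by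
  rw [← D.dat.cen0, ← D.o2_CZ hc]
  refine le_inf ?_ ?_
  · refine le_o2 ?_ ((D.pg S.isPGroup').to_le (zc_le _)) ?_
    · exact (zc_le _).trans (le_centralizer_zc _)
    · exact centralizer_le_normalizer _
  · rw [D.o2_CZ hc]
    exact (zc_le_centralizer _).trans (centralizer_le D.QQ_S₁)

theorem Xs_Us : Xs ≤ Us := D.dat.side_s.X_U
theorem Xl_Ul : Xl ≤ Ul := D.dat.side_l.X_U

theorem Z0_Us : Xs ⊔ Xl ≤ Us := sup_le D.Xs_Us D.dat.Xl_Us
theorem Z0_Ul : Xs ⊔ Xl ≤ Ul := sup_le D.dat.Xs_Ul D.Xl_Ul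

theorem X_comm {a b : G} (ha : a ∈ Xs) (hb : b ∈ Xl) : a * b = b * a :=
  D.Z0_comm (mem_sup_right hb) (D.Z0_QQ (mem_sup_left ha))

theorem exists_ab {x : G} (hx : x ∈ Xs ⊔ Xl) : ∃ a ∈ Xs, ∃ b ∈ Xl, x = a * b :=
  mem_sup_comm (fun _ ha _ hb => D.X_comm ha hb) hx

/-- `S₁ < S`: the elements of `X_s#` are not 2-central. -/
theorem not_zc (hc : IsCharacteristicTwoType G) {x g : G} (hx : x ∈ Xs ∨ x ∈ Xl) (h1 : x ≠ 1)
    (hz : g * x * g⁻¹ ∈ zc (S : Subgroup G)) : False := by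
  have key : ∀ {x g : G}, x ∈ Xs → x ≠ 1 → g * x * g⁻¹ ∈ zc (S : Subgroup G) → False := by
    intro x g hx h1 hz
    have h2 : (S : Subgroup G).map (MulAut.conj g⁻¹).toMonoidHom ≤ normalizer (Xs : Set G) := by
      rintro _ ⟨t, ht, rfl⟩
      refine D.cen_le_Xs hc hx h1 ?_
      have h3 : t ∈ centralizer ({g * x * g⁻¹} : Set G) :=
        mem_centralizer_singleton_iff.2 ((mem_zc.1 hz).2.1 t ht)
      have h4 := normalizer_centralizer_singleton (g := g⁻¹) t h3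
      have e : g⁻¹ * (g * x * g⁻¹) * g⁻¹⁻¹ = x := by group
      rw [e] at h4
      exact h4
    have h3 := D.syl _ (S.isPGroup'.map _) h2
    have h4 : Nat.card ((S : Subgroup G).map (MulAut.conj g⁻¹).toMonoidHom) = Nat.card (S : Subgroup G) :=
      (Nat.card_congr ((S : Subgroup G).equivMapOfInjective _ (MulAut.conj g⁻¹).injective).toEquiv).symm
    rw [h4] at h3
    exact absurd D.card_lt (not_lt.2 h3)
  rcases hx with hx | hx
  · exact key hx h1 hz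
  · obtain ⟨s, hs, hs1⟩ := D.swap
    have h2 : s * x * s⁻¹ ∈ Xs := (D.takX hs hs1).2.mem hx
    have h3 : s * x * s⁻¹ ≠ 1 := fun h => h1 (by
      have e : x = s⁻¹ * (s * x * s⁻¹) * s := by group
      rw [e, h]; group)
    refine key (g := g * s⁻¹) h2 h3 ?_
    have e : g * s⁻¹ * (s * x * s⁻¹) * (g * s⁻¹)⁻¹ = g * x * g⁻¹ := by group
    rwa [e]

/-- an element of `G` which conjugates an element of `X_s# ∪ X_l#` to an element of `X_s ∪ X_l` lies in `Y` -/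
theorem mem_Y (hc : IsCharacteristicTwoType G) {x g : G} (hx : x ∈ Xs ∨ x ∈ Xl) (h1 : x ≠ 1)
    (hg : g * x * g⁻¹ ∈ Xs ∨ g * x * g⁻¹ ∈ Xl) : g ∈ Y := by
  have hne : ∀ {x g : G}, x ≠ 1 → g * x * g⁻¹ ≠ 1 := fun {x g} h1 h => h1 (by
      have e : x = g⁻¹ * (g * x * g⁻¹) * g := by group
      rw [e, h]; group)
  have key : ∀ {x g : G}, x ∈ Xs → x ≠ 1 → g * x * g⁻¹ ∈ Xs → g ∈ Y := by
    intro x g hx h1 hg
    obtain ⟨y, hy, -, -, h4⟩ := D.dat.side_s.trans _ hg _ hx (hne h1) h1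
    have h5 : y * g ∈ centralizer ({x} : Set G) := by
      rw [mem_centralizer_singleton_iff]
      have e : y * (g * x * g⁻¹) * y⁻¹ = y * g * x * (y * g)⁻¹ := by group
      rw [e] at h4
      calc y * g * x = y * g * x * (y * g)⁻¹ * (y * g) := by group
        _ = x * (y * g) := by rw [h4]
    have h6 := D.cen_le_Y hc (Or.inl hx) h1 h5
    have e : g = y⁻¹ * (y * g) := by group
    rw [e]
    exact mul_mem (inv_mem hy) h6
  obtain ⟨s, hs, hs1⟩ := D.swap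
  have hsY := D.S_Y hs
  have h2 : ∃ t ∈ Y, t * x * t⁻¹ ∈ Xs := by
    rcases hx with hx | hx
    · exact ⟨1, one_mem _, by simpa using hx⟩
    · exact ⟨s, hsY, (D.takX hs hs1).2.mem hx⟩
  have h3 : ∃ t ∈ Y, t * (g * x * g⁻¹) * t⁻¹ ∈ Xs := by
    rcases hg with hg | hg
    · exact ⟨1, one_mem _, by simpa using hg⟩
    · exact ⟨s, hsY, (D.takX hs hs1).2.mem hg⟩
  obtain ⟨t, ht, h4⟩ := h2
  obtain ⟨r, hr, h5⟩ := h3
  have h6 := key (g := r * g * t⁻¹) h4 (hne h1) (by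
    have e : r * g * t⁻¹ * (t * x * t⁻¹) * (r * g * t⁻¹)⁻¹ = r * (g * x * g⁻¹) * r⁻¹ := by group
    rwa [e])
  have e : g = r⁻¹ * (r * g * t⁻¹) * t := by group
  rw [e]
  exact mul_mem (mul_mem (inv_mem hr) h6) ht

end syl

end FFourG

end Cfsg.Agent.Omega.All.HOne

end

section


/-!
# END `F₄(q)` with a graph element (OMEGA #16413): `W ≤ Q_s Q_l` and (B)

* `FFourG.Js_inf`, `FFourG.Js_sup`, `FFourG.J0_comm` : `J_s ∩ J_l = Z₀`, `J₀ = J_s J_l`, `[J₀, Q_s Q_l] ≤ Z₀`;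
* `FFourG.W_le` : a subgroup of `S` normalised by `C_G(Ω₁(Z(S₁)))` lies in `Q_s Q_l`;
* `Pt` : an element `a` of `X_s ∩ Ω₁(Z(S₁))`, `s ∈ S - S₁`, `z = a a^s`;
* `FFourG.cen_z_le` : **(B)** `C_G(z) ≤ Y`.
-/

set_option autoImplicit false
set_option linter.unusedSectionVars false
set_option linter.unusedVariables false

namespace Cfsg.Agent.Omega.All.HOne

open Subgroup Cfsg Cfsg.Agent.ZN Cfsg.Agent.Omega.MinPar Cfsg.Agent.Omega.Frame
open Cfsg.Agent.Omega.FrameLE (AllIn)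
open Cfsg.Agent.Omega.FrameNOFF (CZ)
open Cfsg.Agent.MinSimple.VModule (le_o2 mem_zc zc_le zc_comm o2_le o2_isPGroup le_normalizer_o2 le_centralizer_zc
  zc_le_centralizer zc_sq normalizer_le_normalizer_zc)
open Cfsg.Agent.MinSimple.Basic (char2_centralizer)
open scoped commutatorElement

universe u

variable {G : Type u} [Group G]

theorem conj_ne_one {x g : G} (h : x ≠ 1) : g * x * g⁻¹ ≠ 1 := fun h2 => h (by
  have e : x = g⁻¹ * (g * x * g⁻¹) * g := by group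
  rw [e, h2]; group)

theorem el_inv {A : Subgroup G} (h : IsElementaryAbelian 2 A) {x : G} (hx : x ∈ A) : x⁻¹ = x := by
  have h1 := h.2 x hx
  rw [pow_two] at h1
  exact inv_eq_of_mul_eq_one_left h1

theorem el_comm {A : Subgroup G} (h : IsElementaryAbelian 2 A) {x y : G} (hx : x ∈ A) (hy : y ∈ A) :
    x * y = y * x := congrArg Subtype.val (h.1.is_comm.comm ⟨x, hx⟩ ⟨y, hy⟩)

/-- `a ∈ X_s# ∩ Ω₁(Z(S₁))`, `s ∈ S - S₁` -/
structure Pt (S S₁ Xs : Subgroup G) (s a : G) : Prop where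
  s_S : s ∈ S
  s_not : s ∉ S₁
  a_zc : a ∈ zc S₁
  a_X : a ∈ Xs
  a_ne : a ≠ 1

namespace FFourG

variable [Finite G] {S : Sylow 2 G} {S₁ S₀ Y Cs Cl Xs Xl Qs Ql Us Ul : Subgroup G}
  (D : FFourG (S : Subgroup G) S₁ S₀ Y Cs Cl Xs Xl Qs Ql Us Ul)
include D

theorem exists_pt : ∃ s a, Pt (S : Subgroup G) S₁ Xs s a := by
  obtain ⟨s, hs, hs1⟩ := D.swap
  obtain ⟨a, ha, hX, h1⟩ := D.exists_zs S.isPGroup'
  exact ⟨s, a, hs, hs1, ha, hX, h1⟩

/-! ### `J_s`, `J_l`, `J₀` -/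

theorem J_ne : Ul ⊓ Qs ≠ Us ⊓ Ql := by
  intro h
  have h1 := D.dat.commJs
  rw [h, D.dat.commJl] at h1
  exact D.Xs_ne_Xl h1.symm

theorem takJ {t : G} (ht : t ∈ (S : Subgroup G)) (h1 : t ∉ S₁) :
    Tak t (Ul ⊓ Qs) (Us ⊓ Ql) ∧ Tak t (Us ⊓ Ql) (Ul ⊓ Qs) :=
  ⟨(D.takU ht h1).2.inf (D.tak_of ht h1).1, (D.takU ht h1).1.inf (D.tak_of ht h1).2⟩

theorem takJ0 {t : G} (ht : t ∈ (S : Subgroup G)) (h1 : t ∉ S₁) : Tak t (Qs ⊓ Ql) (Qs ⊓ Ql) := by
  have h2 := (D.tak_of ht h1).1.inf (D.tak_of ht h1).2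
  rwa [inf_comm Ql Qs] at h2

theorem takZ0 {t : G} (ht : t ∈ (S : Subgroup G)) (h1 : t ∉ S₁) : Tak t (Xs ⊔ Xl) (Xs ⊔ Xl) := by
  have h2 := (D.takX ht h1).1.sup (D.takX ht h1).2
  rwa [sup_comm Xl Xs] at h2

theorem card_J : Nat.card ↥(Ul ⊓ Qs) = Nat.card ↥(Us ⊓ Ql) := by
  obtain ⟨s, hs, hs1⟩ := D.swap
  exact (D.takJ hs hs1).1.card

theorem not_le_J : ¬ Ul ⊓ Qs ≤ Us ⊓ Ql := fun h => D.J_ne (eq_of_le_of_card_ge h D.card_J.ge)

theorem not_le_J' : ¬ Us ⊓ Ql ≤ Ul ⊓ Qs := fun h => D.J_ne (eq_of_le_of_card_ge h D.card_J.le).symm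

theorem CZ_Js (hc : IsCharacteristicTwoType G) : CZ S₁ ≤ normalizer ((Ul ⊓ Qs : Subgroup G) : Set G) :=
  normalizer_inf_le (D.CZ_Ul hc) (D.CZ_Qs hc)

theorem CZ_Jl (hc : IsCharacteristicTwoType G) : CZ S₁ ≤ normalizer ((Us ⊓ Ql : Subgroup G) : Set G) :=
  normalizer_inf_le (D.CZ_Us hc) (D.CZ_Ql hc)

theorem CZ_J0 (hc : IsCharacteristicTwoType G) : CZ S₁ ≤ normalizer ((Qs ⊓ Ql : Subgroup G) : Set G) :=
  normalizer_inf_le (D.CZ_Qs hc) (D.CZ_Ql hc)

theorem CZ_Z0 (hc : IsCharacteristicTwoType G) : CZ S₁ ≤ normalizer ((Xs ⊔ Xl : Subgroup G) : Set G) :=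
  normalizer_sup_le (D.CZ_Xs hc) (D.CZ_Xl hc)

/-- `J_s ∩ J_l = Z₀` -/
theorem Js_inf (hc : IsCharacteristicTwoType G) : Ul ⊓ Qs ⊓ (Us ⊓ Ql) = Xs ⊔ Xl := by
  by_contra hne
  have h1 : Xs ⊔ Xl < Ul ⊓ Qs ⊓ (Us ⊓ Ql) := lt_of_le_of_ne (le_inf D.dat.lt_s.le D.dat.lt_l.le) fun h => hne h.symm
  rcases D.dat.two _ h1 (lt_of_le_of_lt inf_le_left D.dat.lt_s') (normalizer_inf_le (D.CZ_Js hc) (D.CZ_Jl hc))
    with h | h
  · exact D.not_le_J (h ▸ inf_le_right)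
  · exact D.not_le_J' (h ▸ inf_le_left)

/-- `J₀ = J_s J_l` -/
theorem Js_sup (hc : IsCharacteristicTwoType G) : (Ul ⊓ Qs) ⊔ (Us ⊓ Ql) = Qs ⊓ Ql := by
  by_contra hne
  have h1 : (Ul ⊓ Qs) ⊔ (Us ⊓ Ql) < Qs ⊓ Ql := lt_of_le_of_ne (sup_le D.dat.lt_s'.le D.dat.lt_l'.le) hne
  rcases D.dat.two _ (lt_of_lt_of_le D.dat.lt_s le_sup_left) h1 (normalizer_sup_le (D.CZ_Js hc) (D.CZ_Jl hc))
    with h | h
  · exact D.not_le_J' (h ▸ le_sup_right)
  · exact D.not_le_J (h ▸ le_sup_left)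

theorem Js_Jl_comm {a b : G} (ha : a ∈ Ul ⊓ Qs) (hb : b ∈ Us ⊓ Ql) : a * b = b * a := by
  have h1 := ha.1
  rw [D.dat.side_l.U_eq] at h1
  exact (mem_centralizer_iff.1 h1.2 b hb.2).symm

theorem exists_J (hc : IsCharacteristicTwoType G) {x : G} (hx : x ∈ Qs ⊓ Ql) :
    ∃ a ∈ Ul ⊓ Qs, ∃ b ∈ Us ⊓ Ql, x = a * b := by
  rw [← D.Js_sup hc] at hx
  exact mem_sup_comm (fun _ ha _ hb => D.Js_Jl_comm ha hb) hx

theorem Js_Js_comm {a b : G} (ha : a ∈ Ul ⊓ Qs) (hb : b ∈ Ul ⊓ Qs) : a * b = b * a :=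
  el_comm D.dat.side_l.U_el ha.1 hb.1

theorem Jl_Jl_comm {a b : G} (ha : a ∈ Us ⊓ Ql) (hb : b ∈ Us ⊓ Ql) : a * b = b * a :=
  el_comm D.dat.side_s.U_el ha.1 hb.1

/-- `J₀` is abelian -/
theorem J0_ab (hc : IsCharacteristicTwoType G) {x y : G} (hx : x ∈ Qs ⊓ Ql) (hy : y ∈ Qs ⊓ Ql) : x * y = y * x := by
  obtain ⟨a, ha, b, hb, rfl⟩ := D.exists_J hc hx
  obtain ⟨a', ha', b', hb', rfl⟩ := D.exists_J hc hy
  calc a * b * (a' * b') = a * (b * a') * b' := by group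
    _ = (a * a') * (b * b') := by rw [← D.Js_Jl_comm ha' hb]; group
    _ = (a' * a) * (b' * b) := by rw [D.Js_Js_comm ha ha', D.Jl_Jl_comm hb hb']
    _ = a' * (a * b') * b := by group
    _ = a' * b' * (a * b) := by rw [D.Js_Jl_comm ha hb']; group

theorem J0_sq (hc : IsCharacteristicTwoType G) {x : G} (hx : x ∈ Qs ⊓ Ql) : x * x = 1 := by
  obtain ⟨a, ha, b, hb, rfl⟩ := D.exists_J hc hx
  have h1 := D.dat.side_l.U_el.2 a ha.1
  have h2 := D.dat.side_s.U_el.2 b hb.1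
  rw [pow_two] at h1 h2
  calc a * b * (a * b) = a * (b * a) * b := by group
    _ = (a * a) * (b * b) := by rw [← D.Js_Jl_comm ha hb]; group
    _ = 1 := by rw [h1, h2, one_mul]

/-- `[J₀, Q_s Q_l] ≤ Z₀` -/
theorem J0_comm (hc : IsCharacteristicTwoType G) {j q : G} (hj : j ∈ Qs ⊓ Ql) (hq : q ∈ Qs ⊔ Ql) :
    j * q * j⁻¹ * q⁻¹ ∈ Xs ⊔ Xl := by
  obtain ⟨a, ha, b, hb, rfl⟩ := D.exists_J hc hj
  have h1 : a * q * a⁻¹ * q⁻¹ ∈ Xs := by
    rw [← D.dat.commJs, ← commutatorElement_def]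
    exact commutator_mem_commutator ha hq
  have h2 : b * q * b⁻¹ * q⁻¹ ∈ Xl := by
    rw [← D.dat.commJl, ← commutatorElement_def]
    exact commutator_mem_commutator hb hq
  have haQ : a ∈ Qs ⊔ Ql := mem_sup_left ha.2
  have h3 := D.Z0_comm (mem_sup_right h2 : b * q * b⁻¹ * q⁻¹ ∈ Xs ⊔ Xl) haQ
  have e : a * b * q * (a * b)⁻¹ * q⁻¹ = (b * q * b⁻¹ * q⁻¹) * (a * q * a⁻¹ * q⁻¹) := by
    calc a * b * q * (a * b)⁻¹ * q⁻¹ = a * (b * q * b⁻¹ * q⁻¹) * (q * a⁻¹ * q⁻¹) := by group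
      _ = (b * q * b⁻¹ * q⁻¹) * a * (q * a⁻¹ * q⁻¹) := by rw [h3]
      _ = _ := by group
  rw [e]
  exact mul_mem (mem_sup_right h2) (mem_sup_left h1)

theorem J0_QQ : Qs ⊓ Ql ≤ Qs ⊔ Ql := inf_le_left.trans le_sup_left

theorem Z0_J0 : Xs ⊔ Xl ≤ Qs ⊓ Ql := D.dat.lt_s.le.trans D.dat.lt_s'.le

/-- a `D₁`-invariant group between `Z₀` and `J₀` which meets `J_s` and `J_l` in `Z₀` is `Z₀` -/
theorem no_T (hc : IsCharacteristicTwoType G) {T : Subgroup G} (h1 : Xs ⊔ Xl ≤ T) (h2 : T ≤ Qs ⊓ Ql)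
    (h3 : CZ S₁ ≤ normalizer (T : Set G)) (h4 : T ⊓ (Ul ⊓ Qs) ≤ Xs ⊔ Xl) (h5 : T ⊓ (Us ⊓ Ql) ≤ Xs ⊔ Xl) :
    T ≤ Xs ⊔ Xl := by
  by_contra hT
  have h6 : Xs ⊔ Xl < T := lt_of_le_of_ne h1 fun h => hT h.ge
  have h7 : T < Qs ⊓ Ql := lt_of_le_of_ne h2 fun h => by
    rw [h, inf_eq_right.2 D.dat.lt_s'.le] at h4
    exact absurd D.dat.lt_s (not_lt_of_ge h4)
  rcases D.dat.two T h6 h7 h3 with h | h
  · rw [h, inf_idem] at h4
    exact absurd D.dat.lt_s (not_lt_of_ge h4)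
  · rw [h, inf_idem] at h5
    exact absurd D.dat.lt_l (not_lt_of_ge h5)

/-- A subgroup of `S` normalised by `D₁ = C_G(Ω₁(Z(S₁)))` lies in `Q_s Q_l`. -/
theorem W_le (hc : IsCharacteristicTwoType G) {W : Subgroup G} (hWS : W ≤ (S : Subgroup G))
    (hn : CZ S₁ ≤ normalizer (W : Set G)) : W ≤ Qs ⊔ Ql := by
  have hS₁ : S₁ ≤ CZ S₁ := le_centralizer_zc _
  have hW1 : W ⊓ S₁ ≤ Qs ⊔ Ql := by
    rw [← D.o2_CZ hc]
    refine le_o2 (inf_le_right.trans hS₁) ((D.pg S.isPGroup').to_le inf_le_right) ?_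
    refine le_normalizer_of fun d hd x hx => ?_
    have h1 := conj_mem_of_normalizer (hn hd) hx.1
    refine ⟨h1, D.mem_S₁ (hWS h1) ?_⟩
    have h2 := D.CZ_Xs hc hd
    exact mul_mem (mul_mem h2 (D.S₁_N hx.2)) (inv_mem h2)
  intro w hw
  by_cases hw1 : w ∈ S₁
  · exact hW1 ⟨hw, hw1⟩
  exfalso
  have hwS := hWS hw
  obtain ⟨hws, hwl⟩ := D.takJ hwS hw1
  have hwZ := D.takZ0 hwS hw1
  have hZs : Xs ⊔ Xl ≤ Ul ⊓ Qs := D.dat.lt_s.le
  have hZl : Xs ⊔ Xl ≤ Us ⊓ Ql := D.dat.lt_l.le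
  have hsJ : Ul ⊓ Qs ≤ Qs ⊓ Ql := D.dat.lt_s'.le
  have hlJ : Us ⊓ Ql ≤ Qs ⊓ Ql := D.dat.lt_l'.le
  -- the graph
  let f : ↥(Ul ⊓ Qs) →* G :=
    { toFun := fun j => (j : G) * (w * j * w⁻¹)
      map_one' := by simp
      map_mul' := by
        intro j j'
        have h1 := D.Js_Jl_comm j'.2 (hws.mem j.2)
        show (j : G) * j' * (w * ((j : G) * j') * w⁻¹) = (j : G) * (w * j * w⁻¹) * ((j' : G) * (w * j' * w⁻¹))
        calc (j : G) * j' * (w * ((j : G) * j') * w⁻¹) = j * (j' * (w * j * w⁻¹)) * (w * j' * w⁻¹) := by group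
          _ = j * ((w * j * w⁻¹) * j') * (w * j' * w⁻¹) := by rw [h1]
          _ = _ := by group }
  have hf : ∀ j : ↥(Ul ⊓ Qs), f j = (j : G) * (w * j * w⁻¹) := fun _ => rfl
  have hfJ : f.range ≤ Qs ⊓ Ql := by
    rintro _ ⟨j, rfl⟩
    rw [hf]
    exact mul_mem (hsJ j.2) (hlJ (hws.mem j.2))
  have hTmem : ∀ x ∈ f.range ⊔ (Xs ⊔ Xl), ∃ j : ↥(Ul ⊓ Qs), ∃ z ∈ Xs ⊔ Xl, x = f j * z := by
    intro x hx
    obtain ⟨a, ⟨j, rfl⟩, z, hz, h1⟩ := mem_sup_comm (fun a ha b hb => D.J0_ab hc (hfJ ha) (D.Z0_J0 hb)) hx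
    exact ⟨j, z, hz, h1⟩
  -- `f j ∈ J_s` implies `j ∈ Z₀`
  have hjs : ∀ j : ↥(Ul ⊓ Qs), f j ∈ Ul ⊓ Qs → (j : G) ∈ Xs ⊔ Xl := by
    intro j hj
    rw [hf] at hj
    have h1 : w * (j : G) * w⁻¹ ∈ Ul ⊓ Qs := (Subgroup.mul_mem_cancel_left _ j.2).1 hj
    have h2 : w * (j : G) * w⁻¹ ∈ Xs ⊔ Xl := by
      rw [← D.Js_inf hc]
      exact ⟨h1, hws.mem j.2⟩
    exact (hwZ _).2 h2
  have hjl : ∀ j : ↥(Ul ⊓ Qs), f j ∈ Us ⊓ Ql → (j : G) ∈ Xs ⊔ Xl := by
    intro j hj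
    rw [hf] at hj
    have h1 : (j : G) ∈ Us ⊓ Ql := (Subgroup.mul_mem_cancel_right _ (hws.mem j.2)).1 hj
    rw [← D.Js_inf hc]
    exact ⟨j.2, h1⟩
  have hfZ : ∀ j : ↥(Ul ⊓ Qs), (j : G) ∈ Xs ⊔ Xl → f j ∈ Xs ⊔ Xl := fun j hj => by
    rw [hf]
    exact mul_mem hj (hwZ.mem hj)
  have hT : f.range ⊔ (Xs ⊔ Xl) ≤ Xs ⊔ Xl := by
    refine D.no_T hc le_sup_right (sup_le hfJ D.Z0_J0) ?_ ?_ ?_
    · refine le_normalizer_of fun d hd x hx => ?_
      obtain ⟨j, z, hz, rfl⟩ := hTmem x hx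
      have hdj := conj_mem_of_normalizer (D.CZ_Js hc hd) j.2
      have hdz := conj_mem_of_normalizer (D.CZ_Z0 hc hd) hz
      -- `c = [d, w] ∈ W ∩ S₁ ≤ Q_s Q_l`
      have hcW : d * w * d⁻¹ * w⁻¹ ∈ W := mul_mem (conj_mem_of_normalizer (hn hd) hw) (inv_mem hw)
      have hcX : d * w * d⁻¹ * w⁻¹ ∈ normalizer (Xs : Set G) := by
        have h1 := (D.takX hwS hw1).2.norm (inv_mem (D.CZ_Xl hc hd))
        have e : d * w * d⁻¹ * w⁻¹ = d * (w * d⁻¹ * w⁻¹) := by group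
        rw [e]
        exact mul_mem (D.CZ_Xs hc hd) h1
      have hcQ := hW1 ⟨hcW, D.mem_S₁ (hWS hcW) hcX⟩
      set c := d * w * d⁻¹ * w⁻¹ with hcdef
      have hv := hws.mem hdj
      have h2 := D.J0_comm hc (inv_mem (hlJ hv)) hcQ
      have e : d * (f j * z) * d⁻¹ = f ⟨_, hdj⟩ * (((w * (d * j * d⁻¹) * w⁻¹)⁻¹ * c *
          (w * (d * j * d⁻¹) * w⁻¹)⁻¹⁻¹ * c⁻¹) * (d * z * d⁻¹)) := by
        rw [hf, hf, hcdef]
        group
      rw [e]
      exact mul_mem (mem_sup_left ⟨_, rfl⟩) (mem_sup_right (mul_mem h2 hdz))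
    · rintro x ⟨hx, hxs⟩
      obtain ⟨j, z, hz, rfl⟩ := hTmem x hx
      exact mul_mem (hfZ j (hjs j ((Subgroup.mul_mem_cancel_right _ (hZs hz)).1 hxs))) hz
    · rintro x ⟨hx, hxs⟩
      obtain ⟨j, z, hz, rfl⟩ := hTmem x hx
      exact mul_mem (hfZ j (hjl j ((Subgroup.mul_mem_cancel_right _ (hZl hz)).1 hxs))) hz
  apply absurd D.dat.lt_s (not_lt_of_ge _)
  intro j hj
  have h1 : f ⟨j, hj⟩ ∈ Xs ⊔ Xl := hT (mem_sup_left ⟨_, rfl⟩)
  exact hjs ⟨j, hj⟩ (hZs h1)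

end FFourG

end Cfsg.Agent.Omega.All.HOne

end

section


/-!
# END `F₄(q)` with a graph element (OMEGA #16413): (B) `C_G(z) ≤ Y`

`Pt S S₁ X_s s a` : `s ∈ S - S₁`, `1 ≠ a ∈ X_s ∩ Ω₁(Z(S₁))`; `b = s a s⁻¹`, `z = a b ∈ Ω₁(Z(S))`.

* `FFourG.typ3` : an element of `X_s#` is conjugate to an element of `U_s ∪ U_l` only in `Y`;
* `FFourG.typz` : the same for `z`, modulo `C_G(z)`;
* `FFourG.cen_z_le` : `C_G(z) ≤ Y`.
-/

set_option autoImplicit false
set_option linter.unusedSectionVars false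
set_option linter.unusedVariables false

namespace Cfsg.Agent.Omega.All.HOne

open Subgroup Cfsg Cfsg.Agent.ZN Cfsg.Agent.Omega.MinPar Cfsg.Agent.Omega.Frame
open Cfsg.Agent.Omega.FrameLE (AllIn)
open Cfsg.Agent.Omega.FrameNOFF (CZ)
open Cfsg.Agent.MinSimple.VModule (le_o2 mem_zc zc_le zc_comm o2_le o2_isPGroup le_normalizer_o2 le_centralizer_zc
  zc_le_centralizer zc_sq normalizer_le_normalizer_zc)
open Cfsg.Agent.MinSimple.Basic (char2_centralizer)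
open scoped commutatorElement

universe u

variable {G : Type u} [Group G]

namespace FFourG

variable [Finite G] {S : Sylow 2 G} {S₁ S₀ Y Cs Cl Xs Xl Qs Ql Us Ul : Subgroup G}
  (D : FFourG (S : Subgroup G) S₁ S₀ Y Cs Cl Xs Xl Qs Ql Us Ul)
include D

section pt

variable {s a : G} (p : Pt (S : Subgroup G) S₁ Xs s a)
include p

theorem b_X : s * a * s⁻¹ ∈ Xl := (D.takX p.s_S p.s_not).1.mem p.a_X

theorem b_ne : s * a * s⁻¹ ≠ 1 := conj_ne_one p.a_ne

theorem b_zc : s * a * s⁻¹ ∈ zc S₁ :=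
  conj_mem_of_normalizer (normalizer_le_normalizer_zc _ (D.norm_S₁ p.s_S)) p.a_zc

theorem z_ne : a * (s * a * s⁻¹) ≠ 1 := by
  intro h
  have h1 : a = (s * a * s⁻¹)⁻¹ := eq_inv_of_mul_eq_one_left h
  have h2 : a ∈ Xs ⊓ Xl := mem_inf.2 ⟨p.a_X, by rw [h1]; exact Subgroup.inv_mem _ (D.b_X p)⟩
  rw [D.dat.Xs_Xl] at h2
  exact p.a_ne (mem_bot.1 h2)

theorem ab_comm : a * (s * a * s⁻¹) = s * a * s⁻¹ * a := D.X_comm p.a_X (D.b_X p)

theorem z_zc₁ : a * (s * a * s⁻¹) ∈ zc S₁ := mul_mem p.a_zc (D.b_zc p)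

theorem z_conj_s : s * (a * (s * a * s⁻¹)) * s⁻¹ = a * (s * a * s⁻¹) := by
  have h1 := (mem_zc.1 p.a_zc).2.1 _ (D.sq_mem p.s_S p.s_not)
  calc s * (a * (s * a * s⁻¹)) * s⁻¹ = (s * a * s⁻¹) * ((s * s) * a) * (s * s)⁻¹ := by group
    _ = (s * a * s⁻¹) * (a * (s * s)) * (s * s)⁻¹ := by rw [h1]
    _ = s * a * s⁻¹ * a := by group
    _ = _ := (D.ab_comm p).symm

theorem z_zc : a * (s * a * s⁻¹) ∈ zc (S : Subgroup G) := by
  have h1 := mem_zc.1 (D.z_zc₁ p)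
  refine mem_zc.2 ⟨D.S₁_S h1.1, fun t ht => ?_, h1.2.2⟩
  by_cases ht1 : t ∈ S₁
  · exact h1.2.1 t ht1
  · have h2 := D.inv_mul p.s_S p.s_not ht ht1
    have h3 := h1.2.1 _ h2
    have h4 := D.z_conj_s p
    set z := a * (s * a * s⁻¹) with hz
    calc t * z = s * (s⁻¹ * t * z) := by group
      _ = s * z * s⁻¹ * t := by rw [h3]; group
      _ = z * t := by rw [h4]

theorem z_cen : (S : Subgroup G) ≤ centralizer ({a * (s * a * s⁻¹)} : Set G) := fun t ht =>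
  mem_centralizer_singleton_iff.2 ((mem_zc.1 (D.z_zc p)).2.1 t ht)

/-- type 3: one `Y`-class -/
theorem typ3_z {w : G} (hw : w ∈ Xs ⊔ Xl) (h1 : w ∉ Xs) (h2 : w ∉ Xl) :
    ∃ y ∈ Y, y * w * y⁻¹ = a * (s * a * s⁻¹) := by
  obtain ⟨a', ha', b', hb', rfl⟩ := D.exists_ab hw
  have ha1 : a' ≠ 1 := fun h => h2 (by rw [h, one_mul]; exact hb')
  have hb1 : b' ≠ 1 := fun h => h1 (by rw [h, mul_one]; exact ha')
  obtain ⟨y, hy, h3, h4⟩ := D.trans2 a' ha' b' hb' a p.a_X _ (D.b_X p) ha1 hb1 p.a_ne (D.b_ne p)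
  refine ⟨y, hy, ?_⟩
  calc y * (a' * b') * y⁻¹ = (y * a' * y⁻¹) * (y * b' * y⁻¹) := by group
    _ = _ := by rw [h3, h4]

end pt

/-- an element of `U_s ∪ U_l` is `Y`-conjugate to an element of `Z₀` -/
theorem typ (hc : IsCharacteristicTwoType G) {u : G} (hu : u ∈ Us ∨ u ∈ Ul) : ∃ y ∈ Y, y * u * y⁻¹ ∈ Xs ⊔ Xl := by
  rcases hu with hu | hu
  · obtain ⟨y, hy, h⟩ := D.dat.side_s.typ u hu
    exact ⟨y, hy, D.zc_le_Z0 hc h⟩
  · obtain ⟨y, hy, h⟩ := D.dat.side_l.typ u hu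
    exact ⟨y, hy, D.zc_le_Z0 hc h⟩

/-- (*) : an element of `X_s# ∪ X_l#` is conjugate to an element of `U_s ∪ U_l` only in `Y` -/
theorem pr (hc : IsCharacteristicTwoType G) {x g : G} (hx : x ∈ Xs ∨ x ∈ Xl) (h1 : x ≠ 1)
    (hg : g * x * g⁻¹ ∈ Us ∨ g * x * g⁻¹ ∈ Ul) : g ∈ Y := by
  obtain ⟨y, hy, h2⟩ := D.typ hc hg
  have e : y * (g * x * g⁻¹) * y⁻¹ = (y * g) * x * (y * g)⁻¹ := by group
  rw [e] at h2
  have h3 : y * g ∈ Y := by
    by_cases h4 : (y * g) * x * (y * g)⁻¹ ∈ Xs ∨ (y * g) * x * (y * g)⁻¹ ∈ Xl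
    · exact D.mem_Y hc hx h1 h4
    · exfalso
      push Not at h4
      obtain ⟨s, a, p⟩ := D.exists_pt
      obtain ⟨y', -, h5⟩ := D.typ3_z p h2 h4.1 h4.2
      refine D.not_zc hc (g := y' * (y * g)) hx h1 ?_
      have e2 : y' * (y * g) * x * (y' * (y * g))⁻¹ = y' * (y * g * x * (y * g)⁻¹) * y'⁻¹ := by group
      rw [e2, h5]
      exact D.z_zc p
  have e2 : g = y⁻¹ * (y * g) := by group
  rw [e2]
  exact mul_mem (inv_mem hy) h3

section pt2

variable {s a : G} (p : Pt (S : Subgroup G) S₁ Xs s a)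
include p

/-- (**) : `z` is conjugate to an element of `U_s ∪ U_l` only by elements of `Y C_G(z)` -/
theorem pr_z (hc : IsCharacteristicTwoType G) {g : G}
    (hg : g * (a * (s * a * s⁻¹)) * g⁻¹ ∈ Us ∨ g * (a * (s * a * s⁻¹)) * g⁻¹ ∈ Ul) :
    ∃ y ∈ Y, y * g ∈ centralizer ({a * (s * a * s⁻¹)} : Set G) := by
  obtain ⟨y, hy, h2⟩ := D.typ hc hg
  have hz := D.z_zc p
  have hne := D.z_ne p
  set z := a * (s * a * s⁻¹) with hzdef
  have e : y * (g * z * g⁻¹) * y⁻¹ = (y * g) * z * (y * g)⁻¹ := by group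
  rw [e] at h2
  by_cases h4 : (y * g) * z * (y * g)⁻¹ ∈ Xs ∨ (y * g) * z * (y * g)⁻¹ ∈ Xl
  · exfalso
    refine D.not_zc hc (g := (y * g)⁻¹) h4 (conj_ne_one hne) ?_
    have e2 : (y * g)⁻¹ * (y * g * z * (y * g)⁻¹) * (y * g)⁻¹⁻¹ = z := by group
    rwa [e2]
  · push Not at h4
    obtain ⟨y', hy', h5⟩ := D.typ3_z p h2 h4.1 h4.2
    refine ⟨y' * y, mul_mem hy' hy, ?_⟩
    rw [mem_centralizer_singleton_iff]
    calc y' * y * g * z = (y' * (y * g * z * (y * g)⁻¹) * y'⁻¹) * (y' * y * g) := by group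
      _ = z * (y' * y * g) := by rw [h5]

/-- the conjugates of `a` under `C_G(z)` in `J₀`: `Δ` -/
theorem orb (hc : IsCharacteristicTwoType G) {h : G} (hh : h ∈ centralizer ({a * (s * a * s⁻¹)} : Set G))
    (hU : h * a * h⁻¹ ∈ Us ∨ h * a * h⁻¹ ∈ Ul) : h * a * h⁻¹ = a ∨ h * a * h⁻¹ = s * a * s⁻¹ := by
  have hY := D.pr hc (Or.inl p.a_X) p.a_ne hU
  have hb := D.b_X p
  have h1 : h * (a * (s * a * s⁻¹)) * h⁻¹ = a * (s * a * s⁻¹) := by
    rw [mem_centralizer_singleton_iff.1 hh]; group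
  have huniq : ∀ {x x' y y' : G}, x ∈ Xs → x' ∈ Xs → y ∈ Xl → y' ∈ Xl → x * y = x' * y' → x = x' ∧ y = y' := by
    intro x x' y y' hx hx' hy hy' he
    have h2 : x'⁻¹ * x = y' * y⁻¹ := by
      calc x'⁻¹ * x = x'⁻¹ * (x * y) * y⁻¹ := by group
        _ = x'⁻¹ * (x' * y') * y⁻¹ := by rw [he]
        _ = _ := by group
    have h3 : x'⁻¹ * x ∈ Xs ⊓ Xl := mem_inf.2 ⟨Subgroup.mul_mem _ (Subgroup.inv_mem _ hx') hx, by
      rw [h2]; exact Subgroup.mul_mem _ hy' (Subgroup.inv_mem _ hy)⟩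
    rw [D.dat.Xs_Xl] at h3
    have h4 := mem_bot.1 h3
    have h5 : x = x' := (inv_mul_eq_one.1 h4).symm
    rw [h5] at he
    exact ⟨h5, mul_left_cancel he⟩
  rcases D.cenY a p.a_X _ hb p.a_ne (D.b_ne p) h hY h1 with h2 | h2
  · left
    refine (huniq (y := h * (s * a * s⁻¹) * h⁻¹) (y' := s * a * s⁻¹) h2.1 p.a_X h2.2 hb ?_).1
    calc h * a * h⁻¹ * (h * (s * a * s⁻¹) * h⁻¹) = h * (a * (s * a * s⁻¹)) * h⁻¹ := by group
      _ = _ := h1
  · right
    refine (huniq (x := h * (s * a * s⁻¹) * h⁻¹) (x' := a) h2.2 p.a_X h2.1 hb ?_).2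
    calc h * (s * a * s⁻¹) * h⁻¹ * (h * a * h⁻¹) = h * (s * a * s⁻¹ * a) * h⁻¹ := by group
      _ = _ := by rw [← D.ab_comm p]; exact h1

end pt2

theorem takQQ {t : G} (ht : t ∈ (S : Subgroup G)) (h1 : t ∉ S₁) : Tak t (Qs ⊔ Ql) (Qs ⊔ Ql) := by
  have h2 := (D.tak_of ht h1).1.sup (D.tak_of ht h1).2
  rwa [sup_comm Ql Qs] at h2

theorem faith_s {w : G} (hw : w ∈ Qs ⊔ Ql) (h : ∀ q ∈ Qs, w * q * w⁻¹ * q⁻¹ ∈ Us) : w ∈ Qs := by
  obtain ⟨s, hs, hs1⟩ := D.swap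
  rw [(D.tak_of hs hs1).1 w]
  refine D.faith _ ((D.takQQ hs hs1).mem hw) fun q hq => ?_
  have h1 := (D.takU hs hs1).1.mem (h _ ((D.tak_of hs hs1).1.mem' hq))
  have e : s * (w * (s⁻¹ * q * s) * w⁻¹ * (s⁻¹ * q * s)⁻¹) * s⁻¹ =
      s * w * s⁻¹ * q * (s * w * s⁻¹)⁻¹ * q⁻¹ := by group
  rwa [e] at h1

variable {s a : G} (p : Pt (S : Subgroup G) S₁ Xs s a)
include p

/-- **(B)** `C_G(z) ≤ Y` -/
theorem cen_z_le (hc : IsCharacteristicTwoType G) : centralizer ({a * (s * a * s⁻¹)} : Set G) ≤ Y := by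
  have hzS := D.z_cen p
  have hz1 := D.z_ne p
  have hzz := D.z_zc p
  have hzz₁ := D.z_zc₁ p
  have hbX := D.b_X p
  have horb := fun h => D.orb p hc (h := h)
  have hsas : s * a * s⁻¹ = s * a * s⁻¹ := rfl
  set b := s * a * s⁻¹ with hb
  set z := a * b with hz
  set H := centralizer ({z} : Set G) with hH
  set W := o2 H with hW
  have hD1 : CZ S₁ ≤ H := centralizer_le (by
    intro w hw
    rw [Set.mem_singleton_iff] at hw
    rw [hw]; exact hzz₁)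
  have hWS : W ≤ (S : Subgroup G) := Cfsg.Agent.MinSimple.VModule.o2_le_of_sylow S.isPGroup'
    (Cfsg.Agent.MinSimple.Basic.not_dvd_relIndex S hzS)
  have hHW : H ≤ normalizer (W : Set G) := le_normalizer_o2 _
  have hWQ : W ≤ Qs ⊔ Ql := D.W_le hc hWS (hD1.trans hHW)
  have hQH : Qs ⊔ Ql ≤ H := D.QQ_S.trans hzS
  have hZW : Xs ⊔ Xl ≤ W := by
    intro x hx
    refine char2_centralizer hc (zc_sq _ z hzz) hz1 ⟨hQH (D.Z0_QQ hx), ?_⟩
    exact mem_centralizer_iff.2 fun w hw => D.Z0_comm hx (hWQ hw)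
  set A := zc W with hA
  have hHA : H ≤ normalizer (A : Set G) := hHW.trans (normalizer_le_normalizer_zc _)
  have hAW : A ≤ W := zc_le _
  have hZA : Xs ⊔ Xl ≤ A := fun x hx => mem_zc.2 ⟨hZW hx, fun w hw => D.Z0_comm hx (hWQ hw), by
    rw [pow_two]; exact D.J0_sq hc (D.Z0_J0 hx)⟩
  by_contra hY
  obtain ⟨h, hh, hhY⟩ := SetLike.not_le_iff_exists.1 hY
  have hy0 : h * a * h⁻¹ ∈ A := conj_mem_of_normalizer (hHA hh) (hZA (mem_sup_left p.a_X))
  have hy0U : ¬ (h * a * h⁻¹ ∈ Us ∨ h * a * h⁻¹ ∈ Ul) := fun h1 => hhY (D.pr hc (Or.inl p.a_X) p.a_ne h1)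
  have hy0Z : h * a * h⁻¹ ∉ Xs ⊔ Xl := fun h1 => hy0U (Or.inl (D.Z0_Us h1))
  -- (ii)
  have hJA : Qs ⊓ Ql ≤ A := by
    have hZJ : Xs ⊔ Xl ≤ A ⊓ (Qs ⊓ Ql) := le_inf hZA D.Z0_J0
    have hDn : CZ S₁ ≤ normalizer ((A ⊓ (Qs ⊓ Ql) : Subgroup G) : Set G) :=
      normalizer_inf_le (hD1.trans hHA) (D.CZ_J0 hc)
    have hne : A ⊓ (Qs ⊓ Ql) ≠ Xs ⊔ Xl := by
      intro heq
      have hA0 : A ≤ Qs ⊓ Ql := by
        intro α hα
        have hcomm : ∀ q ∈ Qs ⊔ Ql, α * q * α⁻¹ * q⁻¹ ∈ Xs ⊔ Xl := by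
          intro q hq
          rw [← heq]
          refine mem_inf.2 ⟨?_, ?_⟩
          · have e : α * q * α⁻¹ * q⁻¹ = α * (q * α⁻¹ * q⁻¹) := by group
            rw [e]
            exact mul_mem hα (conj_mem_of_normalizer (hHA (hQH hq)) (inv_mem hα))
          · rw [← D.dat.comm0, ← commutatorElement_def]
            exact commutator_mem_commutator (hWQ (hAW hα)) hq
        exact mem_inf.2 ⟨D.faith_s (hWQ (hAW hα)) fun q hq => D.Z0_Us (hcomm q (mem_sup_left hq)),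
          D.faith α (hWQ (hAW hα)) fun q hq => D.Z0_Ul (hcomm q (mem_sup_right hq))⟩
      rw [inf_eq_left.2 hA0] at heq
      exact hy0Z (heq ▸ hy0)
    by_contra hJA
    have h1 : Xs ⊔ Xl < A ⊓ (Qs ⊓ Ql) := lt_of_le_of_ne hZJ hne.symm
    have h2 : A ⊓ (Qs ⊓ Ql) < Qs ⊓ Ql := lt_of_le_of_ne inf_le_right fun h => hJA (inf_eq_right.1 h)
    have hs : Tak s (A ⊓ (Qs ⊓ Ql)) (A ⊓ (Qs ⊓ Ql)) :=
      (tak_norm.2 (hHA (hzS p.s_S))).inf (D.takJ0 p.s_S p.s_not)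
    rcases D.dat.two _ h1 h2 hDn with h | h
    · rw [h] at hs
      exact D.J_ne (hs.eq (D.takJ p.s_S p.s_not).1)
    · rw [h] at hs
      exact D.J_ne (hs.eq (D.takJ p.s_S p.s_not).2).symm
  -- (iii)
  have hAJ : A ≤ Qs ⊓ Ql := by
    refine D.elJ A (hAW.trans hWQ) ⟨⟨⟨fun x y => Subtype.ext (zc_comm W x x.2 y y.2)⟩⟩, zc_sq W⟩
      (hzS.trans hHA) fun e he j hj => ?_
    exact zc_comm _ _ he _ (hJA hj)
  -- (iv)
  let Δ : G → Prop := fun y => ∃ h ∈ H, y = h * a * h⁻¹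
  have hΔJ : ∀ {y : G}, Δ y → y ∈ Qs ⊓ Ql := by
    rintro _ ⟨h, hh, rfl⟩
    exact hAJ (conj_mem_of_normalizer (hHA hh) (hZA (mem_sup_left p.a_X)))
  have hΔU : ∀ {y : G}, Δ y → (y ∈ Us ∨ y ∈ Ul) → y = a ∨ y = b := by
    rintro _ ⟨h, hh, rfl⟩ hU
    exact horb h hh hU
  have hΔc : ∀ {y g : G}, Δ y → g ∈ H → Δ (g * y * g⁻¹) := by
    rintro _ g ⟨h, hh, rfl⟩ hg
    exact ⟨g * h, mul_mem hg hh, by group⟩
  have hΔa : Δ a := ⟨1, one_mem _, by group⟩
  have hΔb : Δ b := ⟨s, hzS p.s_S, hb⟩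
  have hΔZ : ∀ {y : G}, Δ y → y ≠ a → y ≠ b → ∀ x ∈ Xs ⊔ Xl, Δ (y * x) := by
    intro y hy hya hyb x hx
    obtain ⟨x₁, hx₁, x₂, hx₂, rfl⟩ := D.exists_ab hx
    have hU : ¬ (y ∈ Us ∨ y ∈ Ul) := fun h1 => by
      rcases hΔU hy h1 with h2 | h2
      · exact hya h2
      · exact hyb h2
    push Not at hU
    obtain ⟨q, hq, hq1⟩ := D.mixQ_s y (hΔJ hy) hU.1 hU.2 x₁ hx₁
    have h1 : Δ (y * x₁) := hq1 ▸ hΔc hy (hQH hq)
    obtain ⟨q', hq', hq1'⟩ := D.mixQ_l (y * x₁) (hΔJ h1)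
      (fun h2 => hU.1 ((Subgroup.mul_mem_cancel_right _ (D.Z0_Us (mem_sup_left hx₁))).1 h2))
      (fun h2 => hU.2 ((Subgroup.mul_mem_cancel_right _ (D.Z0_Ul (mem_sup_left hx₁))).1 h2)) x₂ hx₂
    rw [← mul_assoc, ← hq1']
    exact hΔc h1 (hQH hq')
  have haa : a * a = 1 := D.J0_sq hc (hΔJ hΔa)
  have haz : a * z = b := by rw [hz, ← mul_assoc, haa, one_mul]
  have hzJ : z ∈ Qs ⊓ Ql := D.Z0_J0 (mul_mem (mem_sup_left p.a_X) (mem_sup_right hbX))
  have hΔz : ∀ {y : G}, Δ y → Δ (y * z) := by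
    rintro _ ⟨h, hh, rfl⟩
    have h1 : h * a * h⁻¹ * z = h * b * h⁻¹ := by
      have h2 := mem_centralizer_singleton_iff.1 (inv_mem hh)
      calc h * a * h⁻¹ * z = h * a * (h⁻¹ * z) := by group
        _ = h * (a * z) * h⁻¹ := by rw [h2]; group
        _ = _ := by rw [haz]
    rw [h1]
    exact hΔc hΔb hh
  have hΔmul : ∀ {x y : G}, Δ x → Δ y → y ≠ x → y ≠ x * z → Δ (x * y) := by
    rintro x y ⟨h, hh, hx⟩ hy h1 h2
    have h3 := hΔc hy (inv_mem hh)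
    rw [inv_inv] at h3
    have h4 : h⁻¹ * y * h ≠ a := fun h5 => h1 (by rw [hx, ← h5]; group)
    have h6 : h⁻¹ * y * h ≠ b := fun h5 => h2 (by
      have h7 := mem_centralizer_singleton_iff.1 (inv_mem hh)
      calc y = h * (h⁻¹ * y * h) * h⁻¹ := by group
        _ = h * (a * z) * h⁻¹ := by rw [h5, haz]
        _ = h * a * (h⁻¹ * z) := by rw [h7]; group
        _ = x * z := by rw [hx]; group)
    have h7 := hΔc (hΔZ h3 h4 h6 a (mem_sup_left p.a_X)) hh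
    have e : h * (h⁻¹ * y * h * a) * h⁻¹ = y * (h * a * h⁻¹) := by group
    rw [e, ← hx] at h7
    rw [D.J0_ab hc (hΔJ ⟨h, hh, hx⟩) (hΔJ hy)]
    exact h7
  have hzz2 : z * z = 1 := D.J0_sq hc hzJ
  have hinv : ∀ {y : G}, y ∈ Qs ⊓ Ql → y⁻¹ = y := fun hy => inv_eq_of_mul_eq_one_left (D.J0_sq hc hy)
  let D' : Subgroup G :=
    { carrier := {y | Δ y ∨ y = 1 ∨ y = z}
      mul_mem' := by
        rintro x y hx hy
        rcases hx with hx | rfl | rfl
        · rcases hy with hy | rfl | rfl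
          · by_cases h1 : y = x
            · right; left
              rw [h1]; exact D.J0_sq hc (hΔJ hx)
            · by_cases h2 : y = x * z
              · right; right
                rw [h2, ← mul_assoc, D.J0_sq hc (hΔJ hx), one_mul]
              · exact Or.inl (hΔmul hx hy h1 h2)
          · rw [mul_one]; exact Or.inl hx
          · exact Or.inl (hΔz hx)
        · rw [one_mul]; exact hy
        · rcases hy with hy | rfl | rfl
          · rw [D.J0_ab hc hzJ (hΔJ hy)]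
            exact Or.inl (hΔz hy)
          · rw [mul_one]; exact Or.inr (Or.inr rfl)
          · right; left; exact hzz2
      one_mem' := Or.inr (Or.inl rfl)
      inv_mem' := by
        intro x hx
        rcases hx with hx | rfl | rfl
        · rw [hinv (hΔJ hx)]; exact Or.inl hx
        · rw [inv_one]; exact Or.inr (Or.inl rfl)
        · rw [hinv hzJ]; exact Or.inr (Or.inr rfl) }
  have hD'mem : ∀ {y : G}, y ∈ D' ↔ Δ y ∨ y = 1 ∨ y = z := Iff.rfl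
  have hD'J : D' ≤ Qs ⊓ Ql := by
    intro y hy
    rcases hD'mem.1 hy with hy | rfl | rfl
    · exact hΔJ hy
    · exact one_mem _
    · exact hzJ
  have hD'n : H ≤ normalizer (D' : Set G) := by
    refine le_normalizer_of fun g hg y hy => ?_
    rcases hD'mem.1 hy with hy | rfl | rfl
    · exact Or.inl (hΔc hy hg)
    · right; left; group
    · right; right
      rw [mem_centralizer_singleton_iff.1 hg]; group
  have hZU : ∀ {y : G}, y ∈ D' → (y ∈ Us ∨ y ∈ Ul) → y ∈ Xs ⊔ Xl := by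
    intro y hy hU
    rcases hD'mem.1 hy with hy | rfl | rfl
    · rcases hΔU hy hU with rfl | h1
      · exact mem_sup_left p.a_X
      · rw [h1]; exact mem_sup_right hbX
    · exact one_mem _
    · exact mul_mem (mem_sup_left p.a_X) (mem_sup_right hbX)
  have hTmem : ∀ x ∈ D' ⊔ (Xs ⊔ Xl), ∃ d ∈ D', ∃ z' ∈ Xs ⊔ Xl, x = d * z' := fun x hx =>
    mem_sup_comm (fun a ha b hb => D.J0_ab hc (hD'J ha) (D.Z0_J0 hb)) hx
  have hT : D' ⊔ (Xs ⊔ Xl) ≤ Xs ⊔ Xl := by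
    refine D.no_T hc le_sup_right (sup_le hD'J D.Z0_J0)
      (normalizer_sup_le (hD1.trans hD'n) (D.CZ_Z0 hc)) ?_ ?_
    · rintro x ⟨hx, hxs⟩
      obtain ⟨d, hd, z', hz', rfl⟩ := hTmem x hx
      exact mul_mem (hZU hd (Or.inr ((Subgroup.mul_mem_cancel_right _ (D.Z0_Ul hz')).1 hxs.1))) hz'
    · rintro x ⟨hx, hxs⟩
      obtain ⟨d, hd, z', hz', rfl⟩ := hTmem x hx
      exact mul_mem (hZU hd (Or.inl ((Subgroup.mul_mem_cancel_right _ (D.Z0_Us hz')).1 hxs.1))) hz'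
  exact hy0Z (hT (mem_sup_left (Or.inl ⟨h, hh, rfl⟩)))

end FFourG

end Cfsg.Agent.Omega.All.HOne

end

section


/-!
# LEMMA E (OMEGA #14479), even-subset modules: `Y` contains `P`

`M : SymK S P V D k m`, `V = V_P`, `D = C_V(O²(P))`.

* `sym_cyc` : an element of `S` inducing `2^m`-cycles on the nonzero points;
* `sym_full` : `x = {a, b}`, `x' = {c, d}` two disjoint pairs of nonzero points of a summand, `C_P(x), C_P(x') ≤ Y`,
  `S ≤ Y`, the two transpositions lie in `Y`: then `P ≤ Y`.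
-/

set_option autoImplicit false
set_option linter.unusedSectionVars false

namespace Cfsg.Agent.Omega.All.HOne

open Subgroup Cfsg Cfsg.Agent.ZN Cfsg.Agent.Omega.MinPar Cfsg.Agent.Omega.FrameFF Cfsg.Agent.Omega.FFThm
open Cfsg.Agent.Omega.Half.SymA (cy cy_zero cy_succ cy_pow_succ cy_pow cy_pow_zero)
open Equiv (swap)

universe u

/-! ### Pairs and permutations -/

section perm

variable {n : ℕ}

/-- the pair `{a, b}` -/
def pr2 (a b : Fin n) (x : Fin n) : ZMod 2 := (if x = a then 1 else 0) + (if x = b then 1 else 0)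

theorem pr2_sum (a b : Fin n) : ∑ x, pr2 a b x = 0 := by
  unfold pr2
  rw [Finset.sum_add_distrib, Finset.sum_ite_eq' Finset.univ a, Finset.sum_ite_eq' Finset.univ b,
    if_pos (Finset.mem_univ _), if_pos (Finset.mem_univ _)]
  rfl

theorem pr2_left {a b : Fin n} (hab : a ≠ b) : pr2 a b a = 1 := by
  rw [pr2, if_pos rfl, if_neg hab, add_zero]

theorem pr2_right {a b : Fin n} (hab : a ≠ b) : pr2 a b b = 1 := by
  rw [pr2, if_pos rfl, if_neg hab.symm, zero_add]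

theorem pr2_of_ne {a b x : Fin n} (ha : x ≠ a) (hb : x ≠ b) : pr2 a b x = 0 := by
  rw [pr2, if_neg ha, if_neg hb, add_zero]

theorem pr2_comm (a b : Fin n) : pr2 a b = pr2 b a := by
  funext x
  rw [pr2, pr2, add_comm]

theorem pr2_apply (τ : Equiv.Perm (Fin n)) (a b x : Fin n) : pr2 (τ a) (τ b) (τ x) = pr2 a b x := by
  rw [pr2, pr2]
  simp only [τ.injective.eq_iff]

theorem pr2_sub (a b c : Fin n) : pr2 a c - pr2 b c = pr2 a b := by
  funext x
  rw [Pi.sub_apply, pr2, pr2, pr2, CharTwo.sub_eq_add]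
  generalize (if x = a then (1 : ZMod 2) else 0) = α
  generalize (if x = b then (1 : ZMod 2) else 0) = β
  generalize (if x = c then (1 : ZMod 2) else 0) = γ
  revert α β γ
  decide

theorem three_cycle_cube {p q r : Fin n} (hpq : p ≠ q) (hpr : p ≠ r) (hqr : q ≠ r) :
    (swap p q * swap p r) * (swap p q * swap p r) * (swap p q * swap p r) = 1 := by
  have h1 := (Equiv.Perm.isThreeCycle_swap_mul_swap_same hpq hpr hqr).orderOf
  have h2 := pow_orderOf_eq_one (swap p q * swap p r)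
  rw [h1, pow_succ, pow_two] at h2
  exact h2

/-- the swaps `(0 y)`, `y` not in `{a, b}` -/
theorem swap_mem {T : Subgroup (Equiv.Perm (Fin n))} {o a b c d : Fin n} (hcd : c ≠ d) (hca : c ≠ a) (hcb : c ≠ b)
    (hda : d ≠ a) (hdb : d ≠ b) (hoa : o ≠ a) (hob : o ≠ b) (hoc : o ≠ c) (hod : o ≠ d)
    (h3 : ∀ p q r : Fin n, p ≠ q → p ≠ r → q ≠ r → p ≠ a → p ≠ b → q ≠ a → q ≠ b → r ≠ a → r ≠ b →
      swap p q * swap p r ∈ T) (hs : swap c d ∈ T) {y : Fin n} (hya : y ≠ a) (hyb : y ≠ b) (hyo : y ≠ o) :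
    swap o y ∈ T := by
  have h1 : swap c o ∈ T := by
    have h2 := mul_mem hs (h3 c d o hcd hoc.symm hod.symm hca hcb hda hdb hoa hob)
    rwa [← mul_assoc, Equiv.swap_mul_self, one_mul] at h2
  by_cases hyc : y = c
  · rw [hyc, Equiv.swap_comm]; exact h1
  · rw [Equiv.swap_comm] at h1
    have h2 := mul_mem h1 (h3 o c y hoc hyo.symm (fun h => hyc h.symm) hoa hob hca hcb hya hyb)
    rwa [← mul_assoc, Equiv.swap_mul_self, one_mul] at h2

theorem eq_top_of_star {T : Subgroup (Equiv.Perm (Fin n))} {o : Fin n} (h : ∀ y, y ≠ o → swap o y ∈ T) :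
    T = ⊤ := by
  rw [eq_top_iff, ← Equiv.Perm.closure_isSwap, closure_le]
  rintro _ ⟨x, y, hxy, rfl⟩
  by_cases hx : x = o
  · rw [hx]
    exact h y fun h1 => hxy (hx.trans h1.symm)
  by_cases hy : y = o
  · rw [hy, Equiv.swap_comm]
    exact h x hx
  have h1 : swap x y = swap o x * swap o y * swap o x := by
    have h2 := Equiv.mul_swap_eq_swap_mul (swap o x) o y
    rw [Equiv.swap_apply_left, Equiv.swap_apply_of_ne_of_ne hy hxy.symm] at h2
    rw [h2, mul_assoc, Equiv.swap_mul_self, mul_one]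
  rw [SetLike.mem_coe, h1]
  exact mul_mem (mul_mem (h x hx) (h y hy)) (h x hx)

theorem cy_ne {m : ℕ} {x : Fin (2 ^ m + 1)} (hx : x ≠ 0) {r : ℕ} (hr : 0 < r) (hrm : r < 2 ^ m) :
    ((cy m) ^ r) x ≠ x := by
  obtain ⟨a, rfl⟩ := Fin.exists_succ_eq.2 hx
  rw [cy_pow_succ]
  intro h1
  rw [Fin.succ_inj] at h1
  have h2 : Fin.ofNat (2 ^ m) r = 0 := by
    have := add_eq_left.1 h1
    exact this
  have h3 := congrArg Fin.val h2
  simp only [Fin.ofNat, Fin.val_zero] at h3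
  rw [Nat.mod_eq_of_lt hrm] at h3
  omega

end perm

/-! ### The coordinates -/

section co

variable {G : Type u} [Group G] {S P : Subgroup G} {k m : ℕ} (M : SymK S P (zl S P) (cv S P) k m)

theorem sym_one : M.e 1 = 0 := by
  have h := M.mul 1 (one_mem _) 1 (one_mem _)
  rw [one_mul] at h
  exact left_eq_add.1 h

theorem sym_inv {v : G} (hv : v ∈ zl S P) : M.e v⁻¹ = -M.e v := by
  have h := M.mul v hv v⁻¹ (inv_mem hv)
  rw [mul_inv_cancel, sym_one] at h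
  exact (neg_eq_of_add_eq_zero_right h.symm).symm

theorem sym_div {v w : G} (hv : v ∈ zl S P) (hw : w ∈ zl S P) : M.e (v * w⁻¹) = M.e v - M.e w := by
  rw [M.mul v hv _ (inv_mem hw), sym_inv M hw, sub_eq_add_neg]

theorem sym_mem {v w : G} (hv : v ∈ zl S P) (hw : w ∈ zl S P) : v * w⁻¹ ∈ cv S P ↔ M.e v = M.e w := by
  rw [← M.ker _ (mul_mem hv (inv_mem hw)), sym_div M hv hw, sub_eq_zero]

/-- `v` is the pair `{a, b}` of the summand `i` -/
def IsPr (v : G) (i : Fin k) (a b : Fin (2 ^ m + 1)) : Prop := M.e v i = pr2 a b ∧ ∀ l, l ≠ i → M.e v l = 0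

theorem exists_isPr (i : Fin k) (a b : Fin (2 ^ m + 1)) : ∃ v ∈ zl S P, IsPr M v i a b := by
  obtain ⟨v, hv, hx⟩ := M.surj (Function.update (0 : Fin k → Fin (2 ^ m + 1) → ZMod 2) i (pr2 a b)) (by
    intro l
    by_cases hl : l = i
    · rw [hl, Function.update_self]; exact pr2_sum a b
    · rw [Function.update_of_ne hl]; exact Finset.sum_const_zero)
  refine ⟨v, hv, by rw [hx, Function.update_self], fun l hl => ?_⟩
  rw [hx, Function.update_of_ne hl]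
  rfl

theorem IsPr.eq {v v' : G} {i : Fin k} {a b : Fin (2 ^ m + 1)} (h : IsPr M v i a b) (h' : IsPr M v' i a b) :
    M.e v = M.e v' := by
  funext l
  by_cases hl : l = i
  · rw [hl, h.1, h'.1]
  · rw [h.2 l hl, h'.2 l hl]

/-- `g` induces `(σ, τ)` on the points: the image of a pair -/
theorem IsPr.conj {v : G} {i : Fin k} {a b : Fin (2 ^ m + 1)} (h : IsPr M v i a b) (hv : v ∈ zl S P) {g : G}
    {τ : Fin k → Equiv.Perm (Fin (2 ^ m + 1))} (hg : ActsSym M.e (zl S P) g 1 τ) :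
    IsPr M (g * v * g⁻¹) i (τ i a) (τ i b) := by
  constructor
  · funext x
    obtain ⟨y, rfl⟩ := (τ i).surjective x
    have h1 := hg v hv i y
    rw [Equiv.Perm.one_apply] at h1
    rw [h1, h.1, pr2_apply]
  · intro l hl
    funext x
    obtain ⟨y, rfl⟩ := (τ l).surjective x
    have h1 := hg v hv l y
    rw [Equiv.Perm.one_apply] at h1
    rw [h1, h.2 l hl]
    rfl

theorem IsPr.div {v w : G} {i : Fin k} {a b c : Fin (2 ^ m + 1)} (hv : v ∈ zl S P) (hw : w ∈ zl S P)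
    (h : IsPr M v i a c) (h' : IsPr M w i b c) : IsPr M (v * w⁻¹) i a b := by
  constructor
  · rw [sym_div M hv hw, Pi.sub_apply, h.1, h'.1, pr2_sub]
  · intro l hl
    rw [sym_div M hv hw, Pi.sub_apply, h.2 l hl, h'.2 l hl, sub_zero]

theorem IsPr.comm' {v : G} {i : Fin k} {a b : Fin (2 ^ m + 1)} (h : IsPr M v i a b) : IsPr M v i b a :=
  ⟨by rw [h.1, pr2_comm], h.2⟩

/-- `g` induces `τ` and centralises `D` -/
def AS (g : G) (τ : Fin k → Equiv.Perm (Fin (2 ^ m + 1))) : Prop :=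
  ActsSym M.e (zl S P) g 1 τ ∧ ∀ d ∈ cv S P, g * d = d * g

theorem acts_mul' {g h : G} {A B : Fin k → Equiv.Perm (Fin (2 ^ m + 1))} (hh : h ∈ P)
    (hA : ActsSym M.e (zl S P) g 1 A) (hB : ActsSym M.e (zl S P) h 1 B) :
    ActsSym M.e (zl S P) (g * h) 1 (A * B) := by
  intro v hv i x
  have e1 : g * h * v * (g * h)⁻¹ = g * (h * v * h⁻¹) * g⁻¹ := by group
  have h1 := hA _ (conjZ hh hv) i (B i x)
  have h2 := hB v hv i x
  rw [Equiv.Perm.one_apply] at h1 h2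
  rw [e1, Equiv.Perm.one_apply, Pi.mul_apply, Equiv.Perm.mul_apply, h1, h2]

theorem as_mul {g h : G} {A B : Fin k → Equiv.Perm (Fin (2 ^ m + 1))} (hh : h ∈ P)
    (hA : AS M g A) (hB : AS M h B) : AS M (g * h) (A * B) :=
  ⟨acts_mul' M hh hA.1 hB.1, fun d hd => (show Commute g d from hA.2 d hd).mul_left (hB.2 d hd)⟩

theorem as_inv {g : G} {A : Fin k → Equiv.Perm (Fin (2 ^ m + 1))} (hg : g ∈ P)
    (hA : AS M g A) : AS M g⁻¹ A⁻¹ := by
  refine ⟨fun v hv i x => ?_, fun d hd => (show Commute g d from hA.2 d hd).inv_left⟩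
  have h1 := hA.1 _ (conjZ (inv_mem hg) hv) i ((A i)⁻¹ x)
  have e1 : g * (g⁻¹ * v * g⁻¹⁻¹) * g⁻¹ = v := by group
  have e2 : A i ((A i)⁻¹ x) = x := (A i).apply_symm_apply x
  rw [e1, Equiv.Perm.one_apply, e2] at h1
  rw [Equiv.Perm.one_apply, Pi.inv_apply]
  exact h1.symm

theorem as_ker {g : G} (hg : g ∈ P) (hA : ActsSym M.e (zl S P) g 1 1) : g ∈ Ker S P := by
  refine ⟨hg, fun v hv => ?_⟩
  rw [sym_mem M (conjZ hg hv) hv]
  funext i x
  exact hA v hv i x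

/-- conjugation -/
theorem acts_conj {g h : G} {σ : Equiv.Perm (Fin k)} {ρ τ : Fin k → Equiv.Perm (Fin (2 ^ m + 1))} (hg : g ∈ P)
    (hh : h ∈ P) (hgA : ActsSym M.e (zl S P) g σ ρ) (hhA : ActsSym M.e (zl S P) h 1 τ) :
    ActsSym M.e (zl S P) (g * h * g⁻¹) 1
      fun j => ρ (σ.symm j) * τ (σ.symm j) * (ρ (σ.symm j))⁻¹ := by
  intro v hv j x
  obtain ⟨i, rfl⟩ := σ.surjective j
  have hw := conjZ (inv_mem hg) hv
  have e1 : g * h * g⁻¹ * v * (g * h * g⁻¹)⁻¹ = g * (h * (g⁻¹ * v * g⁻¹⁻¹) * h⁻¹) * g⁻¹ := by group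
  have e2 : g * (g⁻¹ * v * g⁻¹⁻¹) * g⁻¹ = v := by group
  have h1 := hgA _ (conjZ hh hw) i (τ i ((ρ i)⁻¹ x))
  have h2 := hhA _ hw i ((ρ i)⁻¹ x)
  have h3 := hgA _ hw i ((ρ i)⁻¹ x)
  have e3 : ρ i ((ρ i)⁻¹ x) = x := (ρ i).apply_symm_apply x
  rw [e2, e3] at h3
  rw [Equiv.Perm.one_apply] at h2
  rw [e1, Equiv.Perm.one_apply]
  beta_reduce
  rw [σ.symm_apply_apply, Equiv.Perm.mul_apply, Equiv.Perm.mul_apply, h1, h2, h3]

theorem as_conj {g h : G} {σ : Equiv.Perm (Fin k)} {ρ τ : Fin k → Equiv.Perm (Fin (2 ^ m + 1))} (hg : g ∈ P)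
    (hh : h ∈ P) (hgA : ActsSym M.e (zl S P) g σ ρ) (hhA : AS M h τ) :
    AS M (g * h * g⁻¹) fun j => ρ (σ.symm j) * τ (σ.symm j) * (ρ (σ.symm j))⁻¹ := by
  refine ⟨acts_conj M hg hh hgA hhA.1, fun d hd => ?_⟩
  have h1 := hhA.2 _ (conjD (inv_mem hg) hd)
  calc g * h * g⁻¹ * d = g * (h * (g⁻¹ * d * g⁻¹⁻¹)) * g⁻¹ := by group
    _ = d * (g * h * g⁻¹) := by rw [h1]; group

end co

/-! ### `Y` -/

section full

variable {G : Type u} [Group G] [Finite G] (hG : IsCharacteristicTwoType G) (S : Sylow 2 G) {P Y : Subgroup G}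
  (h : IsParS (S : Subgroup G) P) {k m : ℕ}
  (M : SymK (S : Subgroup G) P (zl (S : Subgroup G) P) (cv (S : Subgroup G) P) k m)
  (hSY : (S : Subgroup G) ≤ Y)
  (hCV : ∀ g ∈ P, (∀ v ∈ zl (S : Subgroup G) P, g * v = v * g) → g ∈ Y)

/-- all elements of `P` which induce `A` lie in `Y` -/
def IndS (A : Fin k → Equiv.Perm (Fin (2 ^ m + 1))) (Y : Subgroup G) : Prop :=
  ∀ g ∈ P, AS M g A → g ∈ Y

include hG h hCV

theorem inds_one : IndS S M 1 Y := fun g hg hA =>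
  hCV g hg (comm_of_both hG S h (as_ker M hg hA.1) hA.2)

theorem inds_of {g : G} {A : Fin k → Equiv.Perm (Fin (2 ^ m + 1))} (hg : g ∈ P) (hgY : g ∈ Y)
    (hA : AS M g A) : IndS S M A Y := by
  intro g' hg' hA'
  have h1 := as_mul M (inv_mem hg) hA' (as_inv M hg hA)
  rw [mul_inv_cancel] at h1
  have h2 := inds_one hG S h M hCV _ (mul_mem hg' (inv_mem hg)) h1
  have h3 := mul_mem h2 hgY
  rwa [inv_mul_cancel_right] at h3

theorem inds_mul {A B : Fin k → Equiv.Perm (Fin (2 ^ m + 1))} (hA : IndS S M A Y) (hB : IndS S M B Y) :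
    IndS S M (A * B) Y := by
  obtain ⟨a, ha, haA⟩ := M.lift A
  obtain ⟨b, hb, hbB⟩ := M.lift B
  exact inds_of hG S h M hCV (mul_mem ha hb) (mul_mem (hA a ha haA) (hB b hb hbB)) (as_mul M hb haA hbB)

theorem inds_inv {A : Fin k → Equiv.Perm (Fin (2 ^ m + 1))} (hA : IndS S M A Y) :
    IndS S M A⁻¹ Y := by
  obtain ⟨a, ha, haA⟩ := M.lift A
  exact inds_of hG S h M hCV (inv_mem ha) (inv_mem (hA a ha haA)) (as_inv M ha haA)

/-- the subgroup of the permutations in the summand `i` -/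
def TT (i : Fin k) : Subgroup (Equiv.Perm (Fin (2 ^ m + 1))) where
  carrier := {A | IndS S M (sg i A) Y}
  mul_mem' := by
    intro A B hA hB
    rw [Set.mem_ofPred_eq, sg_mul]
    exact inds_mul hG S h M hCV hA hB
  one_mem' := by
    rw [Set.mem_ofPred_eq, sg_one]
    exact inds_one hG S h M hCV
  inv_mem' := by
    intro A hA
    rw [Set.mem_ofPred_eq, sg_inv]
    exact inds_inv hG S h M hCV hA

theorem mem_TT {i : Fin k} {A : Equiv.Perm (Fin (2 ^ m + 1))} :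
    A ∈ TT hG S h M hCV i ↔ IndS S M (sg i A) Y := Iff.rfl

omit hCV in
/-- three-cycles off `{a, b}` fix `x = {a, b}` -/
theorem three_mem {x : G} (hx : x ∈ zl (S : Subgroup G) P) (hC : ∀ g ∈ P, g * x = x * g → g ∈ Y) {i : Fin k}
    {a b : Fin (2 ^ m + 1)} (hab : IsPr M x i a b) {p q r : Fin (2 ^ m + 1)} (hpq : p ≠ q) (hpr : p ≠ r)
    (hqr : q ≠ r) (hpa : p ≠ a) (hpb : p ≠ b) (hqa : q ≠ a) (hqb : q ≠ b) (hra : r ≠ a) (hrb : r ≠ b) :
    IndS S M (sg i (swap p q * swap p r)) Y := by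
  intro g hg hA
  apply hC g hg
  apply fix_of_cube hG S h hA.2 _ hx
  · rw [sym_mem M (conjZ hg hx) hx]
    have h1 := hab.conj M hx hA.1
    rw [sg_self, Equiv.Perm.mul_apply, Equiv.Perm.mul_apply, Equiv.swap_apply_of_ne_of_ne hpa.symm hra.symm,
      Equiv.swap_apply_of_ne_of_ne hpa.symm hqa.symm, Equiv.swap_apply_of_ne_of_ne hpb.symm hrb.symm,
      Equiv.swap_apply_of_ne_of_ne hpb.symm hqb.symm] at h1
    exact h1.eq M hab
  · have h2 := acts_mul' M hg (acts_mul' M hg hA.1 hA.1) hA.1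
    rw [← sg_mul, ← sg_mul, three_cycle_cube hpq hpr hqr, sg_one] at h2
    have h3 : g ^ 3 = g * g * g := by rw [pow_succ, pow_two]
    rw [h3]
    exact as_ker M (mul_mem (mul_mem hg hg) hg) h2

include hSY in
theorem inds_transfer {i : Fin k} (hi : ∀ A, IndS S M (sg i A) Y) (j : Fin k) (B : Equiv.Perm (Fin (2 ^ m + 1))) :
    IndS S M (sg j B) Y := by
  obtain ⟨t, ht, σ, ρ, hσ, hσi⟩ := M.trans i j
  have htP := h.le ht
  obtain ⟨g, hg, hgA⟩ := M.lift (sg i ((ρ i)⁻¹ * B * ρ i))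
  have h1 := hi _ g hg hgA
  have h2 := as_conj M htP hg hσ hgA
  have h3 : (fun j => ρ (σ.symm j) * sg i ((ρ i)⁻¹ * B * ρ i) (σ.symm j) * (ρ (σ.symm j))⁻¹) = sg j B := by
    funext l
    by_cases hl : l = j
    · have h4 : σ.symm l = i := by rw [hl, ← hσi, σ.symm_apply_apply]
      rw [h4, sg_self, hl, sg_self]
      group
    · have h4 : σ.symm l ≠ i := by
        intro h5
        apply hl
        rw [← hσi, ← h5, σ.apply_symm_apply]
      rw [sg_ne h4, sg_ne hl, mul_one, mul_inv_cancel]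
  rw [h3] at h2
  exact inds_of hG S h M hCV (mul_mem (mul_mem htP hg) (inv_mem htP))
    (mul_mem (mul_mem (hSY ht) h1) (inv_mem (hSY ht))) h2

include hSY in
/-- **all of `P` lies in `Y`** -/
theorem sym_full {i : Fin k} {a b c d : Fin (2 ^ m + 1)} (hca : c ≠ a) (hcb : c ≠ b)
    (hda : d ≠ a) (hdb : d ≠ b) (ha0 : a ≠ 0) (hb0 : b ≠ 0) (hc0 : c ≠ 0) (hd0 : d ≠ 0) (hab : a ≠ b)
    (hcd : c ≠ d) {x x' : G} (hx : x ∈ zl (S : Subgroup G) P) (hx' : x' ∈ zl (S : Subgroup G) P)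
    (hC : ∀ g ∈ P, g * x = x * g → g ∈ Y) (hC' : ∀ g ∈ P, g * x' = x' * g → g ∈ Y)
    (hxp : IsPr M x i a b) (hxp' : IsPr M x' i c d) (h1 : IndS S M (sg i (swap a b)) Y)
    (h2 : IndS S M (sg i (swap c d)) Y) : P ≤ Y := by
  have hall : TT hG S h M hCV i = ⊤ := by
    apply eq_top_of_star (o := 0)
    intro y hy
    by_cases hya : y = a ∨ y = b
    · have hyc : y ≠ c := by
        rintro rfl
        rcases hya with h3 | h3
        · exact hca h3
        · exact hcb h3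
      have hyd : y ≠ d := by
        rintro rfl
        rcases hya with h3 | h3
        · exact hda h3
        · exact hdb h3
      exact swap_mem hab hca.symm hda.symm hcb.symm hdb.symm hc0.symm hd0.symm ha0.symm hb0.symm
        (fun p q r hpq hpr hqr hpa hpb hqa hqb hra hrb =>
          three_mem hG S h M hx' hC' hxp' hpq hpr hqr hpa hpb hqa hqb hra hrb) h1 hyc hyd hy
    · push Not at hya
      exact swap_mem hcd hca hcb hda hdb ha0.symm hb0.symm hc0.symm hd0.symm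
        (fun p q r hpq hpr hqr hpa hpb hqa hqb hra hrb =>
          three_mem hG S h M hx hC hxp hpq hpr hqr hpa hpb hqa hqb hra hrb) h2 hya.1 hya.2 hy
  have hi : ∀ A, IndS S M (sg i A) Y := fun A => (mem_TT hG S h M hCV).1 (by rw [hall]; trivial)
  apply M.gen Y hSY
  intro g hg τ hτ hD
  exact sg_induction (p := fun A => IndS S M A Y) (inds_one hG S h M hCV) (fun _ _ => inds_mul hG S h M hCV)
    (inds_transfer hG S h M hSY hCV hi) τ g hg ⟨hτ, hD⟩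

omit hG hCV in
/-- **an element of `S` which induces `2^m`-cycles** -/
theorem sym_cyc (hm : 2 ≤ m) : ∃ t ∈ (S : Subgroup G), ∃ τ : Fin k → Equiv.Perm (Fin (2 ^ m + 1)),
    ActsSym M.e (zl (S : Subgroup G) P) t 1 τ ∧ ∀ i x, x ≠ 0 →
      τ i x ≠ x ∧ τ i (τ i x) ≠ x ∧ τ i (τ i (τ i x)) ≠ x := by
  -- a lift of the cycle
  obtain ⟨h0, hh, hact, hD⟩ := M.lift fun _ => cy m
  have hpow : ∀ n : ℕ, ActsSym M.e (zl (S : Subgroup G) P) (h0 ^ n) 1 (fun _ => (cy m) ^ n) := by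
    intro n
    induction n with
    | zero =>
      intro v hv i x
      simp
    | succ n ih =>
      have h1 := acts_mul' M hh ih hact
      rw [← pow_succ] at h1
      have h2 : ((fun _ => (cy m) ^ n) * (fun _ => cy m) : Fin k → Equiv.Perm (Fin (2 ^ m + 1))) =
          fun _ => (cy m) ^ (n + 1) := by
        funext i
        rw [Pi.mul_apply, pow_succ]
      rwa [h2] at h1
  -- its 2-part
  obtain ⟨a, N, hN, hord⟩ := Nat.exists_eq_two_pow_mul_odd (orderOf_pos h0).ne'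
  obtain ⟨u, hu⟩ : ∃ u, N * u ≡ 1 [MOD 2 ^ m] := by
    obtain ⟨u, -, hu⟩ := Nat.exists_mul_mod_eq_of_coprime (n := N) (k := 2 ^ m) 1
      (Nat.Coprime.pow_right m (Nat.coprime_two_right.2 hN)) (by positivity)
    exact ⟨u, hu⟩
  have hcN : (cy m) ^ (N * u) = cy m := by
    have := pow_eq_pow_of_modEq hu (cy_pow m)
    rwa [pow_one] at this
  have h2 := hpow (N * u)
  rw [hcN] at h2
  have hp2 : IsPGroup 2 (zpowers (h0 ^ (N * u))) := by
    have e : (h0 ^ (N * u)) ^ 2 ^ a = 1 := by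
      rw [← pow_mul]
      apply orderOf_dvd_iff_pow_eq_one.1
      rw [hord]
      exact ⟨u, by ring⟩
    rintro ⟨x, n, rfl⟩
    refine ⟨a, Subtype.ext ?_⟩
    change ((h0 ^ (N * u)) ^ n) ^ 2 ^ a = 1
    rw [← zpow_natCast, ← zpow_mul, mul_comm n, zpow_mul, zpow_natCast, e, one_zpow]
  obtain ⟨g, hg, hgS⟩ := FFThm.exists_conj_le S h.le hp2 (zpowers_le.2 (pow_mem hh _))
  have h3 : g * h0 ^ (N * u) * g⁻¹ ∈ (S : Subgroup G) := hgS ⟨_, mem_zpowers _, rfl⟩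
  obtain ⟨σ, ρ, hσ⟩ := M.perm g hg
  have h4 := acts_conj M hg (pow_mem hh _) hσ h2
  refine ⟨_, h3, _, h4, fun i x hx => ?_⟩
  have h5 := M.fix0 _ h3 _ _ h4 i
  beta_reduce at h5 ⊢
  obtain ⟨R, hR⟩ : ∃ R, R = ρ (σ.symm i) := ⟨_, rfl⟩
  rw [← hR] at h5 ⊢
  have hinv : ∀ y, R⁻¹ (R y) = y := fun y => R.symm_apply_apply y
  have h6 : cy m (R⁻¹ 0) = R⁻¹ 0 := by
    rw [Equiv.Perm.mul_apply, Equiv.Perm.mul_apply] at h5
    have h7 := congrArg (fun y => R⁻¹ y) h5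
    beta_reduce at h7
    rwa [hinv] at h7
  have hpos : 1 < 2 ^ m := Nat.one_lt_two_pow (by omega)
  have h4m : 4 ≤ 2 ^ m := by
    calc 4 = 2 ^ 2 := by norm_num
      _ ≤ 2 ^ m := Nat.pow_le_pow_right (by norm_num) hm
  have h7 : R⁻¹ 0 = 0 := by
    by_contra hne
    have := cy_ne hne (r := 1) one_pos hpos
    rw [pow_one] at this
    exact this h6
  have h8 : R⁻¹ x ≠ 0 := fun h9 => hx (R⁻¹.injective (h9.trans h7.symm))
  have hs : ∀ y, (R * cy m * R⁻¹) y = R (cy m (R⁻¹ y)) := fun y => rfl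
  refine ⟨?_, ?_, ?_⟩
  · rw [hs]
    intro h9
    have h10 := congrArg (fun y => R⁻¹ y) h9
    beta_reduce at h10
    rw [hinv] at h10
    have := cy_ne h8 (r := 1) one_pos hpos
    rw [pow_one] at this
    exact this h10
  · rw [hs, hs, hinv]
    intro h9
    have h10 := congrArg (fun y => R⁻¹ y) h9
    beta_reduce at h10
    rw [hinv] at h10
    have := cy_ne h8 (r := 2) two_pos (by omega)
    rw [pow_two, Equiv.Perm.mul_apply] at this
    exact this h10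
  · rw [hs, hs, hs, hinv, hinv]
    intro h9
    have h10 := congrArg (fun y => R⁻¹ y) h9
    beta_reduce at h10
    rw [hinv] at h10
    have := cy_ne h8 (r := 3) three_pos (by omega)
    rw [pow_succ, pow_two, Equiv.Perm.mul_apply, Equiv.Perm.mul_apply] at this
    exact this h10

end full

end Cfsg.Agent.Omega.All.HOne

end

section


/-!
# LEMMA E (OMEGA #14479)

`P ∈ P*(S)`, `P` not in `Y`, `S ≤ Y`, `V = V_P ≤ QQ`, `QQ` acts on the orthogonal space `U` as the group of Siegel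
elements of the singular point `X` (`Offer`), `C_G(x) ≤ Y` for `1 ≠ x ∈ X`.  Then `V ≤ C(U)` or `V ≤ U'`.
-/

set_option autoImplicit false
set_option linter.unusedSectionVars false

namespace Cfsg.Agent.Omega.All.HOne

open Subgroup Cfsg Cfsg.Agent.ZN Cfsg.Agent.Omega.MinPar Cfsg.Agent.Omega.FrameFF Cfsg.Agent.Omega.FFThm
open Cfsg.Agent.MinSimple.VModule (le_normalizer_zl)
open Equiv (swap)

universe u

variable {G : Type u} [Group G] [Finite G]

section sym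

variable (hG : IsCharacteristicTwoType G) (S : Sylow 2 G) {P Y : Subgroup G}
  (h : IsParS (S : Subgroup G) P) {k m : ℕ}
  (M : SymK (S : Subgroup G) P (zl (S : Subgroup G) P) (cv (S : Subgroup G) P) k m)

include hG h in
/-- an element of `U` outside `C(V)`: two points `a`, `b` and the transposition `(a b)` in `U` -/
theorem sym_pt {U : Subgroup G} (hUS : U ≤ (S : Subgroup G)) (hoff : Off (zl (S : Subgroup G) P) U) {u v₀ : G}
    (hu : u ∈ U) (hv₀ : v₀ ∈ zl (S : Subgroup G) P) (huv : u * v₀ ≠ v₀ * u) :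
    ∃ (i : Fin k) (a b : Fin (2 ^ m + 1)) (τ : Fin k → Equiv.Perm (Fin (2 ^ m + 1))), a ≠ b ∧ a ≠ 0 ∧ b ≠ 0 ∧
      AS M u τ ∧ τ i a = b ∧ τ i b = a ∧ ∃ b₀ ∈ U, AS M b₀ (sg i (swap a b)) := by
  obtain ⟨h1, h2⟩ := M.off U hUS hoff
  obtain ⟨τ, hτ, hτ2⟩ := h2 u hu
  obtain ⟨i, a, hia⟩ : ∃ i a, τ i a ≠ a := by
    by_contra hcon
    push Not at hcon
    apply huv
    have h3 : τ = 1 := by
      funext i
      ext1 x
      exact hcon i x
    rw [h3] at hτ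
    exact comm_of_sec hG S h (hUS hu) (as_ker M (h.le (hUS hu)) hτ).2 v₀ hv₀
  obtain ⟨h3, b₀, hb₀, hb₀a⟩ := hτ2 i a hia
  have h0 := M.fix0 u (hUS hu) 1 τ hτ i
  refine ⟨i, a, τ i a, τ, fun h4 => hia h4.symm, ?_, ?_, ⟨hτ, h1 u hu⟩, rfl, h3, b₀, hb₀, hb₀a, h1 b₀ hb₀⟩
  · rintro rfl
    exact hia h0
  · intro h4
    rw [h4, h0] at h3
    rw [← h3] at hia
    exact hia h0

include h in
/-- an element of `S` which moves `{a, b}` to a disjoint pair -/
theorem sym_move (hm : 2 ≤ m) {i : Fin k} {a b : Fin (2 ^ m + 1)} (hab : a ≠ b) (ha : a ≠ 0) (hb : b ≠ 0) :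
    ∃ t ∈ (S : Subgroup G), ∃ τ : Fin k → Equiv.Perm (Fin (2 ^ m + 1)),
      ActsSym M.e (zl (S : Subgroup G) P) t 1 τ ∧ τ i a ≠ a ∧ τ i a ≠ b ∧ τ i b ≠ a ∧ τ i b ≠ b ∧
        τ i a ≠ 0 ∧ τ i b ≠ 0 := by
  obtain ⟨t, ht, τ, hτ, hc⟩ := sym_cyc S h M hm
  have h0 := M.fix0 t ht 1 τ hτ i
  have hn0 : ∀ x, x ≠ 0 → τ i x ≠ 0 := fun x hx h1 => hx ((τ i).injective (h1.trans h0.symm))
  obtain ⟨a1, a2, a3⟩ := hc i a ha
  obtain ⟨b1, b2, b3⟩ := hc i b hb
  by_cases h1 : τ i a = b ∨ τ i b = a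
  · refine ⟨t * t, mul_mem ht ht, τ * τ, acts_mul' M (h.le ht) hτ hτ, ?_, ?_, ?_, ?_, ?_, ?_⟩ <;>
      rw [Pi.mul_apply, Equiv.Perm.mul_apply]
    · exact a2
    · rcases h1 with h1 | h1
      · rw [h1]; exact b1
      · rw [← h1] at a2 ⊢
        intro h2
        exact b3 h2
    · rcases h1 with h1 | h1
      · rw [← h1] at b2 ⊢
        intro h2
        exact a3 h2
      · rw [h1]; exact a1
    · exact b2
    · exact hn0 _ (hn0 _ ha)
    · exact hn0 _ (hn0 _ hb)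
  · push Not at h1
    exact ⟨t, ht, τ, hτ, a1, h1.1, h1.2, b1, hn0 _ ha, hn0 _ hb⟩

omit [Finite G] in
theorem isPr_moved {v : G} {i : Fin k} {a b c d : Fin (2 ^ m + 1)} (h1 : IsPr M v i a b) (h2 : IsPr M v i c d)
    (hab : a ≠ b) (hc : a ≠ c) (hd : a ≠ d) : False := by
  have h3 := h1.1.symm.trans h2.1
  have h4 := congrFun h3 a
  rw [pr2_left hab, pr2_of_ne hc hd] at h4
  exact one_ne_zero h4

variable {S₀ QQ U J X U' : Subgroup G} (O : Offer S₀ QQ U J X U') (hVQ : zl (S : Subgroup G) P ≤ QQ)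
  (hS₀ : S₀ ≤ (S : Subgroup G)) (hSU : (S : Subgroup G) ≤ normalizer (U : Set G))
  (hVU : ¬ zl (S : Subgroup G) P ≤ centralizer (U : Set G))

include hG h M O hVQ hS₀ hVU in
/-- (E1) `[V, J] = 1` -/
theorem sym_J (hm : 2 ≤ m) (hSY : (S : Subgroup G) ≤ Y) (hPY : ¬ P ≤ Y)
    (hX : ∀ t ∈ (S : Subgroup G), ∀ x ∈ X, x ≠ 1 → centralizer ({t * x * t⁻¹} : Set G) ≤ Y) :
    ∀ u ∈ J, ∀ v ∈ zl (S : Subgroup G) P, u * v = v * u := by
  have hUS : U ≤ (S : Subgroup G) := O.U_S₀.trans hS₀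
  by_contra hcon
  push Not at hcon
  obtain ⟨u, hu, v₀, hv₀, huv⟩ := hcon
  have huU := O.J_U hu
  have huS := hUS huU
  have huP := h.le huS
  obtain ⟨i, a, b, τ, hab, ha, hb, hτ, hτa, hτb, b₀, hb₀, hb₀a⟩ :=
    sym_pt hG S h M hUS (off_U S O hVQ hVU) huU hv₀ huv
  obtain ⟨v, hv, hvp⟩ := exists_isPr M i a 0
  have h1 := hvp.conj M hv hτ.1
  rw [hτa, M.fix0 u huS 1 τ hτ.1 i] at h1
  have hx : IsPr M (u * v * u⁻¹ * v⁻¹) i b a := h1.div M (conjZ huP hv) hv hvp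
  have hxX := O.comm u hu v (hVQ hv)
  have hxV : u * v * u⁻¹ * v⁻¹ ∈ zl (S : Subgroup G) P := mul_mem (conjZ huP hv) (inv_mem hv)
  set x := u * v * u⁻¹ * v⁻¹ with hxdef
  have hx' : IsPr M x i a b := hx.comm'
  have hne : ∀ {y : G} {c d : Fin (2 ^ m + 1)}, IsPr M y i c d → c ≠ d → y ≠ 1 := by
    rintro y c d hy hcd rfl
    have h2 := congrFun hy.1 c
    rw [sym_one, pr2_left hcd] at h2
    exact zero_ne_one h2
  obtain ⟨t, ht, γ, hγ, g1, g2, g3, g4, g5, g6⟩ := sym_move S h M hm (i := i) hab ha hb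
  have htP := h.le ht
  have htp := hx'.conj M hxV hγ
  have hcd : γ i a ≠ γ i b := fun h2 => hab ((γ i).injective h2)
  apply hPY
  have hC : ∀ g ∈ P, g * x = x * g → g ∈ Y := fun g _ hgx =>
    hX 1 (one_mem _) x hxX (hne hx' hab) (mem_centralizer_singleton_iff.2 (by simpa using hgx))
  have hC' : ∀ g ∈ P, g * (t * x * t⁻¹) = (t * x * t⁻¹) * g → g ∈ Y := fun g _ hgx =>
    hX t ht x hxX (hne hx' hab) (mem_centralizer_singleton_iff.2 hgx)
  have hCV : ∀ g ∈ P, (∀ v ∈ zl (S : Subgroup G) P, g * v = v * g) → g ∈ Y := fun g hg hgv =>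
    hC g hg (hgv x hxV)
  have hb₀S := hUS hb₀
  have h2 : IndS S M (sg i (swap a b)) Y := inds_of hG S h M hCV (h.le hb₀S) (hSY hb₀S) hb₀a
  have h3 : IndS S M (sg i (swap (γ i a) (γ i b))) Y := by
    have h4 := as_conj M htP (h.le hb₀S) hγ hb₀a
    have h5 : (fun j => γ ((1 : Equiv.Perm (Fin k)).symm j) * sg i (swap a b) ((1 : Equiv.Perm (Fin k)).symm j) *
        (γ ((1 : Equiv.Perm (Fin k)).symm j))⁻¹) = sg i (swap (γ i a) (γ i b)) := by
      funext l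
      have h6 : (1 : Equiv.Perm (Fin k)).symm l = l := rfl
      rw [h6]
      by_cases hl : l = i
      · rw [hl, sg_self, sg_self, Equiv.mul_swap_eq_swap_mul, mul_inv_cancel_right]
      · rw [sg_ne hl, sg_ne hl, mul_one, mul_inv_cancel]
    rw [h5] at h4
    have h6 := mul_mem (mul_mem ht hb₀S) (inv_mem ht)
    exact inds_of hG S h M hCV (h.le h6) (hSY h6) h4
  exact sym_full hG S h M hSY hCV g1 g2 g3 g4 ha hb g5 g6 hab hcd hxV (conjZ htP hxV) hC hC' hx' htp h2 h3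

include hG h M O hVQ hS₀ hSU hVU in
/-- (E2) -/
theorem sym_E (hm : 2 ≤ m) (hSY : (S : Subgroup G) ≤ Y) (hPY : ¬ P ≤ Y)
    (hSX : (S : Subgroup G) ≤ normalizer (X : Set G))
    (hX : ∀ x ∈ X, x ≠ 1 → centralizer ({x} : Set G) ≤ Y) : False := by
  have hVJ := sym_J hG S h M O hVQ hS₀ hVU hm hSY hPY fun t ht x hx h1 => hX _
    ((mem_normalizer_iff.1 (hSX ht) x).1 hx) fun h2 => h1 (by
      have h3 : t * x * t⁻¹ * t = 1 * t := by rw [h2]
      have e : t * x * t⁻¹ * t = t * x := by group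
      rw [e, one_mul] at h3
      exact mul_eq_left.1 h3)
  have hUS : U ≤ (S : Subgroup G) := O.U_S₀.trans hS₀
  obtain ⟨v₀, hv₀, hv₀U⟩ := SetLike.not_le_iff_exists.1 hVU
  obtain ⟨u, hu, huv⟩ : ∃ u ∈ U, u * v₀ ≠ v₀ * u := by
    by_contra hcon
    push Not at hcon
    exact hv₀U (mem_centralizer_iff.2 hcon)
  obtain ⟨i, a, b, τ, hab, ha, hb, hτ, hτa, hτb, b₀, hb₀, hb₀a⟩ :=
    sym_pt hG S h M hUS (off_U S O hVQ hVU) hu hv₀ huv
  obtain ⟨t, ht, γ, hγ, g1, g2, g3, g4, g5, g6⟩ := sym_move S h M hm (i := i) hab ha hb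
  have htP := h.le ht
  have hb₀P := h.le (hUS hb₀)
  have hcd : γ i a ≠ γ i b := fun h2 => hab ((γ i).injective h2)
  -- `b₁`
  have hb₁ : t * b₀ * t⁻¹ ∈ U := (mem_normalizer_iff.1 (hSU ht) b₀).1 hb₀
  have hb₁P := h.le (hUS hb₁)
  have hb₁a : AS M (t * b₀ * t⁻¹) (sg i (swap (γ i a) (γ i b))) := by
    have h4 := as_conj M htP hb₀P hγ hb₀a
    have h5 : (fun j => γ ((1 : Equiv.Perm (Fin k)).symm j) * sg i (swap a b) ((1 : Equiv.Perm (Fin k)).symm j) *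
        (γ ((1 : Equiv.Perm (Fin k)).symm j))⁻¹) = sg i (swap (γ i a) (γ i b)) := by
      funext l
      have h6 : (1 : Equiv.Perm (Fin k)).symm l = l := rfl
      rw [h6]
      by_cases hl : l = i
      · rw [hl, sg_self, sg_self, Equiv.mul_swap_eq_swap_mul, mul_inv_cancel_right]
      · rw [sg_ne hl, sg_ne hl, mul_one, mul_inv_cancel]
    rwa [h5] at h4
  -- the element `v = [g, w]` with `w = {a, b}`, `g` a three-cycle on `0, a, b`
  obtain ⟨g, hg, hgA, hgD⟩ := M.lift (sg i (swap 0 a * swap 0 b))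
  have hgAS : AS M g (sg i (swap 0 a * swap 0 b)) := ⟨hgA, hgD⟩
  obtain ⟨w, hw, hwp⟩ := exists_isPr M i a b
  have h1 := hwp.conj M hw hgA
  have ea : (swap (0 : Fin (2 ^ m + 1)) a * swap 0 b) a = 0 := by
    rw [Equiv.Perm.mul_apply, Equiv.swap_apply_of_ne_of_ne ha hab, Equiv.swap_apply_right]
  have eb : (swap (0 : Fin (2 ^ m + 1)) a * swap 0 b) b = a := by
    rw [Equiv.Perm.mul_apply, Equiv.swap_apply_right, Equiv.swap_apply_left]
  rw [sg_self, ea, eb] at h1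
  have hgw := conjZ hg hw
  have hv : g * w * g⁻¹ * w⁻¹ ∈ zl (S : Subgroup G) P := mul_mem hgw (inv_mem hw)
  have hvp : IsPr M (g * w * g⁻¹ * w⁻¹) i 0 b := h1.div M hgw hw hwp.comm'
  -- `b₀` moves `v`
  have h2 : g * w * g⁻¹ * w⁻¹ ∉ centralizer (U : Set G) := by
    intro h3
    have h4 := mem_centralizer_iff.1 h3 b₀ hb₀
    have h5 := hvp.conj M hv hb₀a.1
    rw [sg_self, Equiv.swap_apply_right, Equiv.swap_apply_of_ne_of_ne ha.symm hb.symm] at h5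
    have h6 : b₀ * (g * w * g⁻¹ * w⁻¹) * b₀⁻¹ = g * w * g⁻¹ * w⁻¹ := by rw [h4]; group
    rw [h6] at h5
    exact isPr_moved S M hvp.comm' h5.comm' hb hab.symm hb
  -- `b₁` fixes `v`
  have h3 : (t * b₀ * t⁻¹) * (g * w * g⁻¹ * w⁻¹) = (g * w * g⁻¹ * w⁻¹) * (t * b₀ * t⁻¹) := by
    apply fix_of_comm hG S h hg hb₁a.2 hgD _ hw
    · rw [sym_mem M (conjZ hb₁P hw) hw]
      have h4 := hwp.conj M hw hb₁a.1
      rw [sg_self, Equiv.swap_apply_of_ne_of_ne g1.symm g3.symm, Equiv.swap_apply_of_ne_of_ne g2.symm g4.symm] at h4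
      exact h4.eq M hwp
    · have h4 := as_mul M (inv_mem hg) (as_mul M (inv_mem hb₁P) (as_mul M hg hb₁a hgAS) (as_inv M hb₁P hb₁a))
        (as_inv M hg hgAS)
      have h5 : sg i (swap (γ i a) (γ i b)) * sg i (swap 0 a * swap 0 b) * (sg i (swap (γ i a) (γ i b)))⁻¹ *
          (sg i (swap 0 a * swap 0 b))⁻¹ = (1 : Fin k → Equiv.Perm (Fin (2 ^ m + 1))) := by
        have h6 : (swap 0 a * swap 0 b) * swap (γ i a) (γ i b) =
            swap (γ i a) (γ i b) * (swap (0 : Fin (2 ^ m + 1)) a * swap 0 b) := by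
          rw [Equiv.mul_swap_eq_swap_mul, Equiv.Perm.mul_apply, Equiv.Perm.mul_apply,
            Equiv.swap_apply_of_ne_of_ne g5 g2, Equiv.swap_apply_of_ne_of_ne g5 g1,
            Equiv.swap_apply_of_ne_of_ne g6 g4, Equiv.swap_apply_of_ne_of_ne g6 g3]
        rw [← sg_mul, ← sg_inv, ← sg_inv, ← sg_mul, ← sg_mul, ← h6, mul_inv_cancel_right, mul_inv_cancel, sg_one]
      rw [h5] at h4
      exact as_ker M (mul_mem (mul_mem (mul_mem hb₁P hg) (inv_mem hb₁P)) (inv_mem hg)) h4.1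
  have h4 := O.fix _ (hVQ hv) h2 _ hb₁ h3
  -- but `b₁` does not centralise `V`
  obtain ⟨w', hw', hwp'⟩ := exists_isPr M i (γ i a) 0
  have h5 := hwp'.conj M hw' hb₁a.1
  rw [sg_self, Equiv.swap_apply_left, Equiv.swap_apply_of_ne_of_ne g5.symm g6.symm] at h5
  have h6 : t * b₀ * t⁻¹ * w' * (t * b₀ * t⁻¹)⁻¹ = w' := by
    rw [hVJ _ h4 w' hw', mul_inv_cancel_right]
  rw [h6] at h5
  exact isPr_moved S M hwp' h5 g5 hcd g5

end sym

/-- **LEMMA E, (E1)**, without `S ≤ N(U)`, `S ≤ N(X)` (OMEGA #16413). -/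
theorem lemE1 (hFF : FFThm.Stmt.{u}) (hG : IsCharacteristicTwoType G) (S : Sylow 2 G)
    {P Y S₀ QQ U J X U' : Subgroup G} (h : IsParS (S : Subgroup G) P) (hSY : (S : Subgroup G) ≤ Y)
    (hPY : ¬ P ≤ Y) (O : Offer S₀ QQ U J X U') (hS₀ : S₀ ≤ (S : Subgroup G))
    (hX : ∀ t ∈ (S : Subgroup G), ∀ x ∈ X, x ≠ 1 → centralizer ({t * x * t⁻¹} : Set G) ≤ Y)
    (hVQ : zl (S : Subgroup G) P ≤ QQ) : ∀ u ∈ J, ∀ v ∈ zl (S : Subgroup G) P, u * v = v * u := by
  by_cases hVU : zl (S : Subgroup G) P ≤ centralizer (U : Set G)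
  · exact fun u hu v hv => mem_centralizer_iff.1 (hVU hv) u (O.J_U hu)
  have hUS : U ≤ (S : Subgroup G) := O.U_S₀.trans hS₀
  obtain ⟨-, hC⟩ := of_off hFF hG S h.toIsPar ((hUS.trans h.le).trans (le_normalizer_zl _ _)) (off_U S O hVQ hVU)
  rcases hC with ⟨F, i1, i2, i3, k, hk, ⟨M⟩⟩ | ⟨k, m, -, hm, ⟨M⟩⟩
  · refine nat_J hG S h M O hVQ hS₀ hVU hSY hPY fun x hx h1 => ?_
    have h2 := hX 1 (one_mem _) x hx h1
    rwa [one_mul, inv_one, mul_one] at h2
  · exact sym_J hG S h M O hVQ hS₀ hVU hm hSY hPY hX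

/-- **LEMMA E.** -/
theorem lemE (hFF : FFThm.Stmt.{u}) (hG : IsCharacteristicTwoType G) (S : Sylow 2 G)
    {P Y S₀ QQ U J X U' : Subgroup G} (h : IsParS (S : Subgroup G) P) (hSY : (S : Subgroup G) ≤ Y)
    (hPY : ¬ P ≤ Y) (O : Offer S₀ QQ U J X U') (hS₀ : S₀ ≤ (S : Subgroup G))
    (hSU : (S : Subgroup G) ≤ normalizer (U : Set G)) (hSX : (S : Subgroup G) ≤ normalizer (X : Set G))
    (hX : ∀ x ∈ X, x ≠ 1 → centralizer ({x} : Set G) ≤ Y) (hVQ : zl (S : Subgroup G) P ≤ QQ) :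
    zl (S : Subgroup G) P ≤ centralizer (U : Set G) ∨ zl (S : Subgroup G) P ≤ U' := by
  by_cases hVU : zl (S : Subgroup G) P ≤ centralizer (U : Set G)
  · exact Or.inl hVU
  right
  have hUS : U ≤ (S : Subgroup G) := O.U_S₀.trans hS₀
  have hoff := off_U S O hVQ hVU
  obtain ⟨-, hC⟩ := of_off hFF hG S h.toIsPar ((hUS.trans h.le).trans (le_normalizer_zl _ _)) hoff
  rcases hC with ⟨F, i1, i2, i3, k, hk, ⟨M⟩⟩ | ⟨k, m, -, hm, ⟨M⟩⟩
  · exact nat_E hG S h M O hVQ hS₀ hSU hVU hk hSY hPY hX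
  · exact (sym_E hG S h M O hVQ hS₀ hSU hVU hm hSY hPY hSX hX).elim

end Cfsg.Agent.Omega.All.HOne

end

section


/-!
# THEOREM F1-h1 (OMEGA #14479)

`FFThm.Stmt`, `S` a Sylow 2-subgroup, `V_P ≤ O₂(C_G(Z))` for all `P ∈ P*(S)`:

* `par_le_sp'`, `par_le_ffour'` : with `SpDat` resp. `FFourDat` every `P ∈ P(S)` lies in `Y`;
* `top_sp`, `top_ffour` : in case `Full S`, `Y = ⊤`.
-/

set_option autoImplicit false

namespace Cfsg.Agent.Omega.All.HOne

open Subgroup Cfsg Cfsg.Agent.ZN Cfsg.Agent.Omega.MinPar Cfsg.Agent.Omega.Frame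
open Cfsg.Agent.Omega.FrameLE (AllIn)

universe u

theorem lemE_prop (hFF : FFThm.Stmt.{u}) : LemE.{u} :=
  fun _ _ _ hG S _ _ _ _ _ _ _ _ h hSY hPY O hS₀ hSU hSX hX hVQ =>
    lemE hFF hG S h hSY hPY O hS₀ hSU hSX hX hVQ

variable {G : Type u} [Group G] [Finite G] {S : Sylow 2 G}

theorem par_le_sp' (hFF : FFThm.Stmt.{u}) (hc : IsCharacteristicTwoType G) {S₀ Y C Xs Qs Us Ul : Subgroup G}
    (D : SpDat (S : Subgroup G) S₀ Y C Xs Qs Us Ul) (hAll : AllIn (S : Subgroup G)) {P : Subgroup G}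
    (hP : IsPar (S : Subgroup G) P) : P ≤ Y := par_le_sp (lemE_prop hFF) hc D hAll hP

theorem top_sp (hFF : FFThm.Stmt.{u}) (hc : IsCharacteristicTwoType G) {S₀ Y C Xs Qs Us Ul : Subgroup G}
    (D : SpDat (S : Subgroup G) S₀ Y C Xs Qs Us Ul) (hAll : AllIn (S : Subgroup G)) (hF : Full (S : Subgroup G)) :
    Y = ⊤ := eq_top_sp (lemE_prop hFF) hc D hAll hF

theorem par_le_ffour' (hFF : FFThm.Stmt.{u}) (hc : IsCharacteristicTwoType G)
    {S₀ Y Cs Cl Xs Xl Qs Ql Us Ul : Subgroup G}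
    (D : FFourDat (S : Subgroup G) S₀ Y Cs Cl Xs Xl Qs Ql Us Ul) (hAll : AllIn (S : Subgroup G)) {P : Subgroup G}
    (hP : IsPar (S : Subgroup G) P) : P ≤ Y := par_le_ffour (lemE_prop hFF) hc D hAll hP

theorem top_ffour (hFF : FFThm.Stmt.{u}) (hc : IsCharacteristicTwoType G)
    {S₀ Y Cs Cl Xs Xl Qs Ql Us Ul : Subgroup G}
    (D : FFourDat (S : Subgroup G) S₀ Y Cs Cl Xs Xl Qs Ql Us Ul) (hAll : AllIn (S : Subgroup G))
    (hF : Full (S : Subgroup G)) : Y = ⊤ := eq_top_ffour (lemE_prop hFF) hc D hAll hF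

end Cfsg.Agent.Omega.All.HOne

end

section


/-!
# END `F₄(q)` with a graph element (OMEGA #16413)

`FFourG` : the data (K-side), `FFThm.Stmt`, `AllIn S`:

* `FFourG.norm_zc_le` : `N_G(Z) ≤ Y`;
* `FFourG.not_le_J0` : **(C1)** `V_P` is not contained in `J₀`;
* `FFourG.par_le` : every `P ∈ P(S)` lies in `Y`;
* `FFourG.top` : in case `Full S`, `Y = ⊤`.
-/

set_option autoImplicit false
set_option linter.unusedSectionVars false
set_option linter.unusedVariables false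

namespace Cfsg.Agent.Omega.All.HOne

open Subgroup Cfsg Cfsg.Agent.ZN Cfsg.Agent.Omega.MinPar Cfsg.Agent.Omega.Frame Cfsg.Agent.Omega.FrameFF
open Cfsg.Agent.Omega.FrameLE (AllIn)
open Cfsg.Agent.Omega.FrameNOFF (CZ)
open Cfsg.Agent.Omega.FFThm (elem_zl)
open Cfsg.Agent.MinSimple.VModule (le_o2 mem_zc zc_le zc_comm o2_le o2_isPGroup le_normalizer_o2 le_centralizer_zc
  zc_le_centralizer zc_sq normalizer_le_normalizer_zc zc_le_zl le_normalizer_zl)

universe u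

variable {G : Type u} [Group G]

namespace FFourG

variable [Finite G] {S : Sylow 2 G} {S₁ S₀ Y Cs Cl Xs Xl Qs Ql Us Ul : Subgroup G}
  (D : FFourG (S : Subgroup G) S₁ S₀ Y Cs Cl Xs Xl Qs Ql Us Ul)
include D

/-- `Z ≤ Ω₁(Z(S₁))` -/
theorem zc_le_zc : zc (S : Subgroup G) ≤ zc S₁ := by
  intro z hz
  have h1 := mem_zc.1 hz
  refine mem_zc.2 ⟨D.mem_S₁ h1.1 ?_, fun t ht => h1.2.1 t (D.S₁_S ht), h1.2.2⟩
  refine centralizer_le_normalizer _ (mem_centralizer_iff.2 fun x hx => ?_)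
  exact h1.2.1 x (D.S₁_S (D.dat.side_s.X_S hx))

variable {s a : G} (p : Pt (S : Subgroup G) S₁ Xs s a)
include p

/-- every element of `Z#` is `Y`-conjugate to `z` -/
theorem zc_typ (hc : IsCharacteristicTwoType G) {w : G} (hw : w ∈ zc (S : Subgroup G)) (h1 : w ≠ 1) :
    ∃ y ∈ Y, y * w * y⁻¹ = a * (s * a * s⁻¹) := by
  have key : ¬ (w ∈ Xs ∨ w ∈ Xl) := fun h2 => by
    refine D.not_zc hc (g := 1) h2 h1 ?_
    rw [one_mul, inv_one, mul_one]
    exact hw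
  push Not at key
  exact D.typ3_z p (D.zc_le_Z0 hc (D.zc_le_zc hw)) key.1 key.2

/-- `N_G(Z) ≤ Y` -/
theorem norm_zc_le' (hc : IsCharacteristicTwoType G) : normalizer (zc (S : Subgroup G) : Set G) ≤ Y := by
  intro g hg
  obtain ⟨y, hy, h1⟩ := D.zc_typ p hc (conj_mem_of_normalizer hg (D.z_zc p)) (conj_ne_one (D.z_ne p))
  have h2 : y * g ∈ centralizer ({a * (s * a * s⁻¹)} : Set G) := by
    rw [mem_centralizer_singleton_iff]
    calc y * g * (a * (s * a * s⁻¹)) = y * (g * (a * (s * a * s⁻¹)) * g⁻¹) * y⁻¹ * (y * g) := by group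
      _ = _ := by rw [h1]
  have h3 := D.cen_z_le p hc h2
  have e : g = y⁻¹ * (y * g) := by group
  rw [e]
  exact mul_mem (inv_mem hy) h3

omit p

theorem norm_zc_le (hc : IsCharacteristicTwoType G) : normalizer (zc (S : Subgroup G) : Set G) ≤ Y := by
  obtain ⟨s, a, p⟩ := D.exists_pt
  exact D.norm_zc_le' p hc

theorem norm_S_le (hc : IsCharacteristicTwoType G) : normalizer ((S : Subgroup G) : Set G) ≤ Y :=
  (normalizer_le_normalizer_zc _).trans (D.norm_zc_le hc)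

/-- `V_P ≤ Q_s Q_l` -/
theorem zl_le (hc : IsCharacteristicTwoType G) (hAll : AllIn (S : Subgroup G)) {P : Subgroup G}
    (hP : IsParS (S : Subgroup G) P) : zl (S : Subgroup G) P ≤ Qs ⊔ Ql := by
  refine (hAll P hP).trans (D.W_le hc ?_ ?_)
  · exact Cfsg.Agent.MinSimple.VModule.o2_le_of_sylow S.isPGroup'
      (Cfsg.Agent.MinSimple.Basic.not_dvd_relIndex S (le_centralizer_zc _))
  · exact (centralizer_le D.zc_le_zc).trans (le_normalizer_o2 _)

/-- **(C1)** `V_P` is not contained in `J₀`. -/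
theorem not_le_J0 (hc : IsCharacteristicTwoType G) {P : Subgroup G} (hP : IsParS (S : Subgroup G) P)
    (hPY : ¬ P ≤ Y) : ¬ zl (S : Subgroup G) P ≤ Qs ⊓ Ql := by
  intro hV
  obtain ⟨s, a, p⟩ := D.exists_pt
  obtain ⟨g, hg, hgY⟩ := SetLike.not_le_iff_exists.1 hPY
  have hgY' : g⁻¹ ∉ Y := fun h => hgY (by have := inv_mem h; rwa [inv_inv] at this)
  have hVn := le_normalizer_zl (S : Subgroup G) P
  have hz := D.z_zc p
  have hzY := D.cen_z_le p hc
  have hprz := fun h => D.pr_z p hc (g := h)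
  have hbX := D.b_X p
  set b := s * a * s⁻¹ with hb
  set z := a * b with hzdef
  have hw := conj_mem_of_normalizer (hVn hg) (zc_le_zl _ P hz)
  -- `z^g ∉ U_s ∪ U_l`
  have hwU : ¬ (g * z * g⁻¹ ∈ Us ∨ g * z * g⁻¹ ∈ Ul) := by
    intro h1
    obtain ⟨y, hy, h2⟩ := hprz g h1
    apply hgY
    have e : g = y⁻¹ * (y * g) := by group
    rw [e]
    exact mul_mem (inv_mem hy) (hzY h2)
  push Not at hwU
  -- `X_s ≤ V_P`
  obtain ⟨q, hq, hq1⟩ := D.mixQ_s _ (hV hw) hwU.1 hwU.2 a p.a_X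
  have hqP : q ∈ P := hP.le (D.QQ_S hq)
  have haV : a ∈ zl (S : Subgroup G) P := by
    have h1 := conj_mem_of_normalizer (hVn hqP) hw
    rw [hq1] at h1
    exact (Subgroup.mul_mem_cancel_left _ hw).1 h1
  have hv := conj_mem_of_normalizer (hVn (inv_mem hg)) haV
  -- `a^(g⁻¹) ∉ U_s ∪ U_l`
  have hvU : ¬ (g⁻¹ * a * g⁻¹⁻¹ ∈ Us ∨ g⁻¹ * a * g⁻¹⁻¹ ∈ Ul) := fun h1 =>
    hgY' (D.pr hc (Or.inl p.a_X) p.a_ne h1)
  push Not at hvU
  set v := g⁻¹ * a * g⁻¹⁻¹ with hvdef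
  -- `v z ∼ v`
  obtain ⟨q₁, hq₁, hv1⟩ := D.mixQ_s v (hV hv) hvU.1 hvU.2 a p.a_X
  have haU := D.Z0_Us (mem_sup_left p.a_X : a ∈ Xs ⊔ Xl)
  have haU' := D.Z0_Ul (mem_sup_left p.a_X : a ∈ Xs ⊔ Xl)
  have haJ : a ∈ Qs ⊓ Ql := D.Z0_J0 (mem_sup_left p.a_X)
  obtain ⟨q₂, hq₂, hv2⟩ := D.mixQ_l (v * a) (mul_mem (hV hv) haJ)
    (fun h2 => hvU.1 ((Subgroup.mul_mem_cancel_right _ haU).1 h2))
    (fun h2 => hvU.2 ((Subgroup.mul_mem_cancel_right _ haU').1 h2)) b hbX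
  -- `a ∼ v ∼ v z = z v ∼ z^g a ∼ z^g ∼ z`
  have hab := D.J0_ab hc (hV hv) (D.Z0_J0 (mul_mem (mem_sup_left p.a_X) (mem_sup_right hbX)) : z ∈ Qs ⊓ Ql)
  refine D.not_zc hc (x := a) (g := g⁻¹ * q⁻¹ * g * q₂ * q₁ * g⁻¹) (Or.inl p.a_X) p.a_ne ?_
  have e : g⁻¹ * q⁻¹ * g * q₂ * q₁ * g⁻¹ * a * (g⁻¹ * q⁻¹ * g * q₂ * q₁ * g⁻¹)⁻¹ = z := by
    calc g⁻¹ * q⁻¹ * g * q₂ * q₁ * g⁻¹ * a * (g⁻¹ * q⁻¹ * g * q₂ * q₁ * g⁻¹)⁻¹
        = g⁻¹ * q⁻¹ * g * (q₂ * (q₁ * v * q₁⁻¹) * q₂⁻¹) * g⁻¹ * q * g := by rw [hvdef]; group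
      _ = g⁻¹ * q⁻¹ * g * (v * z) * g⁻¹ * q * g := by rw [hv1, hv2, hzdef, mul_assoc v]
      _ = g⁻¹ * q⁻¹ * g * (z * v) * g⁻¹ * q * g := by rw [hab]
      _ = g⁻¹ * q⁻¹ * (g * z * g⁻¹ * a) * q * g := by rw [hvdef]; group
      _ = g⁻¹ * q⁻¹ * (q * (g * z * g⁻¹) * q⁻¹) * q * g := by rw [hq1]
      _ = z := by group
  rw [e]
  exact hz

/-- **The end for `F₄(q)` with a graph element.** -/
theorem par_le (hFF : FFThm.Stmt.{u}) (hc : IsCharacteristicTwoType G) (hAll : AllIn (S : Subgroup G))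
    {P : Subgroup G} (hP : IsPar (S : Subgroup G) P) : P ≤ Y := by
  by_cases hn : P ≤ normalizer (zc (S : Subgroup G) : Set G)
  · exact hn.trans (D.norm_zc_le hc)
  by_contra hPY
  have hPS : IsParS (S : Subgroup G) P := ⟨hP, hn⟩
  have hV := D.zl_le hc hAll hPS
  have hVn := le_normalizer_zl (S : Subgroup G) P
  apply D.not_le_J0 hc hPS hPY
  -- (C2)
  have hJs : ∀ u ∈ Ul ⊓ Qs, ∀ v ∈ zl (S : Subgroup G) P, u * v = v * u := by
    refine lemE1 hFF hc S hPS D.S_Y hPY D.dat.offer_l (D.dat.S₀_S.trans D.S₁_S) (fun t ht x hx h1 => ?_) hV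
    refine D.cen_le_Y hc ?_ (conj_ne_one h1)
    by_cases ht1 : t ∈ S₁
    · exact Or.inl (conj_mem_of_normalizer (D.S₁_N ht1) hx)
    · exact Or.inr ((D.takX ht ht1).1.mem hx)
  obtain ⟨s, hs, hs1⟩ := D.swap
  have hJl : ∀ u ∈ Us ⊓ Ql, ∀ v ∈ zl (S : Subgroup G) P, u * v = v * u := by
    intro u hu v hv
    have h1 := (D.takJ hs hs1).2.mem hu
    have h2 := conj_mem_of_normalizer (hVn (hPS.le hs)) hv
    have h3 := hJs _ h1 _ h2
    calc u * v = s⁻¹ * ((s * u * s⁻¹) * (s * v * s⁻¹)) * s := by group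
      _ = s⁻¹ * ((s * v * s⁻¹) * (s * u * s⁻¹)) * s := by rw [h3]
      _ = v * u := by group
  refine D.elJ _ hV (elem_zl hc S hPS.isLoc) (hPS.le.trans hVn) fun e he j hj => ?_
  obtain ⟨j₁, hj₁, j₂, hj₂, rfl⟩ := D.exists_J hc hj
  calc e * (j₁ * j₂) = (e * j₁) * j₂ := by group
    _ = j₁ * (e * j₂) := by rw [← hJs j₁ hj₁ e he]; group
    _ = j₁ * j₂ * e := by rw [← hJl j₂ hj₂ e he]; group

/-- `Full S`: `Y = G`. -/
theorem top (hFF : FFThm.Stmt.{u}) (hc : IsCharacteristicTwoType G) (hAll : AllIn (S : Subgroup G))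
    (hF : Full (S : Subgroup G)) : Y = ⊤ :=
  eq_top_of_par S hF (D.norm_S_le hc) fun _ hP => D.par_le hFF hc hAll hP

end FFourG

end Cfsg.Agent.Omega.All.HOne

end
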